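import Cfsg.Agent.GW.SD.Tools
import Cfsg.Agent.TwoFusion.QDWCentralizer

/-!
Simple groups with quasi-dihedral Sylow 2-subgroups and cyclic odd Sylow subgroups: 2-local facts.
-/

set_option autoImplicit false
set_option linter.unusedSectionVars false
set_option linter.style.haveILetI false

open Cfsg

namespace Cfsg.Agent.GW.SD

open Subgroup TwoGroups TwoFusion

universe u

variable {G : Type u} [Group G] [Finite G]

/-- Commuting `2`-elements lie in a common 2-subgroup. -/
theorem exists_two_group {x : G} (hx : IsPGroup 2 (zpowers x)) {R : Subgroup G} (hR : IsPGroup 2 R)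
    (hc : ∀ r ∈ R, x * r = r * x) :
    ∃ T : Subgroup G, IsPGroup 2 T ∧ x ∈ T ∧ R ≤ T := by
  refine ⟨zpowers x ⊔ R, hx.to_sup_of_normal_right' hR ?_, mem_sup_left (mem_zpowers x), le_sup_right⟩
  rw [zpowers_le, Subgroup.mem_normalizer_iff]
  intro r
  constructor <;> intro h
  · rwa [hc r h, mul_inv_cancel_right]
  · have := hc _ h
    rw [inv_mul_cancel_right] at this
    rwa [mul_left_cancel this] at h

theorem isPGroup_zpowers_of_pow {x : G} {k : ℕ} (h : x ^ (2 ^ k) = 1) : IsPGroup 2 (zpowers x) := by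
  obtain ⟨j, -, hj⟩ := (Nat.dvd_prime_pow Nat.prime_two).1 (orderOf_dvd_of_pow_eq_one h)
  exact IsPGroup.of_card (n := j) (by rw [Nat.card_zpowers, hj])

/-- The hypotheses. -/
structure Hyp (S : Sylow 2 G) (n : ℕ) (a b : (S : Subgroup G)) : Prop where
  qd : QDData n a b
  simple : IsSimpleGroup G
  cyc : OddCyclic G

namespace Hyp

variable {S : Sylow 2 G} {n : ℕ} {a b : (S : Subgroup G)} (h : Hyp S n a b)
include h

theorem card_S : Nat.card (S : Subgroup G) = 2 ^ (n + 1) := h.qd.card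

theorem eight_dvd : 8 ∣ Nat.card G := by
  refine dvd_trans ?_ (card_subgroup_dvd_card (S : Subgroup G))
  rw [h.card_S, show (8 : ℕ) = 2 ^ 3 by norm_num]
  exact pow_dvd_pow 2 (by linarith [h.qd.three_le])

theorem not_comm : ¬ IsMulCommutative G := fun hc => by
  obtain ⟨x, y, hxy⟩ := h.qd.not_commutative
  exact hxy (Subtype.ext (hc.1.comm (x : G) (y : G)))

theorem no_index_two (H : Subgroup G) : H.index ≠ 2 := by
  intro hH
  haveI := Subgroup.normal_of_index_eq_two hH
  haveI := h.simple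
  have h4 := Nat.le_of_dvd Nat.card_pos h.eight_dvd
  rcases (inferInstance : H.Normal).eq_bot_or_eq_top with rfl | rfl
  · rw [index_bot] at hH; omega
  · rw [index_top] at hH; omega

theorem all_conj : ∀ x y : G, orderOf x = 2 → orderOf y = 2 → IsConj x y := by
  have hq : Cfsg.IsQuasiDihedral (S : Subgroup G) := by
    have hc := h.card_S
    refine ⟨n, h.qd.three_le, hc, a, b, h.qd.order, orderOf_eq_prime (by rw [pow_two, h.qd.y_sq])
      (fun e => h.qd.notMem (e ▸ one_mem _)), ?_⟩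
    rw [h.qd.conj, ← zpow_natCast]
    congr 1
    rw [Nat.cast_sub Nat.one_le_two_pow]; push_cast; ring
  obtain ⟨c, -, -, -, hc⟩ := TwoFusion.isConj_involutions S (Or.inl hq) h.no_index_two
  exact fun x y hx hy => (hc x hx).symm.trans (hc y hy)

/-- The central involution. -/
theorem orderOf_z : orderOf (MC.zG n a) = 2 := MC.orderOf_zG h.qd.toMaxClassData

theorem zz : MC.zG n a * MC.zG n a = 1 := MC.zG_sq h.qd.toMaxClassData

theorem z_ne_one : MC.zG n a ≠ 1 := MC.zG_ne_one h.qd.toMaxClassData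

theorem z_mem : MC.zG n a ∈ (S : Subgroup G) := (a ^ (2 ^ (n - 1))).2

theorem z_comm {x : G} (hx : x ∈ (S : Subgroup G)) : MC.zG n a * x = x * MC.zG n a :=
  MC.zG_comm h.qd.toMaxClassData hx

theorem q_sq : MC.qG n a * MC.qG n a = MC.zG n a := MC.qG_sq h.qd.toMaxClassData

theorem orderOf_q : orderOf (MC.qG n a) = 4 := MC.orderOf_qG h.qd.toMaxClassData

theorem bb : (b : G) * b = 1 := congrArg Subtype.val h.qd.y_sq

theorem b_ne_z : (b : G) ≠ MC.zG n a := fun e => h.qd.notMem (by
  rw [show b = a ^ (2 ^ (n - 1)) from Subtype.ext e]; exact Subgroup.npow_mem_zpowers a _)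

theorem b_ne_one : (b : G) ≠ 1 := fun e => h.qd.notMem (by
  rw [show b = 1 from Subtype.ext e]; exact one_mem _)

theorem bq : (b : G) * MC.qG n a * (b : G)⁻¹ = (MC.qG n a)⁻¹ :=
  congrArg Subtype.val (MC.inverts_quarter h.qd.toMaxClassData h.qd.notMem)

theorem q_mem_zpowers_sq : MC.qG n a ∈ zpowers ((a : G) ^ 2) := by
  refine Subgroup.mem_zpowers_iff.2 ⟨(2 ^ (n - 3) : ℕ), ?_⟩
  rw [zpow_natCast, ← pow_mul, ← pow_succ', show n - 3 + 1 = n - 2 by have := h.qd.three_le; omega]
  simp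

theorem orderOf_a : orderOf (a : G) = 2 ^ n := by rw [Subgroup.orderOf_coe]; exact h.qd.order

theorem orderOf_a_sq : orderOf ((a : G) ^ 2) = 2 ^ (n - 1) := by
  have h3 := h.qd.three_le
  rw [orderOf_pow' _ two_ne_zero, h.orderOf_a,
    Nat.gcd_eq_right (dvd_pow_self 2 (by omega : n ≠ 0))]
  conv_lhs => rw [show n = n - 1 + 1 by omega, pow_succ]
  rw [Nat.mul_div_cancel _ two_pos]

/-- The involutions of `S`. -/
theorem inv_cases {s : (S : Subgroup G)} (hs : s * s = 1) :
    (s : G) = 1 ∨ (s : G) = MC.zG n a ∨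
      (s ∉ zpowers a ∧ ∃ j : ℤ, (a : G) ^ j * b * ((a : G) ^ j)⁻¹ = s) := by
  rcases h.qd.exists_eq s with ⟨i, rfl⟩ | ⟨i, rfl⟩
  · rcases MC.eq_invol h.qd.toMaxClassData (zpow_mem_zpowers a i) hs with e | e
    · left; rw [e]; rfl
    · right; left; rw [e]
  · right; right
    refine ⟨h.qd.zpow_mul_notMem i, ?_⟩
    obtain ⟨k, hk⟩ := h.qd.exists_conj_eq 0 i (by simpa using (h.qd.zpow_mul_y_sq_eq_one_iff i).1 hs)
    rw [zpow_zero, one_mul] at hk
    exact ⟨k, by simpa using congrArg Subtype.val hk⟩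

/-- An element commuting with an involution of `S` outside the cyclic subgroup squares to one. -/
theorem sq_eq_one_of_comm {s y : (S : Subgroup G)} (hs : s ∉ zpowers a) (hss : s * s = 1)
    (hc : y * s = s * y) : y * y = 1 := by
  obtain ⟨j, rfl⟩ := h.qd.exists_eq_of_notMem hs
  have key : ∀ m : ℤ, a ^ m * (a ^ j * b) = a ^ j * b * a ^ m → a ^ m * a ^ m = 1 := fun m hm => by
    obtain ⟨c, rfl⟩ := (h.qd.commute_zpow_zpow_mul m j).1 hm
    rw [← zpow_add, h.qd.zpow_eq_one]
    exact ⟨c, by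
      rw [show (2 : ℤ) ^ n = 2 ^ (n - 1) * 2 by
        rw [← pow_succ, show n - 1 + 1 = n by have := h.qd.three_le; omega]]
      ring⟩
  rcases h.qd.exists_eq y with ⟨i, rfl⟩ | ⟨i, rfl⟩
  · exact key i hc
  · have e : a ^ i * b = a ^ (i - j) * (a ^ j * b) := by
      rw [← mul_assoc, ← zpow_add, sub_add_cancel]
    rw [e] at hc ⊢
    have hm : a ^ (i - j) * (a ^ j * b) = a ^ j * b * a ^ (i - j) :=
      mul_right_cancel (hc.trans (mul_assoc _ _ _).symm)
    calc a ^ (i - j) * (a ^ j * b) * (a ^ (i - j) * (a ^ j * b))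
        = a ^ (i - j) * ((a ^ j * b) * a ^ (i - j)) * (a ^ j * b) := by simp only [mul_assoc]
      _ = a ^ (i - j) * (a ^ (i - j) * (a ^ j * b)) * (a ^ j * b) := by rw [hm]
      _ = a ^ (i - j) * a ^ (i - j) * ((a ^ j * b) * (a ^ j * b)) := by simp only [mul_assoc]
      _ = 1 := by rw [hss, mul_one, key _ hm]

/-- An involution of `S` other than the central one is outside the cyclic subgroup. -/
theorem notMem_of_ne {s : (S : Subgroup G)} (hs : s * s = 1) (h1 : (s : G) ≠ 1)
    (hz : (s : G) ≠ MC.zG n a) : s ∉ zpowers a :=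
  ((h.inv_cases hs).resolve_left h1).resolve_left hz |>.1

/-- An element centralizing two commuting involutions squares to one if it is a 2-element. -/
theorem no_four {e f y : G} (he : e * e = 1) (hf : f * f = 1) (he1 : e ≠ 1) (hf1 : f ≠ 1)
    (hef : e ≠ f) (hc : e * f = f * e) (hye : y * e = e * y) (hyf : y * f = f * y) {k : ℕ}
    (hy : y ^ (2 ^ k) = 1) : y * y = 1 := by
  obtain ⟨U, hU, heU, hfU, hUmem⟩ := four_of_commuting he hf he1 hf1 hef hc
  obtain ⟨T, hT, hyT, hUT⟩ := exists_two_group (x := y) (isPGroup_zpowers_of_pow hy)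
    (isPGroup_four hU) (fun r hr => by
      rcases (hUmem r).1 hr with rfl | rfl | rfl | rfl
      · simp
      · exact hye
      · exact hyf
      · rw [← mul_assoc, hye, mul_assoc, hyf, mul_assoc])
  obtain ⟨g, hg⟩ := exists_conj_le_sylow S hT
  set y' : (S : Subgroup G) := ⟨g * y * g⁻¹, hg y hyT⟩ with hy'
  have key : ∀ s : G, s * s = 1 → s ≠ 1 → g * s * g⁻¹ ≠ MC.zG n a → s ∈ U → y * s = s * y →
      y * y = 1 := by
    intro s hss hs1 hsz hsU hys
    have h1 := h.sq_eq_one_of_comm (s := ⟨g * s * g⁻¹, hg s (hUT hsU)⟩) (y := y') ?_ ?_ ?_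
    · have h2 : g * y * g⁻¹ * (g * y * g⁻¹) = 1 := congrArg Subtype.val h1
      rw [conj_mul, conj_eq_one_iff] at h2
      exact h2
    · refine h.notMem_of_ne ?_ ?_ hsz
      · exact Subtype.ext (by simp only [coe_mul, coe_one]; rw [conj_mul, hss]; group)
      · simpa using hs1
    · exact Subtype.ext (by simp only [coe_mul, coe_one]; rw [conj_mul, hss]; group)
    · exact Subtype.ext (by simp only [hy', coe_mul]; rw [conj_mul, conj_mul, hys])
  by_cases hz : g * e * g⁻¹ = MC.zG n a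
  · refine key f hf hf1 (fun e' => hef ?_) hfU hyf
    exact mul_left_cancel (mul_right_cancel (hz.trans e'.symm))
  · exact key e he he1 hz heU hye

theorem S_le_centralizer : (S : Subgroup G) ≤ centralizer ({MC.zG n a} : Set G) := fun _ hx =>
  mem_centralizer_singleton_iff.2 (h.z_comm hx).symm

theorem centralizer_z_ne_top : centralizer ({MC.zG n a} : Set G) ≠ ⊤ := fun e => by
  haveI := h.simple
  have hz : MC.zG n a ∈ center G := mem_center_iff.2 fun g =>
    mem_centralizer_singleton_iff.1 (e ▸ mem_top g)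
  rcases (inferInstance : (center G).Normal).eq_bot_or_eq_top with e' | e'
  · exact h.z_ne_one (mem_bot.1 (e' ▸ hz))
  · exact h.not_comm ⟨⟨fun x y => (mem_center_iff.1 (e' ▸ mem_top x) y).symm⟩⟩

/-- The centralizer of `a²` is contained in that of the central involution. -/
theorem centralizer_sq_le :
    centralizer ({(a : G) ^ 2} : Set G) ≤ centralizer ({MC.zG n a} : Set G) := fun g hg => by
  rw [mem_centralizer_singleton_iff] at hg ⊢
  obtain ⟨i, hi⟩ := Subgroup.mem_zpowers_iff.1 h.q_mem_zpowers_sq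
  have : Commute g (MC.qG n a) := hi ▸ (Commute.zpow_right hg i)
  rw [← h.q_sq]
  exact this.mul_right this

end Hyp

end Cfsg.Agent.GW.SD
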