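import Cfsg.Agent.GW.SD.Four
import Cfsg.Agent.GW.SD.SL
import Cfsg.Agent.Linear.Orders

/-!
The centralizer of the involution when it is not solvable: `X × SL₂(p)` extended by an involution.
-/

set_option autoImplicit false
set_option linter.unusedSectionVars false
set_option linter.style.haveILetI false

open Cfsg

namespace Cfsg.Agent.GW.SD

open Subgroup TwoGroups TwoFusion
open scoped MatrixGroups

universe u

variable {G : Type u} [Group G] [Finite G]

/-- An element with prime order divides into an abelian group whose `r`-subgroups are cyclic. -/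
theorem mem_zpowers_of_prime {r : ℕ} (hr : r.Prime)
    (hcyc : ∀ P : Subgroup G, IsPGroup r P → IsCyclic P) {x y : G} (hx : orderOf x = r)
    (hy : orderOf y = r) (hc : x * y = y * x) : x ∈ zpowers y := by
  haveI : Fact r.Prime := ⟨hr⟩
  have hP : IsPGroup r (zpowers x ⊔ zpowers y : Subgroup G) :=
    (IsPGroup.of_card (n := 1) (by rw [Nat.card_zpowers, hx, pow_one])).to_sup_of_normal_right'
      (IsPGroup.of_card (n := 1) (by rw [Nat.card_zpowers, hy, pow_one])) (by
        rw [zpowers_le, Subgroup.mem_normalizer_iff]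
        have hcom : ∀ t ∈ zpowers y, x * t * x⁻¹ = t := by
          rintro _ ⟨i, rfl⟩
          simp only
          rw [(Commute.zpow_right hc i).eq, mul_inv_cancel_right]
        intro t
        refine ⟨fun ht => by rwa [hcom t ht], fun ht => ?_⟩
        have h1 := hcom _ ht
        have e : x * t * x⁻¹ = t := by
          have := congrArg (fun s => x⁻¹ * s * x) h1
          simpa [mul_assoc] using this
        rwa [e] at ht)
  haveI := hcyc _ hP
  obtain ⟨g, hg⟩ := IsCyclic.exists_generator (α := (zpowers x ⊔ zpowers y : Subgroup G))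
  have hgen : ∀ t ∈ (zpowers x ⊔ zpowers y : Subgroup G), t ∈ zpowers (g : G) := fun t ht => by
    obtain ⟨i, hi⟩ := hg ⟨t, ht⟩
    exact ⟨i, congrArg Subtype.val hi⟩
  exact mem_zpowers_of_order_eq (hgen x (mem_sup_left (mem_zpowers x)))
    (hgen y (mem_sup_right (mem_zpowers y))) (hx.trans hy.symm)

/-- The structure of the centralizer of the central involution. -/
structure AData {S : Sylow 2 G} {n : ℕ} {a b : (S : Subgroup G)} (h : Hyp S n a b) (p : ℕ)
    (X L : Subgroup G) : Prop where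
  five : 5 ≤ p
  le : X ⊔ L ≤ centralizer ({MC.zG n a} : Set G)
  normX : ∀ g ∈ centralizer ({MC.zG n a} : Set G), ∀ x ∈ X, g * x * g⁻¹ ∈ X
  normL : ∀ g ∈ centralizer ({MC.zG n a} : Set G), ∀ x ∈ L, g * x * g⁻¹ ∈ L
  disj : X ⊓ L = ⊥
  index : (X ⊔ L).relIndex (centralizer ({MC.zG n a} : Set G)) ∣ 2
  odd : Odd (Nat.card X)
  cop : (Nat.card X).Coprime (Nat.card L)
  iso : Nonempty (L ≃* SL(2, ZMod p))

namespace AData

variable {S : Sylow 2 G} {n : ℕ} {a b : (S : Subgroup G)} {h : Hyp S n a b} {p : ℕ} [hp : Fact p.Prime]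
  {X L : Subgroup G} (d : AData h p X L)
include d

theorem comm {x l : G} (hx : x ∈ X) (hl : l ∈ L) : x * l = l * x := by
  have h1 : x * l * x⁻¹ * l⁻¹ ∈ X ⊓ L := by
    refine mem_inf.2 ⟨?_, mul_mem (d.normL x (d.le (mem_sup_left hx)) l hl) (inv_mem hl)⟩
    rw [mul_assoc x l, mul_assoc x]
    exact mul_mem hx (d.normX l (d.le (mem_sup_right hl)) _ (inv_mem hx))
  rw [d.disj, mem_bot, mul_inv_eq_one, mul_inv_eq_iff_eq_mul] at h1
  exact h1

theorem exists_mul {g : G} (hg : g ∈ X ⊔ L) : ∃ x ∈ X, ∃ l ∈ L, g = x * l := by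
  have hn : L ≤ normalizer (X : Set G) := fun l hl => by
    rw [Subgroup.mem_normalizer_iff]
    intro x
    refine ⟨d.normX l (d.le (mem_sup_right hl)) x, fun hx => ?_⟩
    simpa [mul_assoc] using d.normX l⁻¹ (inv_mem (d.le (mem_sup_right hl))) _ hx
  have hg' : g ∈ ((X ⊔ L : Subgroup G) : Set G) := hg
  rw [coe_mul_of_right_le_normalizer_left _ _ hn] at hg'
  obtain ⟨x, hx, l, hl, rfl⟩ := Set.mem_mul.1 hg'
  exact ⟨x, hx, l, hl, rfl⟩

theorem unique {x x' l l' : G} (hx : x ∈ X) (hx' : x' ∈ X) (hl : l ∈ L) (hl' : l' ∈ L)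
    (e : x * l = x' * l') : x = x' ∧ l = l' := by
  have h1 : x'⁻¹ * x ∈ X ⊓ L := by
    refine mem_inf.2 ⟨mul_mem (inv_mem hx') hx, ?_⟩
    rw [show x'⁻¹ * x = l' * l⁻¹ by
      rw [eq_mul_inv_iff_mul_eq, mul_assoc, e, ← mul_assoc, inv_mul_cancel, one_mul]]
    exact mul_mem hl' (inv_mem hl)
  rw [d.disj, mem_bot, inv_mul_eq_one] at h1
  subst h1
  exact ⟨rfl, mul_left_cancel e⟩

theorem mem_L_of_pow {g : G} (hg : g ∈ X ⊔ L) {m : ℕ} (hm : g ^ m = 1)
    (hc : m.Coprime (Nat.card X)) : g ∈ L := by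
  obtain ⟨x, hx, l, hl, rfl⟩ := d.exists_mul hg
  rw [(show Commute x l from d.comm hx hl).mul_pow, ← one_mul (1 : G)] at hm
  have hxm := (d.unique (pow_mem hx m) (one_mem X) (pow_mem hl m) (one_mem L) hm).1
  have : orderOf x = 1 := Nat.eq_one_of_dvd_coprimes hc (orderOf_dvd_of_pow_eq_one hxm)
    (orderOf_mk x hx ▸ _root_.orderOf_dvd_natCard (⟨x, hx⟩ : X))
  rw [orderOf_eq_one_iff.1 this, one_mul]
  exact hl

theorem two_element_mem {g : G} (hg : g ∈ X ⊔ L) {k : ℕ} (hk : g ^ (2 ^ k) = 1) : g ∈ L :=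
  d.mem_L_of_pow hg hk (Nat.Coprime.pow_left k d.odd.coprime_two_left)

theorem mul_self_mem {g : G} (hg : g ∈ centralizer ({MC.zG n a} : Set G)) : g * g ∈ X ⊔ L := by
  rcases (Nat.dvd_prime Nat.prime_two).1 d.index with h1 | h2
  · exact mul_mem (relIndex_eq_one.1 h1 hg) (relIndex_eq_one.1 h1 hg)
  · exact (mul_self_mem_of_index_two (G := centralizer ({MC.zG n a} : Set G)) h2 ⟨g, hg⟩ :)

theorem q_mem : MC.qG n a ∈ L := by
  have h3 := h.qd.three_le
  have e : MC.qG n a = (a : G) ^ (2 ^ (n - 3)) * (a : G) ^ (2 ^ (n - 3)) := by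
    rw [← pow_add, ← two_mul, ← pow_succ', show n - 3 + 1 = n - 2 by omega]
    simp
  refine d.two_element_mem (k := 2) ?_ ?_
  · rw [e]
    exact d.mul_self_mem (h.S_le_centralizer (pow_mem a.2 _))
  · rw [show 2 ^ 2 = orderOf (MC.qG n a) by rw [h.orderOf_q]; norm_num]
    exact pow_orderOf_eq_one _

theorem z_mem : MC.zG n a ∈ L := h.q_sq ▸ mul_mem d.q_mem d.q_mem

theorem p_ne_two : p ≠ 2 := by have := d.five; omega

theorem two_ne : (2 : ZMod p) ≠ 0 := fun e => d.p_ne_two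
  ((Nat.prime_dvd_prime_iff_eq hp.out Nat.prime_two).1 ((ZMod.natCast_eq_zero_iff 2 p).1 (by exact_mod_cast e)))

theorem eq_z {i : G} (hi : i ∈ L) (hii : i * i = 1) (hi1 : i ≠ 1) : i = MC.zG n a := by
  obtain ⟨e⟩ := d.iso
  have key : ∀ j : L, j * j = 1 → j ≠ 1 → (e j : Matrix (Fin 2) (Fin 2) (ZMod p)) = -1 := fun j hj hj1 =>
    Linear.eq_neg_one_of_mul_self d.two_ne
      (fun e' => hj1 (e.injective (by rw [e', map_one]))) (by rw [← map_mul, hj, map_one])
  have h1 := key ⟨i, hi⟩ (Subtype.ext hii) (fun e' => hi1 (congrArg Subtype.val e'))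
  have h2 := key ⟨_, d.z_mem⟩ (Subtype.ext h.zz) (fun e' => h.z_ne_one (congrArg Subtype.val e'))
  exact congrArg Subtype.val (e.injective (Subtype.ext (h1.trans h2.symm)))

theorem notMem_XL {f : G} (hff : f * f = 1) (hf1 : f ≠ 1) (hfz : f ≠ MC.zG n a) : f ∉ X ⊔ L :=
  fun hf => hfz (d.eq_z (d.two_element_mem (k := 1) hf (by rw [pow_one, pow_two, hff])) hff hf1)

theorem mem_or_mul_mem {f g : G} (hf : f ∈ centralizer ({MC.zG n a} : Set G)) (hfX : f ∉ X ⊔ L)
    (hg : g ∈ centralizer ({MC.zG n a} : Set G)) : g ∈ X ⊔ L ∨ g * f ∈ X ⊔ L := by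
  rcases (Nat.dvd_prime Nat.prime_two).1 d.index with h1 | h2
  · exact Or.inl (relIndex_eq_one.1 h1 hg)
  · by_cases hgX : g ∈ X ⊔ L
    · exact Or.inl hgX
    · exact Or.inr ((mul_mem_iff_of_index_two (a := (⟨g, hg⟩ : centralizer ({MC.zG n a} : Set G)))
        (b := ⟨f, hf⟩) h2).2 (iff_of_false hgX hfX) :)

theorem b_mem_C : (b : G) ∈ centralizer ({MC.zG n a} : Set G) := h.S_le_centralizer b.2

theorem b_notMem : (b : G) ∉ X ⊔ L := d.notMem_XL h.bb h.b_ne_one h.b_ne_z

theorem card_L : Nat.card L = p * (p - 1) * (p + 1) := by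
  obtain ⟨e⟩ := d.iso
  rw [Nat.card_congr e.toEquiv, Linear.card_SL_two, ZMod.card]

theorem three_dvd : 3 ∣ Nat.card L := by
  rw [d.card_L]
  have := d.five
  rcases (by omega : p % 3 = 0 ∨ p % 3 = 1 ∨ p % 3 = 2) with e | e | e
  · exact dvd_mul_of_dvd_left (dvd_mul_of_dvd_left (Nat.dvd_of_mod_eq_zero e) _) _
  · exact dvd_mul_of_dvd_left (dvd_mul_of_dvd_right (by omega) _) _
  · exact dvd_mul_of_dvd_right (by omega) _

/-- The fixed points in `L` of an involution of the centralizer. -/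
theorem fix_spec {f : G} (hf : f ∈ centralizer ({MC.zG n a} : Set G)) (hff : f * f = 1) (hf1 : f ≠ 1)
    (hfz : f ≠ MC.zG n a) :
    (Nat.card ↥(L ⊓ centralizer ({f} : Set G)) = p - 1 ∨
      Nat.card ↥(L ⊓ centralizer ({f} : Set G)) = p + 1) ∧
      (∀ x ∈ L ⊓ centralizer ({f} : Set G), ∀ y ∈ L ⊓ centralizer ({f} : Set G), x * y = y * x) ∧
      (f * MC.qG n a * f⁻¹ = (MC.qG n a)⁻¹ →
        ∀ x ∈ L ⊓ centralizer ({f} : Set G), MC.qG n a * x * (MC.qG n a)⁻¹ = x⁻¹) := by
  obtain ⟨e⟩ := d.iso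
  have hzf : MC.zG n a * f = f * MC.zG n a := (mem_centralizer_singleton_iff.1 hf).symm
  let c : MulAut L :=
    { toFun := fun l => ⟨f * l * f⁻¹, d.normL f hf l l.2⟩
      invFun := fun l => ⟨f * l * f⁻¹, d.normL f hf l l.2⟩
      left_inv := fun l => Subtype.ext (by
        simp only [inv_eq_of_mul_eq_one_right hff, mul_assoc, hff, mul_one]
        rw [← mul_assoc, hff, one_mul])
      right_inv := fun l => Subtype.ext (by
        simp only [inv_eq_of_mul_eq_one_right hff, mul_assoc, hff, mul_one]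
        rw [← mul_assoc, hff, one_mul])
      map_mul' := fun l l' => Subtype.ext (by simp [conj_mul]) }
  have hc : ∀ l : L, ((c l : L) : G) = f * l * f⁻¹ := fun l => rfl
  let σ : MulAut SL(2, ZMod p) := e.symm.trans (c.trans e)
  have hσ : ∀ l : L, σ (e l) = e (c l) := fun l => by simp [σ]
  have hcc : ∀ l : L, c (c l) = l := c.left_inv
  have hσσ : σ * σ = 1 := MulEquiv.ext fun x => by
    obtain ⟨l, rfl⟩ := e.surjective x
    rw [MulAut.mul_apply, hσ, hσ, hcc, MulAut.one_apply]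
  have hσ1 : σ ≠ 1 := by
    intro h1
    have hq : c ⟨_, d.q_mem⟩ = ⟨_, d.q_mem⟩ := e.injective (by rw [← hσ, h1, MulAut.one_apply])
    have hq' : MC.qG n a * f = f * MC.qG n a :=
      (mul_inv_eq_iff_eq_mul.1 ((hc _).symm.trans (congrArg Subtype.val hq))).symm
    have hzq : MC.qG n a * MC.zG n a = MC.zG n a * MC.qG n a := by rw [← h.q_sq, mul_assoc]
    have h4 := h.no_four h.zz hff h.z_ne_one hf1 (Ne.symm hfz) hzf hzq hq' (k := 2)
      (by rw [show 2 ^ 2 = orderOf (MC.qG n a) by rw [h.orderOf_q]; norm_num]; exact pow_orderOf_eq_one _)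
    exact h.z_ne_one (h.q_sq.symm.trans h4)
  obtain ⟨T, hT, hcard, hab, hinv⟩ := fixed_spec d.p_ne_two σ hσσ hσ1
  have hmem : ∀ l : L, e l ∈ T ↔ (l : G) ∈ L ⊓ centralizer ({f} : Set G) := fun l => by
    rw [hT, hσ, e.injective.eq_iff, mem_inf, mem_centralizer_singleton_iff, Subtype.ext_iff, hc,
      mul_inv_eq_iff_eq_mul]
    exact ⟨fun h => ⟨l.2, h.symm⟩, fun h => h.2.symm⟩
  refine ⟨?_, fun x hx y hy => ?_, fun hfq x hx => ?_⟩
  · have : Nat.card ↥(L ⊓ centralizer ({f} : Set G)) = Nat.card T := Nat.card_congr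
      { toFun := fun x => ⟨e ⟨x, x.2.1⟩, (hmem _).2 x.2⟩
        invFun := fun t => ⟨e.symm t, (hmem _).1 (by rw [e.apply_symm_apply]; exact t.2)⟩
        left_inv := fun x => by simp
        right_inv := fun t => by simp }
    rw [this]; exact hcard
  · have := hab _ ((hmem ⟨x, hx.1⟩).2 hx) _ ((hmem ⟨y, hy.1⟩).2 hy)
    rw [← map_mul, ← map_mul, e.injective.eq_iff] at this
    exact congrArg Subtype.val this
  · set q' : L := ⟨_, d.q_mem⟩
    have h1 : (e q' : Matrix (Fin 2) (Fin 2) (ZMod p)) * e q' = -1 := by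
      rw [← coe_mul', ← map_mul]
      refine Linear.eq_neg_one_of_mul_self d.two_ne (fun e' => h.z_ne_one ?_) ?_
      · rw [← h.q_sq]; exact congrArg Subtype.val (e.injective (e'.trans (map_one e).symm))
      · rw [← map_mul, ← map_one e]
        congr 1
        refine Subtype.ext ?_
        show MC.qG n a * MC.qG n a * (MC.qG n a * MC.qG n a) = 1
        rw [h.q_sq, h.zz]
    have h2 : σ (e q') = (e q')⁻¹ := by
      rw [hσ, ← map_inv]; congr 1; exact Subtype.ext hfq
    have h3 := hinv (e q') h1 h2 _ ((hmem ⟨x, hx.1⟩).2 hx)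
    rw [← map_inv, ← map_inv, ← map_mul, ← map_mul, e.injective.eq_iff] at h3
    exact congrArg Subtype.val h3

/-- The centralizer in `L` of a non-central element of order prime to `p`. -/
theorem cent_spec {l : G} (hl : l ∈ L) (hll : l * l ≠ 1) (hcop : ¬ p ∣ orderOf l) :
    (Nat.card ↥(L ⊓ centralizer ({l} : Set G)) = p - 1 ∨
      Nat.card ↥(L ⊓ centralizer ({l} : Set G)) = p + 1) ∧
      ∀ x ∈ L ⊓ centralizer ({l} : Set G), ∀ y ∈ L ⊓ centralizer ({l} : Set G), x * y = y * x := by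
  obtain ⟨e⟩ := d.iso
  obtain ⟨hcard, hab⟩ := centralizer_spec d.p_ne_two (l := e ⟨l, hl⟩)
    (fun e' => hll (by
      rw [← map_mul, ← map_one e] at e'
      exact congrArg Subtype.val (e.injective e')))
    (by rwa [MulEquiv.orderOf_eq, orderOf_mk])
  have hmem : ∀ x : L, e x ∈ centralizer ({e ⟨l, hl⟩} : Set SL(2, ZMod p)) ↔
      (x : G) ∈ L ⊓ centralizer ({l} : Set G) := fun x => by
    rw [mem_centralizer_singleton_iff, ← map_mul, ← map_mul, e.injective.eq_iff, Subtype.ext_iff,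
      mem_inf, mem_centralizer_singleton_iff]
    exact ⟨fun h => ⟨x.2, h⟩, fun h => h.2⟩
  refine ⟨?_, fun x hx y hy => ?_⟩
  · have : Nat.card ↥(L ⊓ centralizer ({l} : Set G)) =
        Nat.card (centralizer ({e ⟨l, hl⟩} : Set SL(2, ZMod p))) := Nat.card_congr
      { toFun := fun x => ⟨e ⟨x, x.2.1⟩, (hmem _).2 x.2⟩
        invFun := fun t => ⟨e.symm t, (hmem _).1 (by rw [e.apply_symm_apply]; exact t.2)⟩
        left_inv := fun x => by simp
        right_inv := fun t => by simp }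
    rw [this]; exact hcard
  · have := hab _ ((hmem ⟨x, hx.1⟩).2 hx) _ ((hmem ⟨y, hy.1⟩).2 hy)
    rw [← map_mul, ← map_mul, e.injective.eq_iff] at this
    exact congrArg Subtype.val this

theorem not_four_dvd {f : G} (hf : f ∈ centralizer ({MC.zG n a} : Set G)) (hff : f * f = 1)
    (hf1 : f ≠ 1) (hfz : f ≠ MC.zG n a) : ¬ 4 ∣ Nat.card ↥(L ⊓ centralizer ({f} : Set G)) := by
  intro h4
  haveI : Fact (Nat.Prime 2) := ⟨Nat.prime_two⟩
  obtain ⟨W, hW⟩ := Sylow.exists_subgroup_card_pow_prime (G := ↥(L ⊓ centralizer ({f} : Set G)))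
    (n := 2) 2 (by norm_num; exact h4)
  have hsub : ∀ y ∈ W, (y : G) = 1 ∨ (y : G) = MC.zG n a := by
    intro y hy
    have hy4 : (y : G) ^ (2 ^ 2) = 1 := by
      have := pow_card_eq_one' (G := W) (x := ⟨y, hy⟩)
      rw [hW] at this
      exact congrArg (fun t : W => ((t : ↥(L ⊓ centralizer ({f} : Set G))) : G)) this
    have hyC := d.le (mem_sup_right y.2.1)
    have h1 := h.no_four h.zz hff h.z_ne_one hf1 (Ne.symm hfz)
      (mem_centralizer_singleton_iff.1 hf).symm (mem_centralizer_singleton_iff.1 hyC)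
      (mem_centralizer_singleton_iff.1 y.2.2) hy4
    by_cases e : (y : G) = 1
    · exact Or.inl e
    · exact Or.inr (d.eq_z y.2.1 h1 e)
  have h2 : Nat.card W ≤ 2 := by
    refine le_trans (Nat.card_le_card_of_injective
      (fun y : W => (⟨((y : ↥(L ⊓ centralizer ({f} : Set G))) : G), hsub y y.2⟩ :
        ({1, MC.zG n a} : Set G))) fun y y' e => Subtype.ext (Subtype.ext (congrArg Subtype.val e :))) ?_
    rw [Nat.card_coe_set_eq, Set.ncard_pair h.z_ne_one.symm]
  rw [hW] at h2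
  norm_num at h2

theorem four_dvd_cent_q : 4 ∣ Nat.card ↥(L ⊓ centralizer ({MC.qG n a} : Set G)) := by
  rw [← h.orderOf_q, ← Nat.card_zpowers]
  exact card_dvd_of_le (zpowers_le.2 ⟨d.q_mem, mem_centralizer_singleton_iff.2 rfl⟩)

theorem q_cop : ¬ p ∣ orderOf (MC.qG n a) := fun hd => by
  rw [h.orderOf_q] at hd
  have := Nat.le_of_dvd (by norm_num) hd
  have := d.five
  omega

/-- The sums and common values of the torus orders. -/
theorem card_fix {f : G} (hf : f ∈ centralizer ({MC.zG n a} : Set G)) (hff : f * f = 1)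
    (hf1 : f ≠ 1) (hfz : f ≠ MC.zG n a) :
    Nat.card ↥(L ⊓ centralizer ({f} : Set G)) + Nat.card ↥(L ⊓ centralizer ({MC.qG n a} : Set G)) = 2 * p := by
  have h1 := (d.fix_spec hf hff hf1 hfz).1
  have h2 := (d.cent_spec d.q_mem (by rw [h.q_sq]; exact h.z_ne_one) d.q_cop).1
  have h3 := d.not_four_dvd hf hff hf1 hfz
  have h4 := d.four_dvd_cent_q
  have := d.five
  rcases h1 with e | e <;> rcases h2 with e' | e' <;> rw [e] at h3 <;> rw [e'] at h4 <;> omega

/-- The centralizer in `L` of an element of odd prime order in a torus. -/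
theorem cent_eq {l : G} {r : ℕ} (hr : r.Prime) (hr2 : r ≠ 2) (hlo : orderOf l = r)
    {T : Subgroup G} (hT : T ≤ L) (hab : ∀ x ∈ T, ∀ y ∈ T, x * y = y * x)
    (hcard : Nat.card T = p - 1 ∨ Nat.card T = p + 1) (hl : l ∈ T) :
    L ⊓ centralizer ({l} : Set G) = T := by
  have hrT : r ∣ Nat.card T := hlo ▸ (orderOf_mk l hl ▸ _root_.orderOf_dvd_natCard (⟨l, hl⟩ : T))
  have h5 := d.five
  have hrp : r ≠ p := by
    rintro rfl
    rcases hcard with e | e <;> rw [e] at hrT
    · have := Nat.le_of_dvd (by omega) hrT; omega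
    · have := Nat.dvd_sub hrT dvd_rfl
      rw [show r + 1 - r = 1 by omega] at this
      exact hr.one_lt.ne' (Nat.dvd_one.1 this)
  have h1 := (d.cent_spec (hT hl) (fun e => by
      have := Nat.le_of_dvd two_pos (hlo ▸ orderOf_dvd_of_pow_eq_one (n := 2) (by rw [pow_two, e]))
      have := hr.two_le
      omega) (by rw [hlo, Nat.prime_dvd_prime_iff_eq hp.out hr]; exact Ne.symm hrp)).1
  have hle : T ≤ L ⊓ centralizer ({l} : Set G) :=
    fun x hx => ⟨hT hx, mem_centralizer_singleton_iff.2 (hab x hx l hl)⟩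
  refine (Subgroup.eq_of_le_of_card_ge hle ?_).symm
  have hrC : r ∣ Nat.card ↥(L ⊓ centralizer ({l} : Set G)) :=
    hrT.trans (card_dvd_of_le hle)
  have hr3 : 3 ≤ r := by have := hr.two_le; omega
  rcases hcard with e | e <;> rcases h1 with e' | e' <;> rw [e, e'] <;> rw [e] at hrT <;>
    rw [e'] at hrC
  · exfalso
    have := Nat.le_of_dvd (by omega) (Nat.dvd_sub hrC hrT)
    omega
  · omega

/-- An element of odd prime order dividing a torus order is inside `L`. -/
theorem mem_L_of_prime {r : ℕ} (hr : r.Prime) (hr2 : r ≠ 2) (hrL : r ∣ Nat.card L) {v : G}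
    (hv : v ∈ centralizer ({MC.zG n a} : Set G)) (hvo : orderOf v = r) : v ∈ L := by
  refine d.mem_L_of_pow ?_ (hvo ▸ pow_orderOf_eq_one v) (d.cop.coprime_dvd_right hrL).symm
  obtain ⟨m, hm⟩ := hr.eq_two_or_odd'.resolve_left hr2
  have h1 : v = ((v * v) ^ (m + 1)) := by
    rw [← pow_two, ← pow_mul, show 2 * (m + 1) = r + 1 by omega, pow_succ, ← hvo, pow_orderOf_eq_one,
      one_mul]
  rw [h1]
  exact pow_mem (d.mul_self_mem hv) _

/-- A 2-subgroup of the centralizer of `z` and of an element of odd prime order of a torus of an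
outer involution has order at most four. -/
theorem two_group_card {f : G} (hf : f ∈ centralizer ({MC.zG n a} : Set G)) (hff : f * f = 1)
    (hf1 : f ≠ 1) (hfz : f ≠ MC.zG n a) {r : ℕ} (hr : r.Prime) (hr2 : r ≠ 2) {v : G}
    (hv : orderOf v = r) (hvT : v ∈ L ⊓ centralizer ({f} : Set G)) {T : Subgroup G}
    (hT : IsPGroup 2 T) (hTC : T ≤ centralizer ({MC.zG n a} : Set G))
    (hTv : T ≤ centralizer ({v} : Set G)) : Nat.card T ≤ 4 := by
  obtain ⟨hcard, hab, -⟩ := d.fix_spec hf hff hf1 hfz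
  have hcv := d.cent_eq hr hr2 hv inf_le_left hab hcard hvT
  have h1 : ∀ y ∈ T, y ∈ X ⊔ L → y = 1 ∨ y = MC.zG n a := by
    intro y hy hyX
    obtain ⟨k, hk⟩ := hT ⟨y, hy⟩
    have hk' : y ^ (2 ^ k) = 1 := congrArg Subtype.val hk
    have hyT : y ∈ L ⊓ centralizer ({f} : Set G) :=
      hcv ▸ ⟨d.two_element_mem hyX hk', hTv hy⟩
    have h2 := h.no_four h.zz hff h.z_ne_one hf1 (Ne.symm hfz)
      (mem_centralizer_singleton_iff.1 hf).symm (mem_centralizer_singleton_iff.1 (hTC hy))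
      (mem_centralizer_singleton_iff.1 hyT.2) hk'
    by_cases e : y = 1
    · exact Or.inl e
    · exact Or.inr (d.eq_z hyT.1 h2 e)
  have h2 : ((X ⊔ L).subgroupOf T).index ∣ 2 := by
    by_cases hle : T ≤ X ⊔ L
    · rw [subgroupOf_eq_top.2 hle, index_top]; exact one_dvd 2
    obtain ⟨f', hf'T, hf'X⟩ := SetLike.not_le_iff_exists.1 hle
    refine dvd_of_eq (index_eq_two_iff.2 ⟨⟨f', hf'T⟩, fun g => ?_⟩)
    simp only [mem_subgroupOf, coe_mul]
    by_cases hg : (g : G) ∈ X ⊔ L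
    · exact Or.inr ⟨hg, fun e => hf'X (by simpa using mul_mem (inv_mem hg) e)⟩
    · exact Or.inl ⟨(d.mem_or_mul_mem (hTC hf'T) hf'X (hTC g.2)).resolve_left hg, hg⟩
  have h3 : Nat.card ((X ⊔ L).subgroupOf T) ≤ 2 := by
    refine le_trans (Nat.card_le_card_of_injective (fun y => (⟨((y : T) : G), h1 _ (y : T).2 y.2⟩ :
        ({1, MC.zG n a} : Set G))) fun y y' e => Subtype.ext (Subtype.ext (congrArg Subtype.val e :))) ?_
    rw [Nat.card_coe_set_eq, Set.ncard_pair h.z_ne_one.symm]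
  rw [← ((X ⊔ L).subgroupOf T).card_mul_index]
  exact le_trans (Nat.mul_le_mul h3 (Nat.le_of_dvd two_pos h2)) (by norm_num)

end AData

end Cfsg.Agent.GW.SD
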