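import Cfsg.Agent.GW.SD.CaseAE
import Cfsg.Agent.Invol.RankOneQuot
import Cfsg.Agent.RankOne.Inverted

/-!
The case `3 ∣ |C_L(q)|`.
-/

set_option autoImplicit false
set_option linter.unusedSectionVars false
set_option linter.style.haveILetI false

open Cfsg

namespace Cfsg.Agent.GW.SD

open Subgroup TwoGroups TwoFusion
open scoped MatrixGroups commutatorElement

universe u

variable {G : Type u} [Group G] [Finite G]

namespace AData

variable {S : Sylow 2 G} {n : ℕ} {a b : (S : Subgroup G)} {h : Hyp S n a b} {p : ℕ} [hp : Fact p.Prime]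
  {X L : Subgroup G} (d : AData h p X L)
include d

/-- The two torus orders have no odd prime in common. -/
theorem not_both {f : G} (hf : f ∈ centralizer ({MC.zG n a} : Set G)) (hff : f * f = 1) (hf1 : f ≠ 1)
    (hfz : f ≠ MC.zG n a) {r : ℕ} (hr : r.Prime) (hr2 : r ≠ 2)
    (h1 : r ∣ Nat.card ↥(L ⊓ centralizer ({f} : Set G)))
    (h2 : r ∣ Nat.card ↥(L ⊓ centralizer ({MC.qG n a} : Set G))) : False := by
  have hsum := d.card_fix hf hff hf1 hfz
  have h3 : r ∣ 2 * p := hsum ▸ Nat.dvd_add h1 h2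
  have hrp : r = p := (Nat.prime_dvd_prime_iff_eq hr hp.out).1
    ((Nat.Coprime.dvd_mul_left ((Nat.coprime_primes hr Nat.prime_two).2 hr2)).1 h3)
  subst hrp
  have h5 := d.five
  rcases (d.fix_spec hf hff hf1 hfz).1 with e | e <;> rw [e] at h1
  · have := Nat.le_of_dvd (by omega) h1; omega
  · have := Nat.dvd_sub h1 (dvd_refl r)
    rw [show r + 1 - r = 1 by omega] at this
    exact hr.one_lt.ne' (Nat.dvd_one.1 this)

theorem false_of_three_dvd_alpha (h3 : 3 ∣ Nat.card ↥(L ⊓ centralizer ({MC.qG n a} : Set G))) : False := by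
  classical
  haveI : Fact (Nat.Prime 3) := ⟨Nat.prime_three⟩
  haveI : Fact (Nat.Prime 2) := ⟨Nat.prime_two⟩
  set β := Nat.card ↥(L ⊓ centralizer ({(b : G)} : Set G)) with hβ
  set α := Nat.card ↥(L ⊓ centralizer ({MC.qG n a} : Set G)) with hα
  have h5 := d.five
  have hsum : β + α = 2 * p := d.card_fix d.b_mem_C h.bb h.b_ne_one h.b_ne_z
  have hnf := d.not_four_dvd d.b_mem_C h.bb h.b_ne_one h.b_ne_z
  have h4 := d.four_dvd_cent_q
  have hβp := (d.fix_spec d.b_mem_C h.bb h.b_ne_one h.b_ne_z).1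
  rw [← hβ] at hnf hβp
  rw [← hα] at h4
  -- an odd prime divisor of β
  obtain ⟨r, hr, hr2, hrβ⟩ : ∃ r : ℕ, r.Prime ∧ r ≠ 2 ∧ r ∣ β := by
    obtain ⟨i, m, hm, he⟩ := Nat.exists_eq_two_pow_mul_odd (show β ≠ 0 by omega)
    have hm1 : m ≠ 1 := by
      rintro rfl
      rcases i with _ | _ | i
      · simp at he; omega
      · simp at he; omega
      · exact hnf ⟨2 ^ i, by rw [he]; ring⟩
    obtain ⟨r, hr, hrm⟩ := Nat.exists_prime_and_dvd hm1
    refine ⟨r, hr, ?_, he ▸ hrm.trans (dvd_mul_left _ _)⟩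
    rintro rfl
    exact (Nat.not_even_iff_odd.2 hm) (even_iff_two_dvd.2 hrm)
  haveI : Fact r.Prime := ⟨hr⟩
  obtain ⟨u₀, hu₀⟩ := exists_prime_orderOf_dvd_card' (G := ↥(L ⊓ centralizer ({(b : G)} : Set G))) r hrβ
  set u := (u₀ : G) with hudef
  have hu : orderOf u = r := by rw [hudef, Subgroup.orderOf_coe, hu₀]
  have huT : u ∈ L ⊓ centralizer ({(b : G)} : Set G) := u₀.2
  have hrL := d.dvd_L hr hr2 hu huT
  obtain ⟨c, e1, e2, e3, ⟨k, hk⟩, hcu⟩ := d.exists_cycle hr hr2 hu huT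
  -- `c` has order three
  have hc3 : c ^ 3 = 1 := by
    by_contra hne
    have hcube : ∀ x, c ^ 3 * x * (c ^ 3)⁻¹ = c * (c * (c * x * c⁻¹) * c⁻¹) * c⁻¹ := fun x => by
      simp [pow_succ, mul_assoc]
    have hz : c ^ 3 * MC.zG n a = MC.zG n a * c ^ 3 :=
      mul_inv_eq_iff_eq_mul.1 (by rw [hcube, e1, e2, e3])
    have hb : c ^ 3 * (b : G) = b * c ^ 3 := mul_inv_eq_iff_eq_mul.1 (by rw [hcube, e2, e3, e1])
    obtain ⟨v, hv⟩ := exists_prime_orderOf_dvd_card' (G := zpowers (c ^ 3)) 3 (by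
      rw [Nat.card_zpowers]
      have hd : orderOf (c ^ 3) ∣ 3 ^ k :=
        orderOf_dvd_of_pow_eq_one (by rw [← pow_mul, mul_comm, pow_mul, hk, one_pow])
      obtain ⟨j, -, hj⟩ := (Nat.dvd_prime_pow Nat.prime_three).1 hd
      rcases j with _ | j
      · rw [pow_zero, orderOf_eq_one_iff] at hj; exact absurd hj hne
      · rw [hj]; exact dvd_pow_self 3 j.succ_ne_zero)
    obtain ⟨i, hi⟩ := v.2
    simp only at hi
    have hvz : (v : G) * MC.zG n a = MC.zG n a * v := hi ▸ ((show Commute (c ^ 3) _ from hz).zpow_left i).eq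
    have hvb : (v : G) * (b : G) = b * v := hi ▸ ((show Commute (c ^ 3) _ from hb).zpow_left i).eq
    have hv3 : orderOf (v : G) = 3 := by rw [Subgroup.orderOf_coe, hv]
    have hvL := d.mem_L_of_prime Nat.prime_three (by norm_num) d.three_dvd
      (mem_centralizer_singleton_iff.2 hvz) hv3
    have h3β : 3 ∣ β := hv3 ▸ Subgroup.orderOf_dvd_natCard _
      (mem_inf.2 ⟨hvL, mem_centralizer_singleton_iff.2 hvb⟩ :
        (v : G) ∈ L ⊓ centralizer ({(b : G)} : Set G))
    exact d.not_both d.b_mem_C h.bb h.b_ne_one h.b_ne_z Nat.prime_three (by norm_num) h3β h3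
  have hco : orderOf c = 3 := orderOf_eq_prime hc3 fun e => h.b_ne_z (by rw [← e1, e]; group)
  obtain ⟨c₀, hc₀⟩ := exists_prime_orderOf_dvd_card' (G := ↥(L ⊓ centralizer ({MC.qG n a} : Set G))) 3 h3
  set c0 := (c₀ : G) with hc0def
  have hc0o : orderOf c0 = 3 := by rw [hc0def, Subgroup.orderOf_coe, hc₀]
  have hc0T : c0 ∈ L ⊓ centralizer ({MC.qG n a} : Set G) := c₀.2
  have hTq := d.cent_spec d.q_mem (by rw [h.q_sq]; exact h.z_ne_one) d.q_cop
  have hcent0 : L ⊓ centralizer ({c0} : Set G) = L ⊓ centralizer ({MC.qG n a} : Set G) :=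
    d.cent_eq Nat.prime_three (by norm_num) hc0o inf_le_left hTq.2 hTq.1 hc0T
  obtain ⟨g, -, hg⟩ := exists_conj_zpowers h.cyc Nat.prime_three (by norm_num) hco hc0o
  set u1 := g * u * g⁻¹ with hu1def
  have hu1 : orderOf u1 = r := by rw [hu1def, ← MulAut.conj_apply, MulEquiv.orderOf_eq, hu]
  set D := centralizer ({c0} : Set G) with hD
  have hu1D : u1 ∈ D := by
    obtain ⟨i, hi⟩ := hg
    simp only at hi
    have hc : Commute u1 (g * c * g⁻¹) := ((show Commute c u from hcu).symm.map (MulAut.conj g).toMonoidHom)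
    rw [hD, mem_centralizer_singleton_iff, ← hi]
    exact (hc.zpow_right i).eq
  have hqD : MC.qG n a ∈ D :=
    mem_centralizer_singleton_iff.2 (mem_centralizer_singleton_iff.1 hc0T.2).symm
  have hzD : MC.zG n a ∈ D := h.q_sq ▸ mul_mem hqD hqD
  have no_r : ∀ v ∈ D, v ∈ centralizer ({MC.zG n a} : Set G) → orderOf v ≠ r := by
    intro v hvD hvC hvo
    have hvL := d.mem_L_of_prime hr hr2 hrL hvC hvo
    have hv' : v ∈ L ⊓ centralizer ({MC.qG n a} : Set G) := hcent0 ▸ mem_inf.2 ⟨hvL, hvD⟩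
    exact d.not_both d.b_mem_C h.bb h.b_ne_one h.b_ne_z hr hr2 hrβ
      (hvo ▸ Subgroup.orderOf_dvd_natCard _ hv')
  -- the involution `z` is isolated in `D`
  set z' : D := ⟨MC.zG n a, hzD⟩ with hz'
  have hzo : orderOf z' = 2 := by rw [hz', orderOf_mk, h.orderOf_z]
  have hzz : z' * z' = 1 := Subtype.ext h.zz
  have hiso : Invol.IsIsolatedInv z' := by
    refine ⟨hzo, fun y hy => ?_⟩
    by_contra hne
    have hne' : (y : G) * MC.zG n a * (y : G)⁻¹ ≠ MC.zG n a := fun e => hne (Subtype.ext e)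
    set f := (y : G) * MC.zG n a * (y : G)⁻¹ with hfdef
    have hfC : f ∈ centralizer ({MC.zG n a} : Set G) :=
      mem_centralizer_singleton_iff.2 (congrArg Subtype.val hy.eq :)
    have hff : f * f = 1 := by rw [hfdef, conj_mul, h.zz]; group
    have hf1 : f ≠ 1 := fun e => h.z_ne_one (conj_eq_one_iff.1 e)
    have hfD : f ∈ D := mul_mem (mul_mem y.2 hzD) (inv_mem y.2)
    have h3f : 3 ∣ Nat.card ↥(L ⊓ centralizer ({f} : Set G)) := hc0o ▸ Subgroup.orderOf_dvd_natCard _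
      (mem_inf.2 ⟨hc0T.1, mem_centralizer_singleton_iff.2
        (mem_centralizer_singleton_iff.1 hfD).symm⟩ : c0 ∈ L ⊓ centralizer ({f} : Set G))
    exact d.not_both hfC hff hf1 hne' Nat.prime_three (by norm_num) h3f h3
  set O := pPrimeCore 2 D with hO
  have hOn : O.Normal := by rw [hO]; infer_instance
  have hOodd : Odd (Nat.card O) :=
    Nat.odd_iff.2 (Nat.two_dvd_ne_zero.1 Cores.not_dvd_card_pPrimeCore)
  have hstar : ∀ y : D, ⁅z', y⁆ ∈ O := fun y => Invol.zStar_theorem D z' hiso y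
  have hconjz : ∀ e : D, e * e = 1 → z' * e ∈ O → ∃ o ∈ O, o * z' * o⁻¹ = e := fun e hee he => by
    obtain ⟨m, hm⟩ := RankOne.exists_zpow_conj_of_odd hzz hee
      (hOodd.of_dvd_nat (Subgroup.orderOf_dvd_natCard O he))
    exact ⟨_, pow_mem he m, hm⟩
  -- the element `u1` lies in the core
  set u1' : D := ⟨u1, hu1D⟩ with hu1'
  have hu1O : u1' ∈ O := by
    have hee : u1' * z' * u1'⁻¹ * (u1' * z' * u1'⁻¹) = 1 := by rw [conj_mul, hzz]; group
    have hmem : z' * (u1' * z' * u1'⁻¹) ∈ O := by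
      rw [← Invol.commutator_eq_of_inv hzo]; exact hstar u1'
    obtain ⟨o, ho, he⟩ := hconjz _ hee hmem
    set x := o⁻¹ * u1' with hx
    have hxz : x * z' = z' * x := by
      calc x * z' = o⁻¹ * (u1' * z' * u1'⁻¹) * u1' := by rw [hx]; group
        _ = o⁻¹ * (o * z' * o⁻¹) * u1' := by rw [he]
        _ = z' * x := by rw [hx]; group
    have hxr : x ^ r ∈ O := by
      rw [← QuotientGroup.eq_one_iff, QuotientGroup.mk_pow, hx, QuotientGroup.mk_mul,
        (QuotientGroup.eq_one_iff _).2 (inv_mem ho), one_mul, ← QuotientGroup.mk_pow,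
        show u1' ^ r = 1 from Subtype.ext (by simp [hu1', ← hu1, pow_orderOf_eq_one]), QuotientGroup.mk_one]
    have hnd : ¬ r ∣ orderOf x := by
      intro hd
      obtain ⟨v, hv⟩ := exists_prime_orderOf_dvd_card' (G := zpowers x) r (by rwa [Nat.card_zpowers])
      obtain ⟨i, hi⟩ := v.2
      simp only at hi
      refine no_r _ (v : D).2 (mem_centralizer_singleton_iff.2 ?_)
        (by rw [Subgroup.orderOf_coe, Subgroup.orderOf_coe, hv])
      rw [← hi]
      exact congrArg Subtype.val ((show Commute x z' from hxz).zpow_left i).eq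
    obtain ⟨m, hm⟩ := exists_pow_eq_self_of_coprime (x := x) (n := r)
      ((hr.coprime_iff_not_dvd).2 hnd)
    have : u1' = o * x := by rw [hx, mul_inv_cancel_left]
    rw [this]
    exact mul_mem ho (hm ▸ pow_mem hxr m)
  have hrO : r ∣ Nat.card O := by
    rw [← hu1, ← show orderOf u1' = orderOf u1 from orderOf_mk _ _]
    exact Subgroup.orderOf_dvd_natCard O hu1O
  obtain ⟨R⟩ : Nonempty (Sylow r O) := inferInstance
  set R' := (R : Subgroup O).map O.subtype with hR'
  have hRd : r ∣ Nat.card R' := by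
    rw [hR', card_map_of_injective O.subtype_injective]; exact R.dvd_card_of_dvd_card hrO
  obtain ⟨u2, hu2⟩ := exists_prime_orderOf_dvd_card' (G := R') r hRd
  -- a lift of `q` normalizing `R'`
  set q' : D := ⟨MC.qG n a, hqD⟩ with hq'
  obtain ⟨m, hmN, hmq⟩ : ∃ m ∈ normalizer (R' : Set D), (m : D ⧸ O) = (q' : D ⧸ O) := by
    have hq : q' ∈ ((normalizer (R' : Set D) ⊔ O : Subgroup D) : Set D) := by
      rw [hR', Sylow.normalizer_sup_eq_top R]; exact mem_top _
    rw [mul_normal] at hq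
    obtain ⟨m, hm, o, ho, he⟩ := Set.mem_mul.1 hq
    refine ⟨m, hm, ?_⟩
    rw [QuotientGroup.eq, ← he, inv_mul_cancel_left]
    exact ho
  have hq4 : q' ^ 4 = 1 := Subtype.ext (by
    show MC.qG n a ^ 4 = 1
    rw [← h.orderOf_q, pow_orderOf_eq_one])
  set v := Element.pPart 2 m with hv
  have hvN : v ∈ normalizer (R' : Set D) := zpowers_le.2 hmN (Element.pPart_mem_zpowers 2 m)
  have hvq : (v : D ⧸ O) = (q' : D ⧸ O) := by
    have h1 : ((Element.pComplPart 2 m : D) : D ⧸ O) = 1 := by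
      rw [← orderOf_eq_one_iff]
      refine Nat.eq_one_of_dvd_coprimes (a := 4) (Nat.Coprime.pow_left 2
        (Element.coprime_orderOf_pComplPart Nat.prime_two m).symm) ?_
        (orderOf_map_dvd (QuotientGroup.mk' O) _)
      obtain ⟨i, hi⟩ := Element.pComplPart_mem_zpowers 2 m
      simp only at hi
      refine orderOf_dvd_of_pow_eq_one ?_
      rw [← hi, QuotientGroup.mk_zpow, hmq, ← zpow_natCast, ← zpow_mul, mul_comm, zpow_mul, zpow_natCast,
        ← QuotientGroup.mk_pow, hq4, QuotientGroup.mk_one, one_zpow]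
    rw [← hmq]
    conv_rhs => rw [← Element.pPart_mul_pComplPart 2 m, QuotientGroup.mk_mul, h1, mul_one]
  have hvv : z' * v ^ 2 ∈ O := by
    rw [← QuotientGroup.eq_one_iff, QuotientGroup.mk_mul, QuotientGroup.mk_pow, hvq,
      ← QuotientGroup.mk_pow, ← QuotientGroup.mk_mul,
      show z' * q' ^ 2 = 1 from Subtype.ext (by
        show MC.zG n a * MC.qG n a ^ 2 = 1
        rw [pow_two, h.q_sq, h.zz]),
      QuotientGroup.mk_one]
  have hv4 : v ^ 2 * v ^ 2 = 1 := by
    have h2 : v ^ 4 ∈ O := by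
      rw [← QuotientGroup.eq_one_iff, QuotientGroup.mk_pow, hvq, ← QuotientGroup.mk_pow, hq4,
        QuotientGroup.mk_one]
    have : orderOf (v ^ 4) = 1 := Nat.eq_one_of_dvd_coprimes
      (Nat.Coprime.pow_left ((orderOf m).factorization 2) hOodd.coprime_two_left)
      ((orderOf_pow_dvd 4).trans (Element.orderOf_pPart_eq_pow Nat.prime_two m).dvd)
      (Subgroup.orderOf_dvd_natCard O h2)
    rw [← pow_add]; exact orderOf_eq_one_iff.1 this
  obtain ⟨o, ho, hoe⟩ := hconjz _ hv4 hvv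
  -- the automiser
  set t := ((u2 : D) : G) with ht
  have hto : orderOf t = r := by rw [ht, Subgroup.orderOf_coe, Subgroup.orderOf_coe, hu2]
  have hvt : (v : G) * t * (v : G)⁻¹ ∈ zpowers t := by
    haveI : IsCyclic R' := by
      haveI := h.cyc r hr hr2 (R'.map D.subtype) ((R.isPGroup'.map O.subtype).map D.subtype)
      exact isCyclic_of_surjective _ (R'.equivMapOfInjective D.subtype D.subtype_injective).symm.surjective
    set w : R' := ⟨v * u2 * v⁻¹, (Subgroup.mem_normalizer_iff.1 hvN _).1 u2.2⟩ with hw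
    obtain ⟨o', ho'⟩ := IsCyclic.exists_generator (α := R')
    obtain ⟨i, hi⟩ := mem_zpowers_of_order_eq (ho' w) (ho' u2) (by
      rw [hw, orderOf_mk, ← MulAut.conj_apply, MulEquiv.orderOf_eq, Subgroup.orderOf_coe])
    exact ⟨i, congrArg Subtype.val (congrArg Subtype.val hi :) |>.trans (by simp [hw, ht]) ⟩
  have hv2t : Commute ((v : G) ^ 2) t := by
    obtain ⟨g2, hg2, hg2'⟩ := exists_conj_zpowers h.cyc hr hr2 hto hu
    set s := g2 * (v : G) * g2⁻¹ with hs
    have hst : s * (g2 * t * g2⁻¹) * s⁻¹ = g2 * ((v : G) * t * (v : G)⁻¹) * g2⁻¹ := by rw [hs]; group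
    have hgp : zpowers (g2 * t * g2⁻¹) = zpowers u := le_antisymm (zpowers_le.2 hg2) (zpowers_le.2 hg2')
    have hsu : s * u * s⁻¹ ∈ zpowers u := by
      obtain ⟨i, hi⟩ := hg2'
      simp only at hi
      obtain ⟨j, hj⟩ := hvt
      simp only at hj
      have e : s * u * s⁻¹ = ((g2 * t * g2⁻¹) ^ j) ^ i := by
        rw [← hi, ← conj_zpow, hst, ← hj, ← conj_zpow]
      rw [e]
      exact zpow_mem (zpow_mem hg2 j) i
    have hs2 : Commute (s * s) u := by
      rw [commute_iff_eq, ← mul_inv_eq_iff_eq_mul,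
        show s * s * u * (s * s)⁻¹ = s * (s * u * s⁻¹) * s⁻¹ by group]
      rcases d.automiser hr hr2 hu huT hsu with e | e <;> rw [e]
      · exact e
      · rw [← conj_inv, e, inv_inv]
    have hs3 : Commute (g2 * ((v : G) ^ 2) * g2⁻¹) (g2 * t * g2⁻¹) := by
      obtain ⟨j, hj⟩ := hg2
      simp only at hj
      rw [← hj, show g2 * (v : G) ^ 2 * g2⁻¹ = s * s by rw [hs, pow_two]; group]
      exact hs2.zpow_right j
    rwa [Commute.conj_iff] at hs3
  set o' : G := ((o : D) : G) with ho'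
  refine no_r (o'⁻¹ * t * o') (mul_mem (mul_mem (inv_mem o.2) (u2 : D).2) o.2) ?_ ?_
  · have hoz : o' * MC.zG n a * o'⁻¹ = (v : G) ^ 2 := by simpa [hz', ho'] using congrArg Subtype.val hoe
    rw [mem_centralizer_singleton_iff]
    calc o'⁻¹ * t * o' * MC.zG n a = o'⁻¹ * (t * (o' * MC.zG n a * o'⁻¹)) * o' := by group
      _ = o'⁻¹ * ((o' * MC.zG n a * o'⁻¹) * t) * o' := by rw [hoz, hv2t.eq]
      _ = MC.zG n a * (o'⁻¹ * t * o') := by group
  · rw [show o'⁻¹ * t * o' = MulAut.conj o'⁻¹ t by simp, MulEquiv.orderOf_eq, hto]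

end AData

end Cfsg.Agent.GW.SD
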