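import Cfsg.Agent.GW.SD.CaseA

/-!
The four-group `⟨z, b⟩` and an element of odd prime order in the torus centralized by it.
-/

set_option autoImplicit false
set_option linter.unusedSectionVars false
set_option linter.style.haveILetI false

open Cfsg

namespace Cfsg.Agent.GW.SD

open Subgroup TwoGroups TwoFusion
open scoped MatrixGroups

universe u

variable {G : Type u} [Group G] [Finite G]

/-- An element of odd order commutes with what its square fixes. -/
theorem commute_of_sq {g x : G} (hg : Odd (orderOf g)) (h2 : Commute (g * g) x) : Commute g x := by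
  obtain ⟨k, hk⟩ := hg
  have e : g = (g * g) ^ (k + 1) := by
    rw [← pow_two, ← pow_mul, show 2 * (k + 1) = orderOf g + 1 by omega, pow_succ, pow_orderOf_eq_one,
      one_mul]
  rw [e]
  exact h2.pow_left _

/-- Subgroups of odd prime order are conjugate. -/
theorem exists_conj_zpowers (hcyc : OddCyclic G) {r : ℕ} (hr : r.Prime) (hr2 : r ≠ 2) {x y : G}
    (hx : orderOf x = r) (hy : orderOf y = r) :
    ∃ g : G, g * x * g⁻¹ ∈ zpowers y ∧ y ∈ zpowers (g * x * g⁻¹) := by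
  haveI : Fact r.Prime := ⟨hr⟩
  have hp : ∀ t : G, orderOf t = r → IsPGroup r (zpowers t) := fun t ht =>
    IsPGroup.of_card (n := 1) (by rw [Nat.card_zpowers, ht, pow_one])
  obtain ⟨P, hP⟩ := (hp y hy).exists_le_sylow
  obtain ⟨g, hg⟩ := exists_conj_le_sylow P (hp x hx)
  haveI := hcyc r hr hr2 P P.isPGroup'
  obtain ⟨o, ho⟩ := IsCyclic.exists_generator (α := (P : Subgroup G))
  have hgen : ∀ t ∈ (P : Subgroup G), t ∈ zpowers (o : G) := fun t ht => by
    obtain ⟨i, hi⟩ := ho ⟨t, ht⟩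
    exact ⟨i, congrArg Subtype.val hi⟩
  have hxo : orderOf (g * x * g⁻¹) = r := by rw [← MulAut.conj_apply, MulEquiv.orderOf_eq, hx]
  exact ⟨g, mem_zpowers_of_order_eq (hgen _ (hg x (mem_zpowers x))) (hgen _ (hP (mem_zpowers y)))
      (hxo.trans hy.symm),
    mem_zpowers_of_order_eq (hgen _ (hP (mem_zpowers y))) (hgen _ (hg x (mem_zpowers x)))
      (hy.trans hxo.symm)⟩

namespace Hyp

variable {S : Sylow 2 G} {n : ℕ} {a b : (S : Subgroup G)} (h : Hyp S n a b)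
include h

/-- The four-group `⟨z, b⟩`. -/
theorem exists_U : ∃ U : Subgroup G, IsFour U ∧ U ≤ (S : Subgroup G) ∧ MC.zG n a ∈ U ∧ (b : G) ∈ U ∧
    ∀ x, x ∈ U ↔ x = 1 ∨ x = MC.zG n a ∨ x = (b : G) ∨ x = MC.zG n a * b := by
  obtain ⟨U, hU, hz, hb, hmem⟩ := four_of_commuting h.zz h.bb h.z_ne_one h.b_ne_one h.b_ne_z.symm
    (h.z_comm b.2)
  refine ⟨U, hU, fun x hx => ?_, hz, hb, hmem⟩
  rcases (hmem x).1 hx with rfl | rfl | rfl | rfl
  exacts [one_mem _, h.z_mem, b.2, mul_mem h.z_mem b.2]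

theorem zb_b : MC.zG n a * (b : G) * b = MC.zG n a := by rw [mul_assoc, h.bb, mul_one]

theorem bzb : (b : G) * (MC.zG n a * b) = MC.zG n a := by
  rw [← mul_assoc, ← h.z_comm b.2, h.zb_b]

theorem zb_ne_one : MC.zG n a * (b : G) ≠ 1 := fun e => h.b_ne_z (mul_left_cancel (e.trans h.zz.symm))

theorem zb_ne_z : MC.zG n a * (b : G) ≠ MC.zG n a := fun e => h.b_ne_one (mul_eq_left.1 e)

theorem zb_ne_b : MC.zG n a * (b : G) ≠ b := fun e => h.z_ne_one (mul_eq_right.1 e)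

/-- An element of odd order swapping two elements fixes them. -/
theorem no_swap {g x y : G} (hg : Odd (orderOf g)) (h1 : g * x * g⁻¹ = y) (h2 : g * y * g⁻¹ = x) :
    y = x := by
  have : Commute (g * g) x := by
    rw [commute_iff_eq, ← mul_inv_eq_iff_eq_mul]
    calc g * g * x * (g * g)⁻¹ = g * (g * x * g⁻¹) * g⁻¹ := by group
      _ = x := by rw [h1, h2]
  rw [← h1, (commute_of_sq hg this).eq, mul_inv_cancel_right]

/-- An element of odd order acting on the four-group centralises it or permutes it cyclically. -/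
theorem cycle {U : Subgroup G} (hmem : ∀ x, x ∈ U ↔ x = 1 ∨ x = MC.zG n a ∨ x = (b : G) ∨ x = MC.zG n a * b)
    {g : G} (hg : Odd (orderOf g)) (hn : g ∈ normalizer (U : Set G)) :
    (g * MC.zG n a * g⁻¹ = MC.zG n a ∧ g * b * g⁻¹ = b) ∨
      (g * MC.zG n a * g⁻¹ = b ∧ g * b * g⁻¹ = MC.zG n a * b ∧ g * (MC.zG n a * b) * g⁻¹ = MC.zG n a) ∨
      (g * MC.zG n a * g⁻¹ = MC.zG n a * b ∧ g * (MC.zG n a * b) * g⁻¹ = b ∧ g * b * g⁻¹ = MC.zG n a) := by
  have him : ∀ x ∈ U, x ≠ 1 → g * x * g⁻¹ = MC.zG n a ∨ g * x * g⁻¹ = b ∨ g * x * g⁻¹ = MC.zG n a * b := by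
    intro x hx hx1
    refine ((hmem _).1 ((Subgroup.mem_normalizer_iff.1 hn x).1 hx)).resolve_left fun e => hx1 ?_
    exact conj_eq_one_iff.1 e
  have hz := him _ ((hmem _).2 (by simp)) h.z_ne_one
  have hb := him _ ((hmem (b : G)).2 (by simp)) h.b_ne_one
  have hinj : g * MC.zG n a * g⁻¹ ≠ g * b * g⁻¹ := fun e => h.b_ne_z (mul_left_cancel (mul_right_cancel e)).symm
  have hmulc : g * (MC.zG n a * b) * g⁻¹ = (g * MC.zG n a * g⁻¹) * (g * b * g⁻¹) := by group
  rcases hz with e1 | e1 | e1 <;> rcases hb with e2 | e2 | e2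
  · exact absurd (e1.trans e2.symm) hinj
  · exact Or.inl ⟨e1, e2⟩
  · exfalso
    have e3 : g * (MC.zG n a * b) * g⁻¹ = b := by rw [hmulc, e1, e2, ← mul_assoc, h.zz, one_mul]
    exact h.zb_ne_b (h.no_swap hg e2 e3)
  · exfalso
    exact h.b_ne_z (h.no_swap hg e1 e2)
  · exact absurd (e1.trans e2.symm) hinj
  · exact Or.inr (Or.inl ⟨e1, e2, by rw [hmulc, e1, e2, h.bzb]⟩)
  · exact Or.inr (Or.inr ⟨e1, by rw [hmulc, e1, e2, mul_assoc, ← h.z_comm b.2, ← mul_assoc, h.zz, one_mul], e2⟩)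
  · exfalso
    have e3 : g * (MC.zG n a * b) * g⁻¹ = MC.zG n a := by rw [hmulc, e1, e2, h.zb_b]
    exact h.zb_ne_z (h.no_swap hg e1 e3)
  · exact absurd (e1.trans e2.symm) hinj

end Hyp

namespace AData

variable {S : Sylow 2 G} {n : ℕ} {a b : (S : Subgroup G)} {h : Hyp S n a b} {p : ℕ} [hp : Fact p.Prime]
  {X L : Subgroup G} (d : AData h p X L)
  {r : ℕ} (hr : r.Prime) (hr2 : r ≠ 2) {u : G} (hu : orderOf u = r)
  (huT : u ∈ L ⊓ centralizer ({(b : G)} : Set G))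

/-- The involution inverting the torus. -/
abbrev wI (n : ℕ) (a b : (S : Subgroup G)) : G := MC.qG n a * (b : G)

include d

/-- The centralizer of the four-group centralizes the torus. -/
theorem cent_four {g x : G} (hgz : g * MC.zG n a = MC.zG n a * g) (hgb : g * (b : G) = b * g)
    (hx : x ∈ L ⊓ centralizer ({(b : G)} : Set G)) : g * x = x * g := by
  have hg : g ∈ centralizer ({MC.zG n a} : Set G) := mem_centralizer_singleton_iff.2 hgz
  obtain ⟨-, hab, -⟩ := d.fix_spec d.b_mem_C h.bb h.b_ne_one h.b_ne_z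
  have key : ∀ g ∈ X ⊔ L, g * (b : G) = b * g → g * x = x * g := by
    intro g hg' hgb'
    obtain ⟨y, hy, l, hl, rfl⟩ := d.exists_mul hg'
    have e : (b : G) * y * (b : G)⁻¹ * ((b : G) * l * (b : G)⁻¹) = y * l := by
      rw [conj_mul, ← hgb', mul_inv_cancel_right]
    obtain ⟨-, e2⟩ := d.unique (d.normX _ d.b_mem_C y hy) hy (d.normL _ d.b_mem_C l hl) hl e
    have hlT : l ∈ L ⊓ centralizer ({(b : G)} : Set G) :=
      mem_inf.2 ⟨hl, mem_centralizer_singleton_iff.2 (mul_inv_eq_iff_eq_mul.1 e2).symm⟩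
    rw [mul_assoc, hab l hlT x hx, ← mul_assoc, d.comm hy hx.1, mul_assoc]
  rcases d.mem_or_mul_mem d.b_mem_C d.b_notMem hg with h1 | h1
  · exact key g h1 hgb
  · have h2 := key _ h1 (by rw [mul_assoc, h.bb, mul_one, ← mul_assoc, ← hgb, mul_assoc, h.bb, mul_one])
    have hxb : (b : G) * x = x * b := (mem_centralizer_singleton_iff.1 hx.2).symm
    rw [mul_assoc, hxb, ← mul_assoc, ← mul_assoc] at h2
    exact mul_right_cancel h2

theorem wI_facts : wI n a b * wI n a b = 1 ∧ wI n a b ∈ centralizer ({MC.zG n a} : Set G) ∧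
    wI n a b * (b : G) * (wI n a b)⁻¹ = MC.zG n a * b ∧
    wI n a b * (MC.zG n a * b) * (wI n a b)⁻¹ = b := by
  have hqC : MC.qG n a ∈ centralizer ({MC.zG n a} : Set G) := d.le (mem_sup_right d.q_mem)
  have hbq : (b : G) * MC.qG n a = (MC.qG n a)⁻¹ * b := mul_inv_eq_iff_eq_mul.1 h.bq
  have hww : wI n a b * wI n a b = 1 := by
    rw [wI, mul_assoc, ← mul_assoc (b : G), hbq, mul_assoc, h.bb, mul_one, mul_inv_cancel]
  have hwC : wI n a b ∈ centralizer ({MC.zG n a} : Set G) := mul_mem hqC d.b_mem_C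
  have e1 : wI n a b * (b : G) * (wI n a b)⁻¹ = MC.zG n a * b := by
    rw [inv_eq_of_mul_eq_one_right hww, wI]
    rw [mul_assoc (MC.qG n a) (b : G), h.bb, mul_one, ← mul_assoc, h.q_sq]
  refine ⟨hww, hwC, e1, ?_⟩
  calc wI n a b * (MC.zG n a * b) * (wI n a b)⁻¹
      = wI n a b * MC.zG n a * (wI n a b)⁻¹ * (wI n a b * b * (wI n a b)⁻¹) := by group
    _ = b := by
      rw [e1, mem_centralizer_singleton_iff.1 hwC, mul_inv_cancel_right, ← mul_assoc, h.zz, one_mul]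

include hr hr2 hu huT

theorem dvd_card : r ∣ Nat.card ↥(L ⊓ centralizer ({(b : G)} : Set G)) :=
  hu ▸ (orderOf_mk u huT ▸ _root_.orderOf_dvd_natCard (⟨u, huT⟩ : ↥(L ⊓ centralizer ({(b : G)} : Set G))))

theorem dvd_L : r ∣ Nat.card L := (d.dvd_card hr hr2 hu huT).trans (card_dvd_of_le inf_le_left)

theorem u_comm : u * MC.zG n a = MC.zG n a * u ∧ u * (b : G) = b * u :=
  ⟨mem_centralizer_singleton_iff.1 (d.le (mem_sup_right huT.1)), mem_centralizer_singleton_iff.1 huT.2⟩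

theorem wI_inverts : wI n a b * u * (wI n a b)⁻¹ = u⁻¹ := by
  obtain ⟨-, -, hinv⟩ := d.fix_spec d.b_mem_C h.bb h.b_ne_one h.b_ne_z
  rw [show wI n a b * u * (wI n a b)⁻¹ = MC.qG n a * ((b : G) * u * (b : G)⁻¹) * (MC.qG n a)⁻¹ by
    simp [wI, mul_assoc], ← (d.u_comm hr hr2 hu huT).2, mul_inv_cancel_right]
  exact hinv h.bq u huT

/-- A 2-group centralizing `u` and containing the four-group is the four-group. -/
theorem two_group_four {T : Subgroup G} (hT : IsPGroup 2 T) (hTu : T ≤ centralizer ({u} : Set G))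
    (hzT : MC.zG n a ∈ T) (hbT : (b : G) ∈ T) : ∀ t ∈ T, t = 1 ∨ t = MC.zG n a ∨ t = (b : G) ∨
      t = MC.zG n a * b := by
  classical
  haveI : Fact (Nat.Prime 2) := ⟨Nat.prime_two⟩
  obtain ⟨U, hU, -, -, -, hmem⟩ := h.exists_U
  have hUT : U ≤ T := fun x hx => by
    rcases (hmem x).1 hx with rfl | rfl | rfl | rfl
    exacts [one_mem _, hzT, hbT, mul_mem hzT hbT]
  have h0 : T ⊓ centralizer ({MC.zG n a} : Set G) = U := by
    refine (Subgroup.eq_of_le_of_card_ge (fun x hx => mem_inf.2 ⟨hUT hx, ?_⟩) ?_).symm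
    · rcases (hmem x).1 hx with rfl | rfl | rfl | rfl
      exacts [one_mem _, mem_centralizer_singleton_iff.2 rfl, d.b_mem_C,
        mul_mem (mem_centralizer_singleton_iff.2 rfl) d.b_mem_C]
    · rw [hU.1]
      exact d.two_group_card d.b_mem_C h.bb h.b_ne_one h.b_ne_z hr hr2 hu huT (hT.to_le inf_le_left)
        inf_le_right (inf_le_left.trans hTu)
  obtain ⟨e0, -, he0c, he0⟩ := Transfer.exists_central_orderOf_eq_prime hT (⊤ : Subgroup T) fun e => by
    have := Subgroup.card_top (G := T)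
    rw [e, Subgroup.card_bot] at this
    have := card_le_of_le hUT
    rw [hU.1] at this
    omega
  have hec : ∀ t ∈ T, (e0 : G) * t = t * e0 := fun t ht =>
    (congrArg Subtype.val (mem_center_iff.1 he0c ⟨t, ht⟩) :).symm
  have he0U : (e0 : G) ∈ U := h0 ▸ mem_inf.2 ⟨e0.2, mem_centralizer_singleton_iff.2 (hec _ hzT)⟩
  have he0o : orderOf (e0 : G) = 2 := by rw [Subgroup.orderOf_coe, he0]
  obtain ⟨g, hg⟩ := isConj_iff.1 (h.all_conj (e0 : G) (MC.zG n a) he0o h.orderOf_z)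
  obtain ⟨f0, hf0T, hf0, hf01, hf00⟩ : ∃ f0, f0 ∈ T ∧ f0 * f0 = 1 ∧ f0 ≠ 1 ∧ f0 ≠ (e0 : G) := by
    by_cases e : (e0 : G) = MC.zG n a
    · exact ⟨b, hbT, h.bb, h.b_ne_one, fun e' => h.b_ne_z (e'.trans e)⟩
    · exact ⟨MC.zG n a, hzT, h.zz, h.z_ne_one, Ne.symm e⟩
  set T' := T.map (MulAut.conj g).toMonoidHom with hT'
  have hmT : ∀ t ∈ T, g * t * g⁻¹ ∈ T' := fun t ht => ⟨t, ht, rfl⟩
  have hT'C : T' ≤ centralizer ({MC.zG n a} : Set G) := by
    rintro _ ⟨t, ht, rfl⟩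
    rw [mem_centralizer_singleton_iff, ← hg]
    simp only [MulEquiv.coe_toMonoidHom, MulAut.conj_apply]
    rw [conj_mul, conj_mul, hec t ht]
  set f := g * f0 * g⁻¹ with hf
  set u' := g * u * g⁻¹ with hu'
  have hu'o : orderOf u' = r := by rw [hu', ← MulAut.conj_apply, MulEquiv.orderOf_eq, hu]
  have hu'C : u' ∈ centralizer ({MC.zG n a} : Set G) := by
    rw [mem_centralizer_singleton_iff, ← hg, hu', conj_mul, conj_mul,
      mem_centralizer_singleton_iff.1 (hTu e0.2)]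
  have hu'L := d.mem_L_of_prime hr hr2 (d.dvd_L hr hr2 hu huT) hu'C hu'o
  have hfu : u' ∈ centralizer ({f} : Set G) := by
    rw [mem_centralizer_singleton_iff, hf, hu', conj_mul, conj_mul,
      mem_centralizer_singleton_iff.1 (hTu hf0T)]
  have hcard := d.two_group_card (f := f) (hT'C (hmT f0 hf0T))
    (by rw [hf, conj_mul, hf0]; group)
    (fun e => hf01 (conj_eq_one_iff.1 e))
    (fun e => hf00 (mul_left_cancel (mul_right_cancel (e.trans hg.symm))))
    hr hr2 hu'o ⟨hu'L, hfu⟩ (hT.map _) hT'C (by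
      rintro _ ⟨t, ht, rfl⟩
      rw [mem_centralizer_singleton_iff, hu']
      simp only [MulEquiv.coe_toMonoidHom, MulAut.conj_apply]
      rw [conj_mul, conj_mul, mem_centralizer_singleton_iff.1 (hTu ht)])
  rw [card_map_of_injective (MulEquiv.injective _)] at hcard
  have hTU : T = U := (Subgroup.eq_of_le_of_card_ge hUT (by rwa [hU.1])).symm
  intro t ht
  exact (hmem t).1 (hTU ▸ ht)

/-- Every 2-subgroup of the centralizer of `u` is conjugate there into the four-group. -/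
theorem conj_into_four {T : Subgroup G} (hT : IsPGroup 2 T) (hTu : T ≤ centralizer ({u} : Set G)) :
    ∃ k, k * u = u * k ∧ ∀ t ∈ T, k * t * k⁻¹ = 1 ∨ k * t * k⁻¹ = MC.zG n a ∨ k * t * k⁻¹ = (b : G) ∨
      k * t * k⁻¹ = MC.zG n a * b := by
  haveI : Fact (Nat.Prime 2) := ⟨Nat.prime_two⟩
  set H := centralizer ({u} : Set G)
  obtain ⟨hz, hb⟩ := d.u_comm hr hr2 hu huT
  obtain ⟨U, hU, -, hzU, hbU, hmem⟩ := h.exists_U
  have hUH : U ≤ H := fun x hx => by
    have hzH : MC.zG n a ∈ H := mem_centralizer_singleton_iff.2 hz.symm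
    have hbH : (b : G) ∈ H := mem_centralizer_singleton_iff.2 hb.symm
    rcases (hmem x).1 hx with rfl | rfl | rfl | rfl
    exacts [one_mem _, hzH, hbH, mul_mem hzH hbH]
  obtain ⟨P, hP⟩ := ((isPGroup_four hU).comap_subtype (K := H)).exists_le_sylow
  obtain ⟨Q, hQ⟩ := (hT.comap_subtype (K := H)).exists_le_sylow
  obtain ⟨k, hk⟩ := MulAction.exists_smul_eq H Q P
  refine ⟨k, mem_centralizer_singleton_iff.1 k.2, fun t ht => ?_⟩
  refine d.two_group_four hr hr2 hu huT (P.isPGroup'.map H.subtype) (by rintro _ ⟨y, -, rfl⟩; exact y.2)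
    ⟨⟨_, hUH hzU⟩, hP (mem_subgroupOf.2 hzU), rfl⟩ ⟨⟨_, hUH hbU⟩, hP (mem_subgroupOf.2 hbU), rfl⟩ _
    ⟨k * ⟨t, hTu ht⟩ * k⁻¹, ?_, rfl⟩
  rw [SetLike.mem_coe, ← hk, Sylow.coe_subgroup_smul]
  exact smul_mem_pointwise_smul _ (MulAut.conj k) _ (hQ (mem_subgroupOf.2 ht))

theorem no_order_four (y : G) (hy : y * u = u * y) : orderOf y ≠ 4 := by
  intro h4
  obtain ⟨k, -, hk⟩ := d.conj_into_four hr hr2 hu huT (T := zpowers y)
    (IsPGroup.of_card (n := 2) (by rw [Nat.card_zpowers, h4]; norm_num))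
    (zpowers_le.2 (mem_centralizer_singleton_iff.2 hy))
  have h1 : k * y * k⁻¹ * (k * y * k⁻¹) = 1 := by
    rcases hk y (mem_zpowers y) with e | e | e | e <;> rw [e]
    · exact one_mul 1
    · exact h.zz
    · exact h.bb
    · rw [mul_assoc, h.bzb, h.zz]
  rw [conj_mul, conj_eq_one_iff, ← pow_two] at h1
  have := Nat.le_of_dvd two_pos (h4 ▸ orderOf_dvd_of_pow_eq_one h1)
  omega

/-- A 3-element permuting the four-group and centralizing `u`. -/
theorem exists_cycle : ∃ c : G, c * MC.zG n a * c⁻¹ = b ∧ c * b * c⁻¹ = MC.zG n a * b ∧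
    c * (MC.zG n a * b) * c⁻¹ = MC.zG n a ∧ (∃ k, c ^ (3 ^ k) = 1) ∧ c * u = u * c := by
  haveI : Fact (Nat.Prime 3) := ⟨Nat.prime_three⟩
  obtain ⟨U, hU, hUS, hzU, hbU, hmem⟩ := h.exists_U
  have h6 := QD.rF_six_of_conj h.qd (h.all_conj _ _ h.orderOf_z
    (orderOf_eq_prime (by rw [pow_two, h.bb]) h.b_ne_one)) hU hUS
  obtain ⟨c1, hc1N, hc1o, hc1C⟩ := exists_odd_not_mem_of_six (centralizer_normal_in_normalizer U) h6
  have hcent : ∀ g : G, g * MC.zG n a * g⁻¹ = MC.zG n a → g * b * g⁻¹ = b →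
      g ∈ centralizer (U : Set G) := fun g e1 e2 => mem_centralizer_iff.2 fun x hx => by
    rw [mul_inv_eq_iff_eq_mul] at e1 e2
    rcases (hmem x).1 hx with rfl | rfl | rfl | rfl
    · simp
    · exact e1.symm
    · exact e2.symm
    · rw [mul_assoc, ← e2, ← mul_assoc, ← e1, mul_assoc]
  have hcube : c1 ^ 3 ∈ centralizer (U : Set G) := by
    have e : ∀ x, c1 ^ 3 * x * (c1 ^ 3)⁻¹ = c1 * (c1 * (c1 * x * c1⁻¹) * c1⁻¹) * c1⁻¹ := fun x => by
      simp [pow_succ, mul_assoc]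
    rcases h.cycle hmem hc1o hc1N with ⟨e1, e2⟩ | ⟨e1, e2, e3⟩ | ⟨e1, e2, e3⟩
    · exact absurd (hcent _ e1 e2) hc1C
    · exact hcent _ (by rw [e, e1, e2, e3]) (by rw [e, e2, e3, e1])
    · exact hcent _ (by rw [e, e1, e2, e3]) (by rw [e, e3, e1, e2])
  set c2 := Element.pPart 3 c1 with hc2
  have hc2N : c2 ∈ normalizer (U : Set G) := zpowers_le.2 hc1N (Element.pPart_mem_zpowers 3 c1)
  have hc2o : Odd (orderOf c2) := by
    rw [hc2, Element.orderOf_pPart_eq_pow Nat.prime_three]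
    exact Odd.pow (by decide)
  have hc2C : c2 ∉ centralizer (U : Set G) := by
    intro hc2C
    apply hc1C
    rw [← Element.pPart_mul_pComplPart 3 c1]
    refine mul_mem hc2C ?_
    obtain ⟨i, hi⟩ := Element.pComplPart_mem_zpowers 3 c1
    simp only at hi
    obtain ⟨m, hm⟩ := exists_pow_eq_self_of_coprime (x := Element.pComplPart 3 c1) (n := 3)
      (Element.coprime_orderOf_pComplPart Nat.prime_three c1).symm
    rw [← hm]
    refine pow_mem ?_ m
    rw [← hi, ← zpow_natCast, ← zpow_mul, mul_comm, zpow_mul, zpow_natCast]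
    exact zpow_mem hcube i
  obtain ⟨c, e1, e2, e3, hk, hco⟩ : ∃ c : G, c * MC.zG n a * c⁻¹ = b ∧ c * b * c⁻¹ = MC.zG n a * b ∧
      c * (MC.zG n a * b) * c⁻¹ = MC.zG n a ∧ (∃ k, c ^ (3 ^ k) = 1) ∧ Odd (orderOf c) := by
    have hk : c2 ^ (3 ^ (orderOf c1).factorization 3) = 1 := by
      rw [← Element.orderOf_pPart_eq_pow Nat.prime_three, pow_orderOf_eq_one]
    rcases h.cycle hmem hc2o hc2N with ⟨e1, e2⟩ | ⟨e1, e2, e3⟩ | ⟨e1, e2, e3⟩
    · exact absurd (hcent _ e1 e2) hc2C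
    · exact ⟨c2, e1, e2, e3, ⟨_, hk⟩, hc2o⟩
    · have q : ∀ x y, c2 * x * c2⁻¹ = y → c2⁻¹ * y * (c2⁻¹)⁻¹ = x := fun x y e => by rw [← e]; group
      exact ⟨c2⁻¹, q _ _ e3, q _ _ e2, q _ _ e1, ⟨_, by rw [inv_pow, hk, inv_one]⟩, by rwa [orderOf_inv]⟩
  refine ⟨c, e1, e2, e3, hk, ?_⟩
  obtain ⟨hww, hwC, hwb, hwzb⟩ := d.wI_facts
  set w := wI n a b
  have hwz : w * MC.zG n a * w⁻¹ = MC.zG n a := by
    rw [mem_centralizer_singleton_iff.1 hwC, mul_inv_cancel_right]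
  have hwi : w⁻¹ = w := inv_eq_of_mul_eq_one_right hww
  have hwinv := d.wI_inverts hr hr2 hu huT
  -- the conjugate of `u` is a power of `u`
  set u' := c * u * c⁻¹
  obtain ⟨hz, hb⟩ := d.u_comm hr hr2 hu huT
  have hu'o : orderOf u' = r := by
    show orderOf (c * u * c⁻¹) = r
    rw [← MulAut.conj_apply, MulEquiv.orderOf_eq, hu]
  have hconjc : ∀ x y, c * x * c⁻¹ = y → Commute u x → u' * y = y * u' := fun x y e hc => by
    rw [← e]; exact (hc.map (MulAut.conj c).toMonoidHom).eq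
  have hu'z : u' * MC.zG n a = MC.zG n a * u' := hconjc _ _ e3 (Commute.mul_right hz hb)
  have hu'b : u' * (b : G) = b * u' := hconjc _ _ e1 hz
  have hu'L := d.mem_L_of_prime hr hr2 (d.dvd_L hr hr2 hu huT) (mem_centralizer_singleton_iff.2 hu'z) hu'o
  obtain ⟨-, hab, -⟩ := d.fix_spec d.b_mem_C h.bb h.b_ne_one h.b_ne_z
  obtain ⟨i, hi⟩ := mem_zpowers_of_prime hr (h.cyc r hr hr2) hu'o hu
    (hab _ (mem_inf.2 ⟨hu'L, mem_centralizer_singleton_iff.2 hu'b⟩) _ huT)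
  simp only at hi
  -- the twisted square fixes the four-group
  set g := w * c * w⁻¹ * c
  have hg : ∀ x, g * x * g⁻¹ = w * (c * (w⁻¹ * (c * x * c⁻¹) * w) * c⁻¹) * w⁻¹ := fun x => by
    simp only [g]; group
  have hwb' : w⁻¹ * (b : G) * w = MC.zG n a * b := by nth_rw 1 [hwi]; nth_rw 2 [← hwi]; exact hwb
  have hwzb' : w⁻¹ * (MC.zG n a * b) * w = b := by nth_rw 1 [hwi]; nth_rw 2 [← hwi]; exact hwzb
  have hgu : g * u = u * g := d.cent_four (mul_inv_eq_iff_eq_mul.1 (by rw [hg, e1, hwb', e3, hwz]))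
    (mul_inv_eq_iff_eq_mul.1 (by rw [hg, e2, hwzb', e2, hwzb])) huT
  have h2 : Commute (c * c) u := by
    rw [commute_iff_eq, ← mul_inv_eq_iff_eq_mul]
    have hw' : w⁻¹ * u * w = u⁻¹ := by nth_rw 1 [hwi]; nth_rw 2 [← hwi]; exact hwinv
    have h3 : g * u * g⁻¹ = u := by rw [hgu, mul_inv_cancel_right]
    rw [hg] at h3
    have e4 : w⁻¹ * (c * u * c⁻¹) * w = u ^ (-i) := by
      rw [show c * u * c⁻¹ = u ^ i from hi.symm]
      have := conj_zpow (a := w⁻¹) (b := u) (i := i)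
      rw [inv_inv, hw', inv_zpow, ← zpow_neg] at this
      exact this.symm
    rw [e4] at h3
    calc c * c * u * (c * c)⁻¹ = c * (c * u * c⁻¹) * c⁻¹ := by group
      _ = c * u ^ i * c⁻¹ := by rw [show c * u * c⁻¹ = u ^ i from hi.symm]
      _ = (c * u ^ (-i) * c⁻¹)⁻¹ := by group
      _ = (w⁻¹ * (w * (c * u ^ (-i) * c⁻¹) * w⁻¹) * w)⁻¹ := by group
      _ = u := by rw [h3, hw', inv_inv]
  exact (commute_of_sq hco h2).eq

/-- An element normalizing `⟨u⟩` inverts or centralizes it. -/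
theorem automiser {g : G} (hg : g * u * g⁻¹ ∈ zpowers u) :
    g * u * g⁻¹ = u ∨ g * u * g⁻¹ = u⁻¹ := by
  obtain ⟨U, hU, hUS, hzU, hbU, hmem⟩ := h.exists_U
  obtain ⟨hz, hb⟩ := d.u_comm hr hr2 hu huT
  obtain ⟨i, hi⟩ := hg
  simp only at hi
  have hgen : u ∈ zpowers (g * u * g⁻¹) := by
    refine mem_zpowers_of_order_eq (mem_zpowers u) ⟨i, hi⟩ ?_
    rw [← MulAut.conj_apply, MulEquiv.orderOf_eq]
  have hUu : U.map (MulAut.conj g).toMonoidHom ≤ centralizer ({u} : Set G) := by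
    rintro _ ⟨x, hx, rfl⟩
    obtain ⟨j, hj⟩ := hgen
    rw [mem_centralizer_singleton_iff, ← hj]
    have hxu : Commute x u := by
      rcases (hmem x).1 hx with rfl | rfl | rfl | rfl
      · exact Commute.one_left u
      · exact hz.symm
      · exact hb.symm
      · exact Commute.mul_left hz.symm hb.symm
    have hc : Commute (g * x * g⁻¹) (g * u * g⁻¹) := (hxu.map (MulAut.conj g).toMonoidHom)
    exact (hc.zpow_right j).eq
  obtain ⟨k, hku, hk⟩ := d.conj_into_four hr hr2 hu huT ((isPGroup_four hU).map _) hUu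
  set m := k * g
  have hmN : m ∈ normalizer (U : Set G) := by
    rw [← map_conj_eq_self_iff_mem_normalizer]
    refine Subgroup.eq_of_le_of_card_ge ?_ (card_map_conj _ _).ge
    rintro _ ⟨x, hx, rfl⟩
    have := (hmem _).2 (hk _ ⟨x, hx, rfl⟩)
    simpa [m, mul_assoc] using this
  have hmu : m * u * m⁻¹ = g * u * g⁻¹ := by
    have hcm : Commute k (g * u * g⁻¹) := hi ▸ (Commute.zpow_right hku i)
    calc m * u * m⁻¹ = k * (g * u * g⁻¹) * k⁻¹ := by simp only [m]; group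
      _ = _ := by rw [hcm.eq, mul_inv_cancel_right]
  rw [← hmu]
  obtain ⟨c, e1, e2, e3, -, hcu⟩ := d.exists_cycle hr hr2 hu huT
  obtain ⟨hww, hwC, hwb, hwzb⟩ := d.wI_facts
  set w := wI n a b
  have hwz : w * MC.zG n a * w⁻¹ = MC.zG n a := by
    rw [mem_centralizer_singleton_iff.1 hwC, mul_inv_cancel_right]
  have hwinv := d.wI_inverts hr hr2 hu huT
  have fixz : ∀ m' ∈ normalizer (U : Set G), m' * MC.zG n a * m'⁻¹ = MC.zG n a →
      m' * u * m'⁻¹ = u ∨ m' * u * m'⁻¹ = u⁻¹ := by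
    intro m' hm' hmz
    have hmem' := (hmem _).1 ((Subgroup.mem_normalizer_iff.1 hm' _).1 hbU)
    rcases hmem' with e | e | e | e
    · exact absurd (conj_eq_one_iff.1 e) h.b_ne_one
    · exact absurd (mul_left_cancel (mul_right_cancel (e.trans hmz.symm))) h.b_ne_z
    · left
      rw [d.cent_four (mul_inv_eq_iff_eq_mul.1 hmz) (mul_inv_eq_iff_eq_mul.1 e) huT, mul_inv_cancel_right]
    · right
      have e' : ∀ x, w * m' * x * (w * m')⁻¹ = w * (m' * x * m'⁻¹) * w⁻¹ := fun x => by group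
      have h1 := d.cent_four (g := w * m')
        (mul_inv_eq_iff_eq_mul.1 (by rw [e', hmz, hwz]))
        (mul_inv_eq_iff_eq_mul.1 (by rw [e', e, hwzb])) huT
      calc m' * u * m'⁻¹ = w⁻¹ * (w * m' * u * (w * m')⁻¹) * w := by group
        _ = w⁻¹ * u * w := by rw [h1, mul_inv_cancel_right]
        _ = u⁻¹ := by
          rw [← hwinv, inv_eq_of_mul_eq_one_right hww]
  have hcN : c ∈ normalizer (U : Set G) := by
    rw [← map_conj_eq_self_iff_mem_normalizer]
    refine Subgroup.eq_of_le_of_card_ge ?_ (card_map_conj _ _).ge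
    rintro _ ⟨x, hx, rfl⟩
    refine (hmem _).2 ?_
    simp only [MulEquiv.coe_toMonoidHom, MulAut.conj_apply]
    rcases (hmem x).1 hx with rfl | rfl | rfl | rfl
    · left; group
    · right; right; left; exact e1
    · right; right; right; exact e2
    · right; left; exact e3
  have hcu' : c⁻¹ * u = u * c⁻¹ := ((show Commute c u from hcu).inv_left).eq
  have step : ∀ c' : G, c' ∈ normalizer (U : Set G) → c' * u = u * c' →
      (c' * m) * MC.zG n a * (c' * m)⁻¹ = MC.zG n a → m * u * m⁻¹ = u ∨ m * u * m⁻¹ = u⁻¹ := by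
    intro c' hc' hc'u hz'
    have hc'i : Commute c'⁻¹ u := (show Commute c' u from hc'u).inv_left
    have hmm : m * u * m⁻¹ = c'⁻¹ * (c' * m * u * (c' * m)⁻¹) * c' := by group
    rcases fixz _ (mul_mem hc' hmN) hz' with e | e
    · left; rw [hmm, e, hc'i.eq, inv_mul_cancel_right]
    · right; rw [hmm, e, hc'i.inv_right.eq, inv_mul_cancel_right]
  rcases (hmem _).1 ((Subgroup.mem_normalizer_iff.1 hmN _).1 hzU) with e | e | e | e
  · exact absurd (conj_eq_one_iff.1 e) h.z_ne_one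
  · exact step 1 (one_mem _) (by simp) (by rw [one_mul, e])
  · refine step c⁻¹ (inv_mem hcN) hcu' ?_
    rw [show c⁻¹ * m * MC.zG n a * (c⁻¹ * m)⁻¹ = c⁻¹ * (m * MC.zG n a * m⁻¹) * c by group, e, ← e1]
    group
  · refine step c hcN hcu ?_
    rw [show c * m * MC.zG n a * (c * m)⁻¹ = c * (m * MC.zG n a * m⁻¹) * c⁻¹ by group, e, e3]

end AData

end Cfsg.Agent.GW.SD
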