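import Cfsg.Agent.GW.SD.Four
import Mathlib.GroupTheory.SpecificGroups.Cyclic

/-!
The exceptional character at an element of 3-power order inverted by an involution.
-/

set_option autoImplicit false
set_option linter.unusedSectionVars false
set_option linter.style.haveILetI false

open Cfsg

namespace Cfsg.Agent.GW.SD

open Subgroup

universe u

variable {G : Type u} [Group G] [Finite G]

/-- A `3`-element normalizing a cyclic `3`-subgroup commutes with its generator. -/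
theorem three_commute (hcyc : OddCyclic G) {u v : G} {i j : ℕ} (hu : orderOf u = 3 ^ i)
    (hv : v ^ (3 ^ j) = 1) (hn : v ∈ normalizer ((zpowers u : Subgroup G) : Set G)) :
    v * u = u * v := by
  haveI : Fact (Nat.Prime 3) := ⟨Nat.prime_three⟩
  obtain ⟨k, -, hk⟩ := (Nat.dvd_prime_pow Nat.prime_three).1 (orderOf_dvd_of_pow_eq_one hv)
  have hP : IsPGroup 3 (zpowers v ⊔ zpowers u : Subgroup G) :=
    (IsPGroup.of_card (n := k) (by rw [Nat.card_zpowers, hk])).to_sup_of_normal_right'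
      (IsPGroup.of_card (n := i) (by rw [Nat.card_zpowers, hu])) (zpowers_le.2 hn)
  haveI := hcyc 3 Nat.prime_three (by norm_num) _ hP
  obtain ⟨o, ho⟩ := IsCyclic.exists_generator (α := (zpowers v ⊔ zpowers u : Subgroup G))
  obtain ⟨e1, he1⟩ := ho ⟨v, mem_sup_left (mem_zpowers v)⟩
  obtain ⟨e2, he2⟩ := ho ⟨u, mem_sup_right (mem_zpowers u)⟩
  have := (Commute.zpow_zpow_self o e1 e2).eq
  rw [show o ^ e1 = _ from he1, show o ^ e2 = _ from he2] at this
  exact congrArg Subtype.val this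

/-- The automiser of a cyclic `3`-subgroup has order at most two. -/
theorem aut_three (hcyc : OddCyclic G) {u g : G} {j : ℕ} (hu : orderOf u = 3 ^ (j + 1))
    (hg : g * u * g⁻¹ ∈ zpowers u) : g * u * g⁻¹ = u ∨ g * u * g⁻¹ = u⁻¹ := by
  classical
  haveI : Fact (Nat.Prime 3) := ⟨Nat.prime_three⟩
  set N := normalizer ((zpowers u : Subgroup G) : Set G) with hN
  have hgN : g ∈ N := by
    rw [hN, ← TwoFusion.map_conj_eq_self_iff_mem_normalizer]
    refine Subgroup.eq_of_le_of_card_ge ?_ (TwoFusion.card_map_conj _ _).ge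
    rw [MonoidHom.map_zpowers, zpowers_le]
    exact hg
  let φ : N →* MulAut (zpowers u) := (zpowers u).normalizerMonoidHom
  have hφ : ∀ (x : N), ((φ x ⟨u, mem_zpowers u⟩ : zpowers u) : G) = x * u * (x : G)⁻¹ := fun _ => rfl
  set g' : N := ⟨g, hgN⟩
  have hv : φ (Element.pPart 3 g') = 1 := by
    have hc : ((Element.pPart 3 g' : N) : G) * u = u * ((Element.pPart 3 g' : N) : G) :=
      three_commute hcyc hu (j := (orderOf g').factorization 3)
        (by rw [← SubmonoidClass.coe_pow, ← Element.orderOf_pPart_eq_pow Nat.prime_three,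
          pow_orderOf_eq_one]; rfl)
        (Element.pPart 3 g').2
    refine MulEquiv.ext fun x => ?_
    obtain ⟨k, hk⟩ := Subgroup.mem_zpowers_iff.1 x.2
    have hx : x = (⟨u, mem_zpowers u⟩ : zpowers u) ^ k := Subtype.ext (by simpa using hk.symm)
    rw [hx, map_zpow, MulAut.one_apply]
    congr 1
    exact Subtype.ext (by rw [hφ, hc, mul_inv_cancel_right])
  have hgm : φ g' = φ (Element.pComplPart 3 g') := by
    conv_lhs => rw [← Element.pPart_mul_pComplPart 3 g', map_mul, hv, one_mul]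
  have hσ : φ g' ^ 2 = 1 := by
    have h1 : orderOf (φ g') ∣ orderOf (Element.pComplPart 3 g') := hgm ▸ orderOf_map_dvd φ _
    have h2 : orderOf (φ g') ∣ 3 ^ j * 2 := by
      have := _root_.orderOf_dvd_natCard (φ g')
      rwa [IsCyclic.card_mulAut, Nat.card_zpowers, hu,
        Nat.totient_prime_pow_succ Nat.prime_three] at this
    have h3 : (orderOf (φ g')).Coprime (3 ^ j) :=
      ((Element.coprime_orderOf_pComplPart Nat.prime_three g').coprime_dvd_left h1).pow_right j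
    exact orderOf_dvd_iff_pow_eq_one.1 (h3.dvd_of_dvd_mul_left h2)
  obtain ⟨i, hi⟩ := Subgroup.mem_zpowers_iff.1 hg
  have hsq : u ^ (i * i) = u := by
    have h1 := congrArg (fun σ : MulAut (zpowers u) => ((σ ⟨u, mem_zpowers u⟩ : zpowers u) : G)) hσ
    simp only [pow_two, ← map_mul, MulAut.one_apply] at h1
    rw [hφ] at h1
    rw [_root_.zpow_mul, hi, conj_zpow, hi]
    calc g * (g * u * g⁻¹) * g⁻¹ = (g * g) * u * (g * g)⁻¹ := by group
      _ = u := h1
  have hd : (3 ^ (j + 1) : ℤ) ∣ (i - 1) * (i + 1) := by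
    have : (orderOf u : ℤ) ∣ i * i - 1 :=
      (TwoGroups.zpow_eq_zpow_iff u (i * i) 1).1 (hsq.trans (zpow_one u).symm)
    rw [hu] at this
    rw [show (i - 1) * (i + 1) = i * i - 1 by ring]
    exact_mod_cast this
  have h3 : Prime (3 : ℤ) := Int.prime_three
  rcases (by omega : ¬ (3 : ℤ) ∣ i + 1 ∨ ¬ (3 : ℤ) ∣ i - 1) with h | h
  · left
    have := (h3.coprime_iff_not_dvd.2 h).pow_left (m := j + 1) |>.dvd_of_dvd_mul_right hd
    rw [← hi]
    refine Eq.trans ?_ (zpow_one u)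
    rw [TwoGroups.zpow_eq_zpow_iff, hu]
    exact_mod_cast this
  · right
    have := (h3.coprime_iff_not_dvd.2 h).pow_left (m := j + 1) |>.dvd_of_dvd_mul_left hd
    rw [← hi]
    rw [show u⁻¹ = u ^ (-1 : ℤ) by group, TwoGroups.zpow_eq_zpow_iff, hu, sub_neg_eq_add]
    exact_mod_cast this

/-- The configuration at `u`, with a normal `3`-complement `N` of its centralizer. -/
theorem exists_key_three (hcyc : OddCyclic G) {u w : G} {j : ℕ} (hu : orderOf u = 3 ^ (j + 1))
    (hww : w * w = 1) (hinv : w * u * w⁻¹ = u⁻¹) :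
    ∃ (N M : Subgroup G) (lam : centralizer ({u} : Set G) →* ℂˣ) (κ : ℕ),
      Key (centralizer ({u} : Set G)) M lam u w ∧ N ≤ centralizer ({u} : Set G) ∧
      ¬ 3 ∣ Nat.card N ∧
      (∀ g ∈ centralizer ({u} : Set G), ¬ 3 ∣ orderOf g → g ∈ N) ∧
      (∀ g ∈ centralizer ({u} : Set G), g * w = w * g → g ∈ N) ∧
      (∀ g ∈ M, ∀ x ∈ N, g * x * g⁻¹ ∈ N) ∧
      Nat.card (centralizer ({u} : Set G)) = 3 ^ κ * Nat.card N ∧ j + 1 ≤ κ ∧
      ∀ A : Subgroup G, A ≤ centralizer ({u} : Set G) →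
        (∃ c ∈ centralizer ({u} : Set G), ∀ g ∈ A, g⁻¹ * c ∉ N) →
        3 * Nat.card A ≤ 3 ^ κ * Nat.card ↥(A ⊓ N) := by
  classical
  haveI : Fact (Nat.Prime 3) := ⟨Nat.prime_three⟩
  set H := centralizer ({u} : Set G) with hH
  have huH : u ∈ H := mem_centralizer_singleton_iff.2 rfl
  set uH : H := ⟨u, huH⟩
  have huc : uH ∈ center H := mem_center_iff.2 fun x => Subtype.ext (mem_centralizer_singleton_iff.1 x.2)
  have huo : orderOf uH = 3 ^ (j + 1) := by rw [orderOf_mk, hu]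
  obtain ⟨P, hP⟩ := (IsPGroup.of_card (G := zpowers uH) (n := j + 1)
    (by rw [Nat.card_zpowers, huo])).exists_le_sylow
  have hHcyc : ∀ Q : Sylow 3 H, IsCyclic (Q : Subgroup H) := fun Q => by
    haveI := hcyc 3 Nat.prime_three (by norm_num) _ (Q.isPGroup'.map H.subtype)
    exact isCyclic_of_surjective _
      ((Q : Subgroup H).equivMapOfInjective H.subtype H.subtype_injective).symm.surjective
  have hu1 : uH ≠ 1 := by
    intro e
    rw [e, orderOf_one] at huo
    exact absurd huo.symm (Nat.one_lt_pow (by omega) (by norm_num)).ne'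
  obtain ⟨R, K, hK, hRK⟩ :=
    FGSev.hasNormalPComplement_of_cyclic_sylow_central P (hHcyc P) (hP (mem_zpowers uH)) hu1 huc
  haveI := hHcyc R
  haveI := hK
  have e : (R : Subgroup H) ≃* H ⧸ K := hRK.symm.QuotientMulEquiv.symm
  haveI : IsCyclic (H ⧸ K) := isCyclic_of_surjective _ e.surjective
  obtain ⟨κ, hκ⟩ := IsPGroup.iff_card.1 R.isPGroup'
  have hQ : Nat.card (H ⧸ K) = 3 ^ κ := by rw [← Nat.card_congr e.toEquiv, hκ]
  have hK3 : ¬ 3 ∣ Nat.card K := fun hd => R.not_dvd_index (by rwa [hRK.index_eq_card])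
  have hKmem : ∀ x : H, ¬ 3 ∣ orderOf x → x ∈ K := fun x hx => by
    refine (QuotientGroup.eq_one_iff x).1 (orderOf_eq_one_iff.1 ?_)
    exact Nat.eq_one_of_dvd_coprimes (((Nat.prime_three.coprime_iff_not_dvd).2 hx).pow_left κ)
      (hQ ▸ _root_.orderOf_dvd_natCard _) (orderOf_map_dvd (QuotientGroup.mk' K) x)
  have huQ : orderOf (uH : H ⧸ K) = 3 ^ (j + 1) := by
    refine Nat.dvd_antisymm (huo ▸ orderOf_map_dvd (QuotientGroup.mk' K) uH) (huo ▸ ?_)
    have h1 : uH ^ orderOf (uH : H ⧸ K) ∈ K := by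
      rw [← QuotientGroup.eq_one_iff, QuotientGroup.mk_pow, pow_orderOf_eq_one]
    refine orderOf_dvd_of_pow_eq_one (orderOf_eq_one_iff.1 (Nat.eq_one_of_dvd_coprimes
      (((Nat.prime_three.coprime_iff_not_dvd).2 hK3).pow_left (j + 1)) (huo ▸ orderOf_pow_dvd _)
      (orderOf_mk _ h1 ▸ _root_.orderOf_dvd_natCard (⟨_, h1⟩ : K))))
  have hjκ : j + 1 ≤ κ := by
    have := huQ ▸ hQ ▸ _root_.orderOf_dvd_natCard (uH : H ⧸ K)
    exact (Nat.pow_dvd_pow_iff_le_right (by norm_num)).1 this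
  haveI : NeZero (3 ^ κ) := ⟨by positivity⟩
  let f : H ⧸ K ≃* rootsOfUnity (3 ^ κ) ℂ := mulEquivOfCyclicCardEq (by
    rw [hQ, (Complex.isPrimitiveRoot_exp (3 ^ κ) (NeZero.ne _)).card_rootsOfUnity])
  let lam0 : H →* ℂˣ := ((rootsOfUnity (3 ^ κ) ℂ).subtype.comp f.toMonoidHom).comp (QuotientGroup.mk' K)
  have hker0 : ∀ x, lam0 x = 1 ↔ x ∈ K := fun x => by simp [lam0, QuotientGroup.eq_one_iff]
  let lam : H →* ℂˣ := (powMonoidHom (3 ^ j)).comp lam0
  have hlam : ∀ x, lam x = lam0 x ^ (3 ^ j) := fun x => rfl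
  set M := normalizer ((zpowers u : Subgroup G) : Set G) with hM
  have hti : ∀ g, g * u * g⁻¹ ∈ zpowers u → g ∈ M := fun g hg => by
    rw [hM, ← TwoFusion.map_conj_eq_self_iff_mem_normalizer]
    refine Subgroup.eq_of_le_of_card_ge ?_ (TwoFusion.card_map_conj _ _).ge
    rw [MonoidHom.map_zpowers, zpowers_le]
    exact hg
  have hMmem : ∀ g ∈ M, g * u * g⁻¹ = u ∨ g * u * g⁻¹ = u⁻¹ := fun g hg =>
    aut_three hcyc hu ((Subgroup.mem_normalizer_iff.1 hg u).1 (mem_zpowers u))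
  have hHM : H ≤ M := fun g hg => hti g (by
    rw [mem_centralizer_singleton_iff.1 hg, mul_inv_cancel_right]; exact mem_zpowers u)
  have hnormH : ∀ g ∈ M, ∀ x ∈ H, g * x * g⁻¹ ∈ H := by
    intro g hg x hx
    rw [hH, mem_centralizer_singleton_iff]
    have hc : Commute (g * x * g⁻¹) (g * u * g⁻¹) :=
      (show Commute x u from mem_centralizer_singleton_iff.1 hx).map (MulAut.conj g).toMonoidHom
    rcases hMmem g hg with e | e <;> rw [e] at hc
    · exact hc.eq
    · exact (by simpa using hc.inv_right : Commute (g * x * g⁻¹) u).eq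
  have hwM : w ∈ M := hti w (by rw [hinv]; exact inv_mem (mem_zpowers u))
  have hu2 : u⁻¹ ≠ u := fun e => by
    have := orderOf_dvd_of_pow_eq_one (n := 2) (x := u) (by rw [pow_two]; nth_rw 1 [← e]; exact inv_mul_cancel u)
    rw [hu] at this
    have h3 := (dvd_pow_self 3 j.succ_ne_zero).trans this
    norm_num at h3
  have hwH : w ∉ H := fun hw => hu2 (by
    rw [mem_centralizer_singleton_iff.1 hw, mul_inv_cancel_right] at hinv; exact hinv.symm)
  set N := K.map H.subtype with hNdef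
  have hNmem : ∀ g ∈ H, ¬ 3 ∣ orderOf g → g ∈ N := fun g hg h3 =>
    ⟨⟨g, hg⟩, hKmem _ (by rwa [orderOf_mk]), rfl⟩
  have hN3 : ¬ 3 ∣ Nat.card N := by rwa [hNdef, card_map_of_injective H.subtype_injective]
  have hnormN : ∀ g ∈ M, ∀ x ∈ N, g * x * g⁻¹ ∈ N := by
    rintro g hg _ ⟨x, hx, rfl⟩
    refine hNmem _ (hnormH g hg x x.2) fun hd => hK3 (hd.trans ?_)
    rw [← MulAut.conj_apply, MulEquiv.orderOf_eq]
    simp only [coe_subtype, Subgroup.orderOf_coe]
    exact Subgroup.orderOf_dvd_natCard K hx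
  let c : H →* H :=
    { toFun := fun y => ⟨w * y * w⁻¹, hnormH w hwM y y.2⟩
      map_one' := Subtype.ext (by simp)
      map_mul' := fun y y' => Subtype.ext (by simp [conj_mul]) }
  have hcinv : ∀ x : H, (c x : H ⧸ K) = (x : H ⧸ K)⁻¹ := by
    let cQ : H ⧸ K →* H ⧸ K := QuotientGroup.map K K c (fun x hx => hKmem _ fun hd => hK3 (by
      refine hd.trans (dvd_trans ?_ (Subgroup.orderOf_dvd_natCard K hx))
      exact orderOf_map_dvd c x))
    have hcQ : ∀ x : H, cQ (x : H ⧸ K) = (c x : H ⧸ K) := fun x => rfl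
    obtain ⟨m, hm⟩ := MonoidHom.map_cyclic cQ
    obtain ⟨o, ho⟩ := IsCyclic.exists_generator (α := H ⧸ K)
    obtain ⟨o', rfl⟩ := QuotientGroup.mk'_surjective K o
    have hoo : orderOf ((QuotientGroup.mk' K) o') = 3 ^ κ := by
      rw [← hQ]; exact orderOf_eq_card_of_forall_mem_zpowers ho
    have hcc : c (c o') = o' := Subtype.ext (by
      show w * (w * (o' : G) * w⁻¹) * w⁻¹ = o'
      calc w * (w * (o' : G) * w⁻¹) * w⁻¹ = (w * w) * o' * (w * w)⁻¹ := by group
        _ = o' := by rw [hww]; group)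
    have h1 : (3 : ℤ) ^ κ ∣ (m - 1) * (m + 1) := by
      have h2 : ((QuotientGroup.mk' K) o') ^ (m * m) = (QuotientGroup.mk' K) o' ^ (1 : ℤ) := by
        rw [zpow_one, _root_.zpow_mul, ← hm, ← hm]
        show ((c (c o') : H) : H ⧸ K) = _
        rw [hcc]; rfl
      rw [TwoGroups.zpow_eq_zpow_iff, hoo] at h2
      rw [show (m - 1) * (m + 1) = m * m - 1 by ring]
      exact_mod_cast h2
    have h3u : (3 : ℤ) ∣ m + 1 := by
      have h2 : (uH : H ⧸ K) ^ m = (uH : H ⧸ K) ^ (-1 : ℤ) := by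
        rw [← hm, hcQ, zpow_neg_one, ← QuotientGroup.mk_inv]
        congr 1
        exact Subtype.ext hinv
      rw [TwoGroups.zpow_eq_zpow_iff, huQ, sub_neg_eq_add] at h2
      exact (dvd_pow_self _ j.succ_ne_zero).trans (by exact_mod_cast h2)
    have h4 : (3 : ℤ) ^ κ ∣ m + 1 :=
      ((Int.prime_three.coprime_iff_not_dvd.2 (by omega)).pow_left (m := κ)).dvd_of_dvd_mul_left h1
    intro x
    rw [← hcQ, hm, ← zpow_neg_one, TwoGroups.zpow_eq_zpow_iff, sub_neg_eq_add]
    refine dvd_trans ?_ h4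
    have := _root_.orderOf_dvd_natCard (x : H ⧸ K)
    rw [hQ] at this
    exact_mod_cast this
  refine ⟨N, M, lam, κ, ⟨hHM, hnormH, huH, fun g hg => mem_centralizer_singleton_iff.1 hg, hwM, hwH,
    hww, ?_, ?_, ⟨uH, ?_⟩, ?_, hti, ?_⟩, map_subtype_le K, hN3, hNmem, ?_, hnormN, ?_, hjκ, ?_⟩
  · intro g hg hgH
    rcases hMmem g hg with e | e
    · exact absurd (mem_centralizer_singleton_iff.2 (mul_inv_eq_iff_eq_mul.1 e)) hgH
    · refine mem_centralizer_singleton_iff.2 (mul_inv_eq_iff_eq_mul.1 ?_)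
      calc g * w * u * (g * w)⁻¹ = g * (w * u * w⁻¹) * g⁻¹ := by group
        _ = (g * u * g⁻¹)⁻¹ := by rw [hinv]; group
        _ = u := by rw [e, inv_inv]
  · intro x hx
    show lam (c x) = (lam x)⁻¹
    rw [hlam, hlam, ← inv_pow]
    congr 1
    show ((f (c x : H ⧸ K) : rootsOfUnity (3 ^ κ) ℂ) : ℂˣ) = ((f (x : H ⧸ K) : rootsOfUnity (3 ^ κ) ℂ) : ℂˣ)⁻¹
    rw [hcinv, map_inv]
    rfl
  · intro e
    rw [hlam, ← pow_add, ← map_pow, hker0, ← QuotientGroup.eq_one_iff, QuotientGroup.mk_pow,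
      ← orderOf_dvd_iff_pow_eq_one, huQ, pow_succ, ← two_mul, mul_comm 2] at e
    have := (Nat.mul_dvd_mul_iff_left (pow_pos (by norm_num) j)).1 e
    norm_num at this
  · intro x hx
    have h3 : 3 ^ (j + 1) ∣ orderOf x := by
      obtain ⟨i, -, hi⟩ := (Nat.dvd_prime_pow Nat.prime_three).1
        (hQ ▸ _root_.orderOf_dvd_natCard (x : H ⧸ K))
      have hij : j + 1 ≤ i := by
        by_contra hlt
        apply hx
        rw [hlam, ← map_pow, hker0, ← QuotientGroup.eq_one_iff, QuotientGroup.mk_pow,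
          ← orderOf_dvd_iff_pow_eq_one, hi]
        exact pow_dvd_pow 3 (by omega)
      exact (pow_dvd_pow 3 hij).trans (hi ▸ orderOf_map_dvd (QuotientGroup.mk' K) x)
    obtain ⟨d, hd⟩ := h3
    set v := x ^ d
    have hvo : orderOf (v : G) = 3 ^ (j + 1) := by
      rw [Subgroup.orderOf_coe, orderOf_pow_of_dvd (by rintro rfl; simp [(orderOf_pos x).ne'] at hd)
        (Dvd.intro_left _ hd.symm), hd, Nat.mul_div_cancel _ (by
          rcases Nat.eq_zero_or_pos d with e | e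
          · simp [e, (orderOf_pos x).ne'] at hd
          · exact e)]
    have hP' : IsPGroup 3 (zpowers (v : G) ⊔ zpowers u : Subgroup G) := by
      refine (IsPGroup.of_card (n := j + 1) (by rw [Nat.card_zpowers, hvo])).to_sup_of_normal_right'
        (IsPGroup.of_card (n := j + 1) (by rw [Nat.card_zpowers, hu])) (zpowers_le.2 (hHM v.2))
    haveI := hcyc 3 Nat.prime_three (by norm_num) _ hP'
    obtain ⟨o, ho⟩ := IsCyclic.exists_generator (α := (zpowers (v : G) ⊔ zpowers u : Subgroup G))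
    obtain ⟨i, hi⟩ := mem_zpowers_of_order_eq (ho ⟨u, mem_sup_right (mem_zpowers u)⟩)
      (ho ⟨v, mem_sup_left (mem_zpowers _)⟩) (by rw [orderOf_mk, orderOf_mk, hu, hvo])
    refine ⟨(d : ℤ) * i, ?_⟩
    simp only
    rw [_root_.zpow_mul, zpow_natCast, ← SubmonoidClass.coe_pow]
    exact congrArg Subtype.val hi
  · rw [hu]
    calc (3 : ℕ) = 3 ^ 1 := by norm_num
      _ ≤ 3 ^ (j + 1) := Nat.pow_le_pow_right (by norm_num) (by omega)
  · intro g hg hgw
    refine ⟨⟨g, hg⟩, ?_, rfl⟩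
    have h1 := hcinv ⟨g, hg⟩
    rw [show c ⟨g, hg⟩ = ⟨g, hg⟩ from Subtype.ext (show w * g * w⁻¹ = g by
      rw [← hgw, mul_inv_cancel_right]), eq_inv_iff_mul_eq_one, ← pow_two,
      ← orderOf_dvd_iff_pow_eq_one] at h1
    refine (QuotientGroup.eq_one_iff _).1 (orderOf_eq_one_iff.1 ?_)
    exact Nat.eq_one_of_dvd_coprimes (Nat.Coprime.pow_left κ (by norm_num : Nat.Coprime 3 2))
      (hQ ▸ _root_.orderOf_dvd_natCard _) h1
  · rw [hNdef, card_map_of_injective H.subtype_injective, ← hQ, ← index_eq_card, K.index_mul_card]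
  · rintro A hA ⟨x, hx, hxA⟩
    set A' := A.subgroupOf H
    let fA : A' →* H ⧸ K := (QuotientGroup.mk' K).comp A'.subtype
    have hne : (⟨x, hx⟩ : H) ∉ A' ⊔ K := by
      intro hm
      rw [← SetLike.mem_coe, mul_normal] at hm
      obtain ⟨g, hg, k, hk, hgk⟩ := Set.mem_mul.1 hm
      refine hxA g (mem_subgroupOf.1 hg) ⟨k, hk, ?_⟩
      rw [show x = ((g * k : H) : G) from congrArg Subtype.val hgk.symm]
      simp
    have hcard : Nat.card A = Nat.card A' := (Nat.card_congr (subgroupOfEquivOfLe hA).toEquiv).symm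
    have hker : Nat.card fA.ker = Nat.card ↥(A ⊓ N) := by
      refine Nat.card_congr
        { toFun := fun y => ⟨((y : A') : H), mem_inf.2 ⟨mem_subgroupOf.1 (y : A').2,
            ⟨((y : A') : H), (QuotientGroup.eq_one_iff _).1 y.2, rfl⟩⟩⟩
          invFun := fun y => ⟨⟨⟨y, hA (mem_inf.1 y.2).1⟩, mem_subgroupOf.2 (mem_inf.1 y.2).1⟩, by
            obtain ⟨k, hk, hke⟩ := (mem_inf.1 y.2).2
            refine (QuotientGroup.eq_one_iff _).2 ?_
            show (⟨(y : G), hA (mem_inf.1 y.2).1⟩ : H) ∈ K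
            have e : (⟨(y : G), hA (mem_inf.1 y.2).1⟩ : H) = k := Subtype.ext hke.symm
            rw [e]; exact hk⟩
          left_inv := fun y => rfl
          right_inv := fun y => rfl }
    have hlt : 3 * Nat.card fA.range ≤ 3 ^ κ := by
      obtain ⟨i, hiκ, hi⟩ := (Nat.dvd_prime_pow Nat.prime_three).1 (hQ ▸ card_subgroup_dvd_card fA.range)
      rcases Nat.lt_or_ge i κ with h | h
      · rw [hi, ← pow_succ']; exact Nat.pow_le_pow_right (by norm_num) h
      · exfalso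
        apply hne
        have htop : fA.range = ⊤ := eq_top_of_card_eq _ (by rw [hi, hQ, le_antisymm hiκ h])
        obtain ⟨y, hy⟩ : ((⟨x, hx⟩ : H) : H ⧸ K) ∈ fA.range := htop ▸ mem_top _
        have : (y : H)⁻¹ * ⟨x, hx⟩ ∈ K := QuotientGroup.eq.1 hy
        rw [show (⟨x, hx⟩ : H) = (y : H) * ((y : H)⁻¹ * ⟨x, hx⟩) by group]
        exact mul_mem (mem_sup_left y.2) (mem_sup_right this)
    rw [hcard, ← fA.ker.card_mul_index, index_ker, hker]
    calc 3 * (Nat.card ↥(A ⊓ N) * Nat.card fA.range) = Nat.card ↥(A ⊓ N) * (3 * Nat.card fA.range) := by ring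
      _ ≤ Nat.card ↥(A ⊓ N) * 3 ^ κ := Nat.mul_le_mul_left _ hlt
      _ = _ := mul_comm _ _

end Cfsg.Agent.GW.SD
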