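import Cfsg.Agent.GW.SD.CaseAAlpha
import Cfsg.Agent.GW.SD.Three

/-!
The case `3 ∣ |C_L(b)|`, and the exclusion of a non-solvable centralizer.
-/

set_option autoImplicit false
set_option linter.unusedSectionVars false
set_option linter.style.haveILetI false

open Cfsg

namespace Cfsg.Agent.GW.SD

open Subgroup TwoGroups TwoFusion
open scoped MatrixGroups

universe u

variable {G : Type u} [Group G] [Finite G]

/-- Subgroups of odd order are solvable here. -/
theorem isSolvable_of_odd (hcyc : OddCyclic G) {K : Subgroup G} (hK : Odd (Nat.card K)) :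
    Group.IsSolvable K := by
  haveI : IsZGroup K := ⟨fun q hq P => by
    by_cases h2 : q = 2
    · subst h2; exact sylow_two_cyclic_of_odd hK P
    · haveI := hcyc q hq h2 _ (P.isPGroup'.map K.subtype)
      exact isCyclic_of_surjective _
        ((P : Subgroup K).equivMapOfInjective K.subtype K.subtype_injective).symm.surjective⟩
  infer_instance

namespace AData

variable {S : Sylow 2 G} {n : ℕ} {a b : (S : Subgroup G)} {h : Hyp S n a b} {p : ℕ} [hp : Fact p.Prime]
  {X L : Subgroup G} (d : AData h p X L)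
include d

theorem sq_mem_L : (a : G) ^ 2 ∈ L := by
  refine d.two_element_mem (k := n) ?_ ?_
  · rw [pow_two]; exact d.mul_self_mem (h.S_le_centralizer a.2)
  · rw [← pow_mul, mul_comm, pow_mul, ← h.orderOf_a, pow_orderOf_eq_one, one_pow]

theorem card_four_le : Nat.card (centralizer ({(a : G) ^ 2} : Set G)) ≤
    2 * (Nat.card X * Nat.card ↥(L ⊓ centralizer ({MC.qG n a} : Set G))) := by
  classical
  set H := centralizer ({(a : G) ^ 2} : Set G) with hH
  have h2 : ((X ⊔ L).subgroupOf H).index ≤ 2 := by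
    by_cases hle : H ≤ X ⊔ L
    · rw [subgroupOf_eq_top.2 hle, index_top]; norm_num
    obtain ⟨f', hf'T, hf'X⟩ := SetLike.not_le_iff_exists.1 hle
    refine le_of_eq (index_eq_two_iff.2 ⟨⟨f', hf'T⟩, fun g => ?_⟩)
    simp only [mem_subgroupOf, coe_mul]
    by_cases hg : (g : G) ∈ X ⊔ L
    · exact Or.inr ⟨hg, fun e => hf'X (by simpa using mul_mem (inv_mem hg) e)⟩
    · exact Or.inl ⟨(d.mem_or_mul_mem (h.centralizer_sq_le hf'T) hf'X
        (h.centralizer_sq_le g.2)).resolve_left hg, hg⟩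
  have hdec : ∀ g : (X ⊔ L).subgroupOf H, ∃ y : X, ∃ l : ↥(L ⊓ centralizer ({MC.qG n a} : Set G)),
      ((g : H) : G) = (y : G) * (l : G) := by
    intro g
    obtain ⟨y, hy, l, hl, e⟩ := d.exists_mul (mem_subgroupOf.1 g.2)
    have hc := mem_centralizer_singleton_iff.1 (g : H).2
    rw [e, mul_assoc] at hc
    have hy' : y * (a : G) ^ 2 = (a : G) ^ 2 * y := d.comm hy d.sq_mem_L
    rw [← mul_assoc, ← mul_assoc, ← hy'] at hc
    rw [mul_assoc, mul_assoc] at hc
    have hl' : Commute l ((a : G) ^ 2) := mul_left_cancel hc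
    obtain ⟨i, hi⟩ := Subgroup.mem_zpowers_iff.1 h.q_mem_zpowers_sq
    refine ⟨⟨y, hy⟩, ⟨l, mem_inf.2 ⟨hl, mem_centralizer_singleton_iff.2 ?_⟩⟩, e⟩
    rw [← hi]
    exact (hl'.zpow_right i).eq
  choose fy fl hf using hdec
  have h3 : Nat.card ((X ⊔ L).subgroupOf H) ≤
      Nat.card X * Nat.card ↥(L ⊓ centralizer ({MC.qG n a} : Set G)) := by
    rw [← Nat.card_prod]
    refine Nat.card_le_card_of_injective (fun g => (fy g, fl g)) fun g g' e => ?_
    simp only [Prod.mk.injEq] at e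
    exact Subtype.ext (Subtype.ext (by rw [hf g, hf g', e.1, e.2]))
  rw [← ((X ⊔ L).subgroupOf H).card_mul_index]
  calc Nat.card ((X ⊔ L).subgroupOf H) * ((X ⊔ L).subgroupOf H).index
      ≤ (Nat.card X * Nat.card ↥(L ⊓ centralizer ({MC.qG n a} : Set G))) * 2 := Nat.mul_le_mul h3 h2
    _ = _ := mul_comm _ _

theorem two_mul_le : 2 * Nat.card ↥(X ⊓ centralizer ({(b : G)} : Set G)) ≤
    Nat.card ↥(centralizer ({(a : G) ^ 2} : Set G) ⊓ centralizer ({(b : G)} : Set G)) := by
  classical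
  rw [show 2 * Nat.card ↥(X ⊓ centralizer ({(b : G)} : Set G)) =
    Nat.card (↥(X ⊓ centralizer ({(b : G)} : Set G)) × Bool) by simp [Nat.card_prod, mul_comm]]
  have hz : MC.zG n a ∈ centralizer ({(a : G) ^ 2} : Set G) ⊓ centralizer ({(b : G)} : Set G) :=
    mem_inf.2 ⟨mem_centralizer_singleton_iff.2 (h.z_comm (pow_mem a.2 2)),
      mem_centralizer_singleton_iff.2 (h.z_comm b.2)⟩
  have hy : ∀ y : ↥(X ⊓ centralizer ({(b : G)} : Set G)),
      (y : G) ∈ centralizer ({(a : G) ^ 2} : Set G) ⊓ centralizer ({(b : G)} : Set G) := fun y =>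
    mem_inf.2 ⟨mem_centralizer_singleton_iff.2 (d.comm y.2.1 d.sq_mem_L), y.2.2⟩
  refine Nat.card_le_card_of_injective
    (fun t => ⟨(t.1 : G) * (if t.2 then MC.zG n a else 1), mul_mem (hy t.1) (by
      split
      · exact hz
      · exact one_mem _)⟩) fun t t' e => ?_
  obtain ⟨e1, e2⟩ := d.unique t.1.2.1 t'.1.2.1
    (by split <;> first | exact d.z_mem | exact one_mem L)
    (by split <;> first | exact d.z_mem | exact one_mem L) (congrArg Subtype.val e :)
  refine Prod.ext (Subtype.ext e1) ?_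
  obtain ⟨y, i⟩ := t
  obtain ⟨y', i'⟩ := t'
  rcases i <;> rcases i' <;> first
    | rfl
    | (simp at e2; exact absurd e2 (by first | exact h.z_ne_one | exact h.z_ne_one.symm))

theorem false_of_three_dvd_beta (h3 : 3 ∣ Nat.card ↥(L ⊓ centralizer ({(b : G)} : Set G))) : False := by
  classical
  haveI : Fact (Nat.Prime 3) := ⟨Nat.prime_three⟩
  haveI : Fact (Nat.Prime 2) := ⟨Nat.prime_two⟩
  have hcyc := h.cyc
  obtain ⟨hTcard, hTab, -⟩ := d.fix_spec d.b_mem_C h.bb h.b_ne_one h.b_ne_z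
  set β := Nat.card ↥(L ⊓ centralizer ({(b : G)} : Set G)) with hβ
  set α := Nat.card ↥(L ⊓ centralizer ({MC.qG n a} : Set G)) with hα
  set x := Nat.card X with hx
  set x0 := Nat.card ↥(X ⊓ centralizer ({(b : G)} : Set G)) with hx0
  obtain ⟨u₀, hu₀⟩ := exists_prime_orderOf_dvd_card' (G := ↥(L ⊓ centralizer ({(b : G)} : Set G))) 3 h3
  set u := (u₀ : G) with hudef
  have hu : orderOf u = 3 := by rw [hudef, Subgroup.orderOf_coe, hu₀]
  have huT : u ∈ L ⊓ centralizer ({(b : G)} : Set G) := u₀.2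
  have hr : Nat.Prime 3 := Nat.prime_three
  have hr2 : (3 : ℕ) ≠ 2 := by norm_num
  obtain ⟨hzu, hbu⟩ := d.u_comm hr hr2 hu huT
  obtain ⟨c, e1, -, -, -, hcu⟩ := d.exists_cycle hr hr2 hu huT
  obtain ⟨hww, hwC, hwb, hwzb⟩ := d.wI_facts
  have hwinv := d.wI_inverts hr hr2 hu huT
  set w := wI n a b with hwdef
  obtain ⟨N, M, lam, κ, k, hNH, hN3, hNmem, hNw, hnormN, hHcard, hκ, hA⟩ :=
    exists_key_three hcyc (j := 0) (by rw [hu]; norm_num) hww hwinv
  set H := centralizer ({u} : Set G) with hH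
  obtain ⟨U, hU, -, hzU, hbU, hmem⟩ := h.exists_U
  have hzH : MC.zG n a ∈ H := mem_centralizer_singleton_iff.2 hzu.symm
  have hbH : (b : G) ∈ H := mem_centralizer_singleton_iff.2 hbu.symm
  have hsqU : ∀ x ∈ U, x * x = 1 := hU.2
  have hord : ∀ x ∈ U, orderOf x ∣ 4 := fun x hx => (orderOf_dvd_of_pow_eq_one (n := 2)
    (by rw [pow_two]; exact hsqU x hx)).trans (by norm_num)
  have hUH : U ≤ H := fun x hx => by
    rcases (hmem x).1 hx with rfl | rfl | rfl | rfl
    exacts [one_mem _, hzH, hbH, mul_mem hzH hbH]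
  have hUN : U ≤ N := fun x hx => hNmem x (hUH hx) fun hd => by
    have := hd.trans (hord x hx)
    norm_num at this
  have hUab : ∀ x ∈ U, ∀ y ∈ U, x * y = y * x := fun x hx y hy => by
    have e := hsqU (x * y) (mul_mem hx hy)
    calc x * y = (x * y)⁻¹ := (inv_eq_of_mul_eq_one_right e).symm
      _ = y * x := by
        rw [mul_inv_rev, inv_eq_of_mul_eq_one_right (hsqU x hx), inv_eq_of_mul_eq_one_right (hsqU y hy)]
  -- the normal 2-complement of `N`
  obtain ⟨P, hP⟩ := ((isPGroup_four hU).comap_subtype (K := N)).exists_le_sylow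
  have hPeq : (P : Subgroup N) = U.subgroupOf N := by
    refine le_antisymm (fun y hy => mem_subgroupOf.2 ((hmem _).2 ?_)) hP
    refine d.two_group_four hr hr2 hu huT (P.isPGroup'.map N.subtype) (by
        rintro _ ⟨y', -, rfl⟩; exact hNH y'.2)
      ⟨⟨_, hUN hzU⟩, hP (mem_subgroupOf.2 hzU), rfl⟩ ⟨⟨_, hUN hbU⟩, hP (mem_subgroupOf.2 hbU), rfl⟩ _
      ⟨y, hy, rfl⟩
  obtain ⟨R, K0, hK0, hRK⟩ : HasNormalPComplement 2 N := by
    refine Transfer.hasNormalPComplement_of_normalizer_le_centralizer P fun g hg => ?_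
    have hPc : ∀ y ∈ (P : Subgroup N), ∀ y' ∈ (P : Subgroup N), y * y' = y' * y := by
      intro y hy y' hy'
      rw [hPeq, mem_subgroupOf] at hy hy'
      exact Subtype.ext (hUab _ hy _ hy')
    have hpp : Element.pPart 2 g ∈ (P : Subgroup N) := by
      have hz' : IsPGroup 2 (zpowers (Element.pPart 2 g)) :=
        IsPGroup.of_card (n := (orderOf g).factorization 2)
          (by rw [Nat.card_zpowers]; exact Element.orderOf_pPart_eq_pow Nat.prime_two g)
      have hle := hz'.inf_normalizer_sylow P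
      exact (hle.le ⟨mem_zpowers _, zpowers_le.2 hg (Element.pPart_mem_zpowers 2 g)⟩).2
    set m := Element.pComplPart 2 g with hm
    have hmN : m ∈ normalizer ((P : Subgroup N) : Set N) :=
      zpowers_le.2 hg (Element.pComplPart_mem_zpowers 2 g)
    have hmU : (m : G) ∈ normalizer (U : Set G) := by
      rw [← map_conj_eq_self_iff_mem_normalizer]
      refine Subgroup.eq_of_le_of_card_ge ?_ (card_map_conj _ _).ge
      rintro _ ⟨y, hy, rfl⟩
      have h1 := (Subgroup.mem_normalizer_iff.1 hmN ⟨y, hUN hy⟩).1 (hP (mem_subgroupOf.2 hy))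
      rw [hPeq, mem_subgroupOf] at h1
      simpa using h1
    have hmo : Odd (orderOf (m : G)) := by
      rw [Subgroup.orderOf_coe]
      exact Nat.coprime_two_right.1 (Element.coprime_orderOf_pComplPart Nat.prime_two g)
    have hm3 : ¬ 3 ∣ orderOf (m : G) := fun hd => hN3 (hd.trans (Subgroup.orderOf_dvd_natCard N m.2))
    obtain ⟨i, hi⟩ := exists_pow_eq_self_of_coprime (x := (m : G)) (n := 3)
      (Nat.prime_three.coprime_iff_not_dvd.2 hm3)
    have hfix : (m : G) * MC.zG n a = MC.zG n a * m ∧ (m : G) * (b : G) = b * m := by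
      have e : ∀ y, (m : G) ^ 3 * y * ((m : G) ^ 3)⁻¹ = m * (m * (m * y * (m : G)⁻¹) * (m : G)⁻¹) * (m : G)⁻¹ :=
        fun y => by simp [pow_succ, mul_assoc]
      have key : ∀ y, (m : G) ^ 3 * y * ((m : G) ^ 3)⁻¹ = y → (m : G) * y = y * m := fun y hy => by
        rw [← hi]
        exact (show Commute ((m : G) ^ 3) y from mul_inv_eq_iff_eq_mul.1 hy).pow_left i |>.eq
      rcases h.cycle hmem hmo hmU with ⟨c1, c2⟩ | ⟨c1, c2, c3⟩ | ⟨c1, c2, c3⟩
      · exact ⟨mul_inv_eq_iff_eq_mul.1 c1, mul_inv_eq_iff_eq_mul.1 c2⟩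
      · exact ⟨key _ (by rw [e, c1, c2, c3]), key _ (by rw [e, c2, c3, c1])⟩
      · exact ⟨key _ (by rw [e, c1, c2, c3]), key _ (by rw [e, c3, c1, c2])⟩
    refine mem_centralizer_iff.2 fun y hy => ?_
    rw [← Element.pPart_mul_pComplPart 2 g, ← hm, ← mul_assoc, hPc y hy _ hpp, mul_assoc, mul_assoc]
    congr 1
    rw [hPeq] at hy
    refine Subtype.ext ?_
    show (y : G) * m = m * y
    rcases (hmem _).1 (mem_subgroupOf.1 hy) with e | e | e | e <;> rw [e]
    · simp
    · exact hfix.1.symm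
    · exact hfix.2.symm
    · rw [mul_assoc, ← hfix.2, ← mul_assoc, ← hfix.1, mul_assoc]
  haveI := hK0
  have hcR : Nat.card (R : Subgroup N) = 4 := by
    rw [Nat.card_congr (Sylow.equiv R P).toEquiv, hPeq,
      Nat.card_congr (subgroupOfEquivOfLe hUN).toEquiv, hU.1]
  set K := K0.map N.subtype with hKdef
  have hKcard : Nat.card N = Nat.card K * 4 := by
    rw [hKdef, card_map_of_injective N.subtype_injective, ← hcR, hRK.card_mul_card]
  have hKodd : Odd (Nat.card K) := by
    rw [hKdef, card_map_of_injective N.subtype_injective]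
    have := R.not_dvd_index
    rw [hRK.index_eq_card] at this
    exact Nat.odd_iff.2 (Nat.two_dvd_ne_zero.1 this)
  have hKN : K ≤ N := map_subtype_le K0
  have hKmem : ∀ g ∈ N, Odd (orderOf g) → g ∈ K := by
    intro g hg ho
    refine ⟨⟨g, hg⟩, (QuotientGroup.eq_one_iff _).1 (orderOf_eq_one_iff.1 ?_), rfl⟩
    refine Nat.eq_one_of_dvd_coprimes (Nat.Coprime.pow_left 2 (Nat.coprime_two_left.2 ho))
      ?_ ((orderOf_map_dvd (QuotientGroup.mk' K0) (⟨g, hg⟩ : N)).trans (orderOf_mk g hg).dvd)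
    have h4 := _root_.orderOf_dvd_natCard ((⟨g, hg⟩ : N) : N ⧸ K0)
    rwa [← index_eq_card, hRK.symm.index_eq_card, hcR, show (4 : ℕ) = 2 ^ 2 by norm_num] at h4
  have hKn : ∀ g ∈ M, ∀ y ∈ K, g * y * g⁻¹ ∈ K := fun g hg y hy => hKmem _ (hnormN g hg y (hKN hy)) (by
    rw [← MulAut.conj_apply, MulEquiv.orderOf_eq]
    exact hKodd.of_dvd_nat (Subgroup.orderOf_dvd_natCard K hy))
  have hKU : ∀ y ∈ K, y ∈ U → y = 1 := fun y hy hyU => orderOf_eq_one_iff.1
    (Nat.eq_one_of_dvd_coprimes (Nat.Coprime.pow_left 2 hKodd.coprime_two_left) (hord y hyU)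
      (Subgroup.orderOf_dvd_natCard K hy))
  have hsplit : ∀ g ∈ N, ∃ y ∈ K, ∃ e ∈ U, g = y * e := by
    intro g hg
    have hc : K0.IsComplement' (P : Subgroup N) := by
      refine isComplement'_of_coprime ?_ ?_
      · rw [← hRK.card_mul_card, Nat.card_congr (Sylow.equiv P R).toEquiv]
      · rw [Nat.card_congr (Sylow.equiv P R).toEquiv, hcR, show (4 : ℕ) = 2 ^ 2 by norm_num,
          show Nat.card K0 = Nat.card K from (card_map_of_injective N.subtype_injective).symm]
        exact hKodd.coprime_two_right.pow_right 2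
    obtain ⟨⟨⟨y, hy⟩, ⟨e, he⟩⟩, hye⟩ := hc.2 ⟨g, hg⟩
    refine ⟨y, ⟨y, hy, rfl⟩, e, ?_, (congrArg Subtype.val hye).symm⟩
    rw [SetLike.mem_coe, hPeq] at he
    exact mem_subgroupOf.1 he
  have huniq : ∀ y ∈ K, ∀ y' ∈ K, ∀ e ∈ U, ∀ e' ∈ U, y * e = y' * e' → y = y' ∧ e = e' := by
    intro y hy y' hy' e he e' he' heq
    have h1 : y'⁻¹ * y = e' * e⁻¹ := by
      rw [eq_mul_inv_iff_mul_eq, mul_assoc, heq, inv_mul_cancel_left]
    have h2 := hKU _ (mul_mem (inv_mem hy') hy) (h1 ▸ mul_mem he' (inv_mem he))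
    rw [inv_mul_eq_one] at h2
    subst h2
    exact ⟨rfl, mul_left_cancel heq⟩
  have hwM : w ∈ M := k.w_mem
  have hzM : MC.zG n a ∈ M := k.le hzH
  have hbM : (b : G) ∈ M := k.le hbH
  set k0 := Nat.card ↥(K ⊓ centralizer ({MC.zG n a} : Set G)) with hk0
  set kw := Nat.card ↥(K ⊓ centralizer ({w} : Set G)) with hkw
  -- the subgroup of `C(u)` centralizing `z`
  set A := H ⊓ centralizer ({MC.zG n a} : Set G) with hAdef
  have hAbound : 3 * Nat.card A ≤ 3 ^ κ * Nat.card ↥(A ⊓ N) := by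
    refine hA A inf_le_left ⟨c, mem_centralizer_singleton_iff.2 hcu, fun g hg hgc => ?_⟩
    obtain ⟨y, hy, e, he, hye⟩ := hsplit _ hgc
    have hgz := mem_centralizer_singleton_iff.1 hg.2
    have hb' : (b : G) = g * (y * MC.zG n a * y⁻¹) * g⁻¹ := by
      rw [← e1, show c = g * (y * e) by rw [← hye, mul_inv_cancel_left],
        show g * (y * e) * MC.zG n a * (g * (y * e))⁻¹ = g * (y * (e * MC.zG n a * e⁻¹) * y⁻¹) * g⁻¹ by group,
        hUab e he _ hzU, mul_inv_cancel_right]
    have hbz : (b : G) * MC.zG n a ∈ K := by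
      have : (b : G) * MC.zG n a = g * (y * (MC.zG n a * y⁻¹ * (MC.zG n a)⁻¹)) * g⁻¹ := by
        rw [inv_eq_of_mul_eq_one_right h.zz, hb']
        calc g * (y * MC.zG n a * y⁻¹) * g⁻¹ * MC.zG n a
            = g * (y * MC.zG n a * y⁻¹) * g⁻¹ * MC.zG n a * g * g⁻¹ := by group
          _ = g * (y * MC.zG n a * y⁻¹) * g⁻¹ * (g * MC.zG n a) * g⁻¹ := by rw [hgz]; group
          _ = _ := by group
      rw [this]
      exact hKn g (k.le hg.1) _ (mul_mem hy (hKn _ hzM _ (inv_mem hy)))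
    exact h.zb_ne_one (by rw [h.z_comm b.2]; exact hKU _ hbz (mul_mem hbU hzU))
  have hAN : Nat.card ↥(A ⊓ N) ≤ k0 * 4 := by
    have hdec : ∀ g : ↥(A ⊓ N), ∃ y : ↥(K ⊓ centralizer ({MC.zG n a} : Set G)), ∃ e : U,
        (g : G) = (y : G) * (e : G) := by
      intro g
      obtain ⟨y, hy, e, he, hye⟩ := hsplit g g.2.2
      refine ⟨⟨y, mem_inf.2 ⟨hy, mem_centralizer_singleton_iff.2 ?_⟩⟩, ⟨e, he⟩, hye⟩
      have hgz : Commute (g : G) (MC.zG n a) := mem_centralizer_singleton_iff.1 g.2.1.2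
      have : y = (g : G) * e⁻¹ := by rw [hye, mul_inv_cancel_right]
      rw [this]
      exact (hgz.mul_left (hUab _ (inv_mem he) _ hzU)).eq
    choose fy fe hf using hdec
    rw [hk0, ← hU.1, ← Nat.card_prod]
    refine Nat.card_le_card_of_injective (fun g => (fy g, fe g)) fun g g' e => ?_
    simp only [Prod.mk.injEq] at e
    exact Subtype.ext (by rw [hf g, hf g', e.1, e.2])
  have hlow : 2 * (x * β) ≤ Nat.card A := by
    rw [show 2 * (x * β) = Nat.card ((X × ↥(L ⊓ centralizer ({(b : G)} : Set G))) × Bool) by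
      simp [Nat.card_prod, mul_comm, hx, hβ]]
    have hcv := d.cent_eq hr hr2 hu inf_le_left hTab hTcard huT
    have hy : ∀ y : X, (y : G) ∈ A := fun y => mem_inf.2
      ⟨mem_centralizer_singleton_iff.2 (d.comm y.2 huT.1),
        mem_centralizer_singleton_iff.2 (d.comm y.2 d.z_mem)⟩
    have hl : ∀ l : ↥(L ⊓ centralizer ({(b : G)} : Set G)), (l : G) ∈ A := fun l => mem_inf.2
      ⟨mem_centralizer_singleton_iff.2 (hTab _ l.2 _ huT), d.le (mem_sup_right l.2.1)⟩
    have hb : (b : G) ∈ A := mem_inf.2 ⟨hbH, d.b_mem_C⟩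
    refine Nat.card_le_card_of_injective (fun t => ⟨(t.1.1 : G) * t.1.2 * (if t.2 then (b : G) else 1),
      mul_mem (mul_mem (hy _) (hl _)) (by
        split
        · exact hb
        · exact one_mem _)⟩) fun t t' e => ?_
    obtain ⟨⟨y, l⟩, i⟩ := t
    obtain ⟨⟨y', l'⟩, i'⟩ := t'
    have e' : (y : G) * l * (if i then (b : G) else 1) = (y' : G) * l' * (if i' then (b : G) else 1) :=
      congrArg Subtype.val e
    have hm1 : (y : G) * l ∈ X ⊔ L := mul_mem (mem_sup_left y.2) (mem_sup_right l.2.1)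
    have hm2 : (y' : G) * l' ∈ X ⊔ L := mul_mem (mem_sup_left y'.2) (mem_sup_right l'.2.1)
    have hfin : (y : G) * l = y' * l' → i = i' → ((y, l), i) = ((y', l'), i') := fun e1 e2 => by
      obtain ⟨a1, a2⟩ := d.unique y.2 y'.2 l.2.1 l'.2.1 e1
      rw [Subtype.ext a1, Subtype.ext a2, e2]
    rcases i <;> rcases i'
    · exact hfin (by simpa using e') rfl
    · exfalso
      simp only [Bool.false_eq_true, if_false, if_true, mul_one] at e'
      exact d.b_notMem (by rw [show (b : G) = ((y' : G) * l')⁻¹ * (y * l) by rw [e', inv_mul_cancel_left]]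
                           exact mul_mem (inv_mem hm2) hm1)
    · exfalso
      simp only [Bool.false_eq_true, if_false, if_true, mul_one] at e'
      exact d.b_notMem (by rw [show (b : G) = ((y : G) * l)⁻¹ * (y' * l') by rw [← e', inv_mul_cancel_left]]
                           exact mul_mem (inv_mem hm1) hm2)
    · exact hfin (by simpa using e') rfl
  have hwz : w * MC.zG n a = MC.zG n a * w := mem_centralizer_singleton_iff.1 hwC
  have hCw : Nat.card ↥(H ⊓ centralizer ({w} : Set G)) ≤ 2 * kw := by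
    have hdec : ∀ g : ↥(H ⊓ centralizer ({w} : Set G)), ∃ y : ↥(K ⊓ centralizer ({w} : Set G)),
        ∃ e : ({1, MC.zG n a} : Set G), (g : G) = (y : G) * (e : G) := by
      intro g
      have hgw := mem_centralizer_singleton_iff.1 g.2.2
      obtain ⟨y, hy, e, he, hye⟩ := hsplit g (hNw g g.2.1 hgw)
      have hwe : w * e * w⁻¹ ∈ U := by
        refine (hmem _).2 ?_
        rcases (hmem e).1 he with rfl | rfl | rfl | rfl
        · left; group
        · right; left; rw [hwz, mul_inv_cancel_right]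
        · right; right; right; exact hwb
        · right; right; left; exact hwzb
      obtain ⟨hy1, he1⟩ := huniq _ (hKn w hwM y hy) _ hy _ hwe _ he (by
        rw [conj_mul, ← hye, ← hgw, mul_inv_cancel_right])
      refine ⟨⟨y, mem_inf.2 ⟨hy, mem_centralizer_singleton_iff.2 (mul_inv_eq_iff_eq_mul.1 hy1).symm⟩⟩,
        ⟨e, ?_⟩, hye⟩
      rcases (hmem e).1 he with rfl | rfl | rfl | rfl
      · exact Or.inl rfl
      · exact Or.inr rfl
      · exact absurd (hwb.symm.trans he1) h.zb_ne_b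
      · exact absurd (hwzb.symm.trans he1) h.zb_ne_b.symm
    choose fy fe hf using hdec
    have h2 : Nat.card ({1, MC.zG n a} : Set G) = 2 := by
      rw [Nat.card_coe_set_eq, Set.ncard_pair h.z_ne_one.symm]
    rw [hkw, mul_comm, ← h2, ← Nat.card_prod]
    refine Nat.card_le_card_of_injective (fun g => (fy g, fe g)) fun g g' e => ?_
    simp only [Prod.mk.injEq] at e
    exact Subtype.ext (by rw [hf g, hf g', e.1, e.2])
  -- the fixed point formula
  have hwz1 : w ≠ MC.zG n a := fun e => h.zb_ne_b (hwb.symm.trans (by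
    rw [e, h.z_comm b.2, mul_inv_cancel_right]))
  have hw1 : w ≠ 1 := fun e => h.zb_ne_b (hwb.symm.trans (by rw [e]; group))
  have hmN : ∀ f ∈ M, f ∈ normalizer (K : Set G) := fun f hf => by
    rw [Subgroup.mem_normalizer_iff]
    refine fun y => ⟨hKn f hf y, fun hy => ?_⟩
    simpa [mul_assoc] using hKn f⁻¹ (inv_mem hf) _ hy
  have hW := card_four_fixed hKodd (isSolvable_of_odd hcyc hKodd) h.zz hww h.z_ne_one hw1 hwz1.symm
    hwz.symm (hmN _ hzM) (hmN _ hwM)
  have hk2 : Nat.card ↥(K ⊓ centralizer ({MC.zG n a * w} : Set G)) = kw := by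
    have hbw : (b : G) * w * (b : G)⁻¹ = MC.zG n a * w := by
      have e2 : w * (b : G) = MC.zG n a * b * w := mul_inv_eq_iff_eq_mul.1 hwb
      calc (b : G) * w * (b : G)⁻¹ = w * (w⁻¹ * b * w) * (b : G)⁻¹ := by group
        _ = w * (MC.zG n a * b) * (b : G)⁻¹ := by
          congr 2
          rw [inv_eq_of_mul_eq_one_right hww]
          calc w * (b : G) * w = MC.zG n a * b * (w * w) := by rw [e2, mul_assoc]
            _ = _ := by rw [hww, mul_one]
        _ = _ := by rw [← mul_assoc, hwz, mul_inv_cancel_right]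
    have : ∀ y, y ∈ K ⊓ centralizer ({w} : Set G) ↔
        (b : G) * y * (b : G)⁻¹ ∈ K ⊓ centralizer ({MC.zG n a * w} : Set G) := by
      intro y
      rw [mem_inf, mem_inf, mem_centralizer_singleton_iff, mem_centralizer_singleton_iff, ← hbw, conj_mul,
        conj_mul]
      refine and_congr ⟨hKn _ hbM y, fun hy => ?_⟩ ?_
      · simpa [mul_assoc] using hKn _ (inv_mem hbM) _ hy
      · rw [mul_left_inj, mul_right_inj]
    have hinvmem : ∀ y : ↥(K ⊓ centralizer ({MC.zG n a * w} : Set G)),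
        (b : G)⁻¹ * y.1 * b ∈ K ⊓ centralizer ({w} : Set G) := fun y =>
      (this ((b : G)⁻¹ * y.1 * b)).2
        (by rw [show (b : G) * ((b : G)⁻¹ * y.1 * b) * (b : G)⁻¹ = y.1 by group]; exact y.2)
    let e : ↥(K ⊓ centralizer ({w} : Set G)) ≃ ↥(K ⊓ centralizer ({MC.zG n a * w} : Set G)) :=
      { toFun := fun y => ⟨(b : G) * y.1 * (b : G)⁻¹, (this y.1).1 y.2⟩
        invFun := fun y => ⟨(b : G)⁻¹ * y.1 * b, hinvmem y⟩
        left_inv := fun y => Subtype.ext (by simp [mul_assoc])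
        right_inv := fun y => Subtype.ext (by simp [mul_assoc]) }
    exact (Nat.card_congr e).symm
  rw [hk2] at hW
  set x0' := Nat.card ↥(K ⊓ centralizer ({MC.zG n a, w} : Set G)) with hx0'
  have hx0le : x0' ≤ x0 := by
    have hcv := d.cent_eq hr hr2 hu inf_le_left hTab hTcard huT
    have key : ∀ g : ↥(K ⊓ centralizer ({MC.zG n a, w} : Set G)),
        (g : G) ∈ X ⊓ centralizer ({(b : G)} : Set G) := by
      intro g
      have hgC : (g : G) ∈ centralizer ({MC.zG n a} : Set G) :=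
        mem_centralizer_singleton_iff.2 (mem_centralizer_iff.1 g.2.2 _ (by simp)).symm
      have hgw : w * (g : G) = g * w := mem_centralizer_iff.1 g.2.2 w (by simp)
      obtain ⟨m, hm⟩ := hKodd.of_dvd_nat (Subgroup.orderOf_dvd_natCard K g.2.1)
      have hgX : (g : G) ∈ X ⊔ L := by
        rw [show (g : G) = ((g : G) * g) ^ (m + 1) by
          rw [← pow_two, ← pow_mul, show 2 * (m + 1) = orderOf (g : G) + 1 by omega, pow_succ,
            pow_orderOf_eq_one, one_mul]]
        exact pow_mem (d.mul_self_mem hgC) _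
      obtain ⟨y, hy, l, hl, hyl⟩ := d.exists_mul hgX
      have hlu : Commute l u := by
        have hgu : Commute (g : G) u := mem_centralizer_singleton_iff.1 (hNH (hKN g.2.1))
        have : l = y⁻¹ * g := by rw [hyl, inv_mul_cancel_left]
        rw [this]
        exact (show Commute y u from d.comm hy huT.1).inv_left.mul_left hgu
      have hlT : l ∈ L ⊓ centralizer ({(b : G)} : Set G) :=
        hcv ▸ mem_inf.2 ⟨hl, mem_centralizer_singleton_iff.2 hlu.eq⟩
      have hlo : Odd (orderOf l) := by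
        refine Odd.of_dvd_nat ⟨m, hm⟩ (orderOf_dvd_of_pow_eq_one ?_)
        have hm1 : (y * l) ^ orderOf (g : G) = 1 := by rw [← hyl, pow_orderOf_eq_one]
        rw [(show Commute y l from d.comm hy hl).mul_pow] at hm1
        exact (d.unique (pow_mem hy _) (one_mem X) (pow_mem hl _) (one_mem L)
          (hm1.trans (one_mul 1).symm)).2
      obtain ⟨-, -, hinv⟩ := d.fix_spec d.b_mem_C h.bb h.b_ne_one h.b_ne_z
      have hwl : w * l * w⁻¹ = l⁻¹ := by
        rw [hwdef, wI, show MC.qG n a * (b : G) * l * (MC.qG n a * (b : G))⁻¹ =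
          MC.qG n a * ((b : G) * l * (b : G)⁻¹) * (MC.qG n a)⁻¹ by group,
          ← mem_centralizer_singleton_iff.1 hlT.2, mul_inv_cancel_right]
        exact hinv h.bq l hlT
      obtain ⟨e1', e2'⟩ := d.unique (d.normX w hwC y hy) hy (d.normL w hwC l hl) hl (by
        rw [conj_mul, ← hyl, hgw, mul_inv_cancel_right])
      have hl1 : l = 1 := by
        rw [hwl] at e2'
        have h2 : orderOf l ∣ 2 :=
          orderOf_dvd_of_pow_eq_one (by rw [pow_two]; nth_rw 1 [← e2']; exact inv_mul_cancel l)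
        exact orderOf_eq_one_iff.1 (Nat.eq_one_of_dvd_coprimes hlo.coprime_two_right dvd_rfl h2)
      rw [hl1, mul_one] at hyl
      rw [hyl]
      refine mem_inf.2 ⟨hy, mem_centralizer_singleton_iff.2 ?_⟩
      have hbyX := d.normX _ d.b_mem_C y hy
      rw [hwdef, wI, show MC.qG n a * (b : G) * y * (MC.qG n a * (b : G))⁻¹ =
        MC.qG n a * ((b : G) * y * (b : G)⁻¹) * (MC.qG n a)⁻¹ by group,
        ← d.comm hbyX d.q_mem, mul_inv_cancel_right] at e1'
      exact (mul_inv_eq_iff_eq_mul.1 e1').symm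
    rw [hx0', hx0]
    exact Nat.card_le_card_of_injective (fun g => (⟨(g : G), key g⟩ : ↥(X ⊓ centralizer ({(b : G)} : Set G))))
      fun g g' e => Subtype.ext (congrArg Subtype.val e :)
  -- conclusion
  have hI := k.card_le_invs
  set I := Nat.card (Invs H M) with hIdef
  set Kc := Nat.card K with hKc
  have hH4 : Nat.card H = 3 ^ κ * (Kc * 4) := by rw [hHcard, hKcard]
  have hHpos : 0 < Nat.card H := Nat.card_pos
  have hkpos : 0 < kw := Nat.card_pos
  have hA' := d.card_four_le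
  rw [← hx, ← hα] at hA'
  refine h.false_of_bound k (d.no_order_four hr hr2 hu huT) (c := 2 * x0) d.two_mul_le ?_
  have hI2 : Nat.card H ≤ 2 * I * kw := by
    calc Nat.card H ≤ I * Nat.card ↥(H ⊓ centralizer ({w} : Set G)) := hI
      _ ≤ I * (2 * kw) := Nat.mul_le_mul_left _ hCw
      _ = _ := by ring
  have hab : 2 * α < 3 * β := by
    have hsum : β + α = 2 * p := d.card_fix d.b_mem_C h.bb h.b_ne_one h.b_ne_z
    have := d.five
    rcases hTcard with e | e <;> omega
  have hb2 : 6 * (x * β) ≤ 4 * (3 ^ κ * k0) :=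
    calc 6 * (x * β) = 3 * (2 * (x * β)) := by ring
      _ ≤ 3 * Nat.card A := Nat.mul_le_mul_left _ hlow
      _ ≤ 3 ^ κ * Nat.card ↥(A ⊓ N) := hAbound
      _ ≤ 3 ^ κ * (k0 * 4) := Nat.mul_le_mul_left _ hAN
      _ = _ := by ring
  refine Nat.lt_of_mul_lt_mul_right (a := kw ^ 2) ?_
  have hxpos : 0 < x := Nat.card_pos
  calc 2 * Nat.card H * Nat.card (centralizer ({(a : G) ^ 2} : Set G)) * kw ^ 2
      ≤ 2 * Nat.card H * (2 * (x * α)) * kw ^ 2 := by gcongr
    _ = Nat.card H * (2 * x * (2 * α)) * kw ^ 2 := by ring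
    _ < Nat.card H * (2 * x * (3 * β)) * kw ^ 2 := Nat.mul_lt_mul_of_pos_right
        (Nat.mul_lt_mul_of_pos_left (Nat.mul_lt_mul_of_pos_left hab (by positivity)) hHpos) (by positivity)
    _ = Nat.card H * (6 * (x * β)) * kw ^ 2 := by ring
    _ ≤ Nat.card H * (4 * (3 ^ κ * k0)) * kw ^ 2 := by gcongr
    _ = Nat.card H * 4 * 3 ^ κ * (k0 * kw * kw) := by ring
    _ = Nat.card H * 4 * 3 ^ κ * (Kc * x0' ^ 2) := by rw [hW]
    _ ≤ Nat.card H * 4 * 3 ^ κ * (Kc * x0 ^ 2) := by gcongr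
    _ = Nat.card H ^ 2 * x0 ^ 2 := by rw [hH4]; ring
    _ ≤ (2 * I * kw) ^ 2 * x0 ^ 2 := by gcongr
    _ = I ^ 2 * (2 * x0) ^ 2 * kw ^ 2 := by ring

/-- A non-solvable centralizer of the shape `X × SL₂(p)` extended by two is impossible. -/
theorem false_case : False := by
  have hd := d.three_dvd
  obtain ⟨e⟩ := d.iso
  set β := Nat.card ↥(L ⊓ centralizer ({(b : G)} : Set G)) with hβ
  set α := Nat.card ↥(L ⊓ centralizer ({MC.qG n a} : Set G)) with hα
  have hsum : β + α = 2 * p := d.card_fix d.b_mem_C h.bb h.b_ne_one h.b_ne_z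
  have h1 : β = p - 1 ∨ β = p + 1 := (d.fix_spec d.b_mem_C h.bb h.b_ne_one h.b_ne_z).1
  have h2 := d.not_four_dvd d.b_mem_C h.bb h.b_ne_one h.b_ne_z
  have h4 : 4 ∣ α := d.four_dvd_cent_q
  rw [← hβ] at h2
  have h5 := d.five
  have hp3 : p % 3 ≠ 0 := fun e => by
    have := (Nat.prime_dvd_prime_iff_eq Nat.prime_three hp.out).1 (Nat.dvd_of_mod_eq_zero e)
    omega
  have : 3 ∣ β ∨ 3 ∣ α := by
    rcases (by omega : p % 3 = 1 ∨ p % 3 = 2) with e | e <;> rcases h1 with e' | e' <;> omega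
  rcases this with h | h
  · exact d.false_of_three_dvd_beta h
  · exact d.false_of_three_dvd_alpha h

end AData

end Cfsg.Agent.GW.SD
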