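import Cfsg.Agent.GW.SD.CaseBQuot
import Cfsg.Agent.GW.SD.Three
import Cfsg.Agent.GW.SD.CaseAFin

/-!
The centralizer of the involution when it is solvable.
-/

set_option autoImplicit false
set_option linter.unusedSectionVars false
set_option linter.style.haveILetI false

open Cfsg

namespace Cfsg.Agent.GW.SD

open Subgroup TwoGroups TwoFusion

universe u

/-- The normal `3`-complement of an odd-order group with cyclic Sylow `3`-subgroups. -/
theorem three_complement {K : Type u} [Group K] [Finite K] (hK : Odd (Nat.card K))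
    (hcyc : ∀ P : Sylow 3 K, IsCyclic (P : Subgroup K)) :
    ∃ (W : Subgroup K) (e : ℕ), (∀ g : K, g ∈ W ↔ ¬ 3 ∣ orderOf g) ∧
      Nat.card K = 3 ^ e * Nat.card W ∧ ¬ 3 ∣ Nat.card W := by
  haveI : Fact (Nat.Prime 3) := ⟨Nat.prime_three⟩
  by_cases h3 : 3 ∣ Nat.card K
  · have hmin : (Nat.card K).minFac = 3 := by
      have hne : Nat.card K ≠ 1 := fun e => by rw [e] at h3; norm_num at h3
      have h1 := Nat.minFac_prime hne
      have h2 := Nat.minFac_le_of_dvd (by norm_num) h3
      have h3' : (Nat.card K).minFac ≠ 2 := fun e =>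
        (Nat.not_even_iff_odd.2 hK) (even_iff_two_dvd.2 (e ▸ Nat.minFac_dvd _))
      have := h1.two_le
      omega
    let P : Sylow 3 K := default
    set W := (MonoidHom.transferSylow P ((hcyc P).normalizer_le_centralizer hmin)).ker
    have hcomp : W.IsComplement' P := (hcyc P).isComplement' hmin
    obtain ⟨e, he⟩ := IsPGroup.iff_card.1 P.isPGroup'
    have hidx : W.index = 3 ^ e := by rw [hcomp.symm.index_eq_card, he]
    have hW : ¬ 3 ∣ Nat.card W := fun hd => P.not_dvd_index (by rwa [hcomp.index_eq_card])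
    refine ⟨W, e, fun g => ⟨fun hg hd => hW (hd.trans (W.orderOf_dvd_natCard hg)), fun hg => ?_⟩,
      by rw [← hidx, W.index_mul_card], hW⟩
    exact Element.mem_of_coprime_index
      (hidx ▸ ((Nat.prime_three.coprime_iff_not_dvd.2 hg).symm.pow_right e))
  · exact ⟨⊤, 0, fun g => ⟨fun _ hd => h3 (hd.trans (_root_.orderOf_dvd_natCard g)), fun _ => mem_top g⟩,
      by simp, by rwa [Subgroup.card_top]⟩

variable {G : Type u} [Group G] [Finite G]

namespace Hyp

variable {S : Sylow 2 G} {n : ℕ} {a b : (S : Subgroup G)} (h : Hyp S n a b)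
include h

/-- The centralizer of the central involution, as a group modulo its odd core. -/
theorem quotHyp (hsol : Group.IsSolvable (centralizer ({MC.zG n a} : Set G)))
    [(pPrimeCore 2 (centralizer ({MC.zG n a} : Set G))).Normal] :
    QuotHyp ((QuotientGroup.mk' (pPrimeCore 2 (centralizer ({MC.zG n a} : Set G)))).comp
      (Subgroup.inclusion h.S_le_centralizer)) n a b := by
  classical
  haveI : Fact (Nat.Prime 2) := ⟨Nat.prime_two⟩
  set C := centralizer ({MC.zG n a} : Set G) with hC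
  set O := pPrimeCore 2 C
  set π := QuotientGroup.mk' O
  have hπ : Function.Surjective π := QuotientGroup.mk'_surjective O
  refine ⟨h.qd, ?_, ?_, ?_, Cores.pPrimeCore_quotient_pPrimeCore_eq_bot, ?_, ?_⟩
  · rw [injective_iff_map_eq_one]
    intro s hs
    have h1 : orderOf s ∣ Nat.card O := by
      rw [← Subgroup.orderOf_coe, show ((s : (S : Subgroup G)) : G)
        = ((Subgroup.inclusion h.S_le_centralizer s : C) : G) from rfl, Subgroup.orderOf_coe]
      exact Subgroup.orderOf_dvd_natCard O ((QuotientGroup.eq_one_iff _).1 hs)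
    exact orderOf_eq_one_iff.1 (Nat.eq_one_of_dvd_coprimes
      (Cores.pPrimeCore_coprime.pow_right (n + 1)) h1
      (h.card_S ▸ _root_.orderOf_dvd_natCard s))
  · have := ((S.subtype h.S_le_centralizer).mapSurjective hπ).not_dvd_index
    rw [Sylow.coe_mapSurjective, Sylow.coe_subtype] at this
    rw [MonoidHom.range_comp]
    convert this using 4
    ext x
    simp [MonoidHom.mem_range, mem_subgroupOf, Subgroup.inclusion, Subtype.ext_iff]
  · haveI := hsol
    exact Group.isSolvable_of_surjective hπ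
  · refine mem_center_iff.2 fun q => ?_
    obtain ⟨g, rfl⟩ := hπ q
    rw [MonoidHom.comp_apply, ← map_mul, ← map_mul]
    congr 1
    exact Subtype.ext (mem_centralizer_singleton_iff.1 g.2)
  · obtain ⟨g, hg⟩ := isConj_iff.1 (qd_no_index_two_imp h.qd h.no_index_two).2
    rw [zpow_one] at hg
    have hgC : g ∈ C := by
      rw [hC, mem_centralizer_singleton_iff]
      refine mul_inv_eq_iff_eq_mul.1 ?_
      conv_lhs => rw [← h.q_sq]
      rw [← conj_mul, hg, ← Subgroup.coe_mul]
      have e := h.qd.sq_zpow_mul_y 1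
      rw [zpow_one, mul_one] at e
      rw [e]
      show ((a ^ ((2 : ℤ) ^ (n - 1)) : (S : Subgroup G)) : G) = _
      rw [show (2 : ℤ) ^ (n - 1) = ((2 ^ (n - 1) : ℕ) : ℤ) by norm_num, zpow_natCast]
    refine isConj_iff.2 ⟨π ⟨g, hgC⟩, ?_⟩
    rw [MonoidHom.comp_apply, MonoidHom.comp_apply, ← map_inv, ← map_mul, ← map_mul]
    exact congrArg π (Subtype.ext hg)

/-- A solvable centralizer is impossible. -/
theorem false_of_solvable (hsol : Group.IsSolvable (centralizer ({MC.zG n a} : Set G))) : False := by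
  classical
  haveI : Fact (Nat.Prime 2) := ⟨Nat.prime_two⟩
  haveI : Fact (Nat.Prime 3) := ⟨Nat.prime_three⟩
  set C := centralizer ({MC.zG n a} : Set G) with hC
  set O := pPrimeCore 2 C with hO
  haveI hOn : O.Normal := Subgroup.sSup_normal _ fun N hN => hN.1
  have q := h.quotHyp hsol
  set π := QuotientGroup.mk' O with hπdef
  set ι := π.comp (Subgroup.inclusion h.S_le_centralizer)
  have hn : n = 3 := q.n_eq
  have hcardQ : Nat.card (C ⧸ O) = 48 := q.card_eq.1
  set x := Nat.card O with hx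
  have hxodd : Odd x := Nat.coprime_two_right.1 Cores.pPrimeCore_coprime
  have hCcard : Nat.card C = 48 * x := by rw [← hcardQ, ← index_eq_card, O.index_mul_card]
  have hzC : MC.zG n a ∈ C := h.S_le_centralizer h.z_mem
  have hπz : π ⟨MC.zG n a, hzC⟩ = ι (a ^ (2 ^ (n - 1))) := rfl
  -- a generator of a Sylow 3-subgroup
  let R : Sylow 3 C := default
  haveI hRcyc : IsCyclic (R : Subgroup C) := by
    haveI := h.cyc 3 Nat.prime_three (by norm_num) _ (R.isPGroup'.map C.subtype)
    exact isCyclic_of_surjective _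
      ((R : Subgroup C).equivMapOfInjective C.subtype C.subtype_injective).symm.surjective
  obtain ⟨φR, hgen⟩ := IsCyclic.exists_generator (α := (R : Subgroup C))
  set φ : C := (φR : C) with hφdef
  have hRz : (R : Subgroup C) = zpowers φ := le_antisymm (fun g hg => by
    obtain ⟨i, hi⟩ := hgen ⟨g, hg⟩
    exact ⟨i, congrArg Subtype.val hi⟩) (zpowers_le.2 φR.2)
  obtain ⟨m, hm⟩ := IsPGroup.iff_card.1 R.isPGroup'
  have hφo : orderOf φ = 3 ^ m := by rw [← Nat.card_zpowers, ← hRz, hm]
  have h3m : ∀ i : ℕ, 3 ^ i ∣ 48 * x → i ≤ m := fun i hi => by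
    have h1 : 3 ^ i ∣ Nat.card (R : Subgroup C) * (R : Subgroup C).index := by
      rw [(R : Subgroup C).card_mul_index, hCcard]; exact hi
    have h2 := ((Nat.prime_three.coprime_iff_not_dvd.2 R.not_dvd_index).pow_left i).dvd_of_dvd_mul_right h1
    rw [hm] at h2
    exact (Nat.pow_dvd_pow_iff_le_right (by norm_num)).1 h2
  have hφbar : orderOf (π φ) = 3 := by
    have h1 : orderOf (π φ) ∣ 3 ^ m := hφo ▸ orderOf_map_dvd π φ
    have h2 : orderOf (π φ) ∣ 48 := hcardQ ▸ _root_.orderOf_dvd_natCard _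
    obtain ⟨i, -, hi⟩ := (Nat.dvd_prime_pow Nat.prime_three).1 h1
    rw [hi] at h2 ⊢
    have hi1 : i ≤ 1 := by
      have := Nat.Coprime.dvd_of_dvd_mul_left ((by norm_num : Nat.Coprime 3 16).pow_left i)
        (show 3 ^ i ∣ 16 * 3 by norm_num; exact h2)
      exact (Nat.pow_dvd_pow_iff_le_right (by norm_num : 1 < 3)).1 (this.trans (dvd_of_eq (pow_one 3).symm))
    have hi0 : i ≠ 0 := by
      rintro rfl
      rw [pow_zero, orderOf_eq_one_iff] at hi
      have h3 : 3 ^ m ∣ x := hφo ▸ Subgroup.orderOf_dvd_natCard O ((QuotientGroup.eq_one_iff φ).1 hi)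
      have := h3m (m + 1) (by rw [pow_succ, mul_comm 48 x]; exact mul_dvd_mul h3 (by norm_num))
      omega
    rw [show i = 1 by omega, pow_one]
  obtain ⟨j, rfl⟩ : ∃ j, m = j + 1 := by
    rcases m with _ | j
    · rw [pow_zero, orderOf_eq_one_iff] at hφo
      rw [hφo, map_one, orderOf_one] at hφbar
      norm_num at hφbar
    · exact ⟨j, rfl⟩
  have hu : orderOf ((φ : C) : G) = 3 ^ (j + 1) := by rw [Subgroup.orderOf_coe, hφo]
  -- the 2-elements of `C` centralizing `φ`
  have htwo : ∀ (t : C) (k : ℕ), t ^ (2 ^ k) = 1 → t * φ = φ * t →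
      (t : G) = 1 ∨ (t : G) = MC.zG n a := by
    intro t k ht hc
    have hOone : ∀ (s : C) (l : ℕ), s ∈ O → s ^ (2 ^ l) = 1 → s = 1 := fun s l hs hl =>
      orderOf_eq_one_iff.1 (Nat.eq_one_of_dvd_coprimes (hxodd.coprime_two_right.pow_right l)
        (Subgroup.orderOf_dvd_natCard O hs) (orderOf_dvd_of_pow_eq_one hl))
    rcases q.eq_one_or_z hφbar (t := π t) (k := k) (by rw [← map_pow, ht, map_one])
      (by rw [← map_mul, hc, map_mul]) with e | e
    · exact Or.inl (by rw [hOone t k ((QuotientGroup.eq_one_iff t).1 e) ht]; rfl)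
    · right
      set zC : C := ⟨MC.zG n a, hzC⟩
      have hcz : Commute t zC := Subtype.ext (mem_centralizer_singleton_iff.1 t.2)
      have hzz : zC * zC = 1 := Subtype.ext h.zz
      have hm : t * zC ∈ O := (QuotientGroup.eq_one_iff _).1 (by
        show π (t * zC) = 1
        rw [map_mul, e, ← hπz, ← map_mul, hzz, map_one])
      have := hOone (t * zC) (k + 1) hm (by
        rw [hcz.mul_pow, pow_succ, pow_mul, ht, one_pow, one_mul, mul_comm, pow_mul, pow_two, hzz,
          one_pow])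
      rw [mul_eq_one_iff_eq_inv, inv_eq_of_mul_eq_one_right hzz] at this
      exact congrArg Subtype.val this
  -- an element inverting `φ`
  have hNR : ¬ normalizer ((R : Subgroup C) : Set C) ≤ centralizer ((R : Subgroup C) : Set C) := by
    intro hle
    obtain ⟨P', K, hK, hPK⟩ := Transfer.hasNormalPComplement_of_normalizer_le_centralizer R hle
    haveI := hK
    obtain ⟨e, he⟩ := IsPGroup.iff_card.1 P'.isPGroup'
    have hidx : K.index = 3 ^ e := by rw [hPK.symm.index_eq_card, he]
    have hK3 : ¬ 3 ∣ Nat.card K := fun hd => P'.not_dvd_index (by rwa [hPK.index_eq_card])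
    haveI : (K.map π).Normal := Subgroup.Normal.map inferInstance π (QuotientGroup.mk'_surjective O)
    have h2g : IsPGroup 2 (K.map π) := by
      have h1 : Nat.card (K.map π) ∣ 16 * 3 := by
        rw [show 16 * 3 = 48 from rfl, ← hcardQ]
        exact card_subgroup_dvd_card _
      have h2 : ¬ 3 ∣ Nat.card (K.map π) := fun hd => hK3 (hd.trans (Subgroup.card_map_dvd _ _))
      have := ((Nat.prime_three.coprime_iff_not_dvd.2 h2).symm).dvd_of_dvd_mul_right h1
      obtain ⟨i, -, hi⟩ := (Nat.dvd_prime_pow Nat.prime_two).1 (show _ ∣ 2 ^ 4 from this)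
      exact IsPGroup.of_card hi
    refine q.core_shape.2.2.2 (Cores.le_pCore (N := K.map π) inferInstance h2g
      ⟨Subgroup.inclusion h.S_le_centralizer a, Element.mem_of_coprime_index ?_, rfl⟩)
    rw [hidx, ← Subgroup.orderOf_coe]
    show (orderOf (a : G)).Coprime _
    rw [h.orderOf_a]
    exact Nat.Coprime.pow _ _ (by norm_num)
  obtain ⟨g, hgN, hgC⟩ := SetLike.not_le_iff_exists.1 hNR
  have haut : ∀ g : C, g * φ * g⁻¹ ∈ zpowers φ → g * φ * g⁻¹ = φ ∨ g * φ * g⁻¹ = φ⁻¹ := fun g hg => by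
    obtain ⟨i, hi⟩ := hg
    exact (aut_three h.cyc hu (g := (g : G)) ⟨i, by simpa using congrArg Subtype.val hi⟩).imp
      (fun e => Subtype.ext (by simpa using e)) (fun e => Subtype.ext (by simpa using e))
  have hNmem : ∀ g ∈ normalizer ((R : Subgroup C) : Set C), g * φ * g⁻¹ ∈ zpowers φ := fun g hg => by
    rw [← hRz]
    exact (Subgroup.mem_normalizer_iff.1 hg φ).1 φR.2
  have hgi : g * φ * g⁻¹ = φ⁻¹ := (haut g (hNmem g hgN)).resolve_left fun e => hgC (by
    rw [hRz, zpowers_eq_closure, centralizer_closure, mem_centralizer_singleton_iff]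
    exact mul_inv_eq_iff_eq_mul.1 e)
  have hφne : φ⁻¹ ≠ φ := fun e => by
    have := orderOf_dvd_of_pow_eq_one (n := 2) (x := π φ)
      (by rw [pow_two]; nth_rw 1 [← e]; rw [map_inv, inv_mul_cancel])
    rw [hφbar] at this
    norm_num at this
  set v := Element.pPart 2 g with hvdef
  set mo := Element.pComplPart 2 g with hmodef
  have hmo : Odd (orderOf mo) := Nat.coprime_two_right.1 (Element.coprime_orderOf_pComplPart Nat.prime_two g)
  have hmfix : mo * φ * mo⁻¹ = φ := by
    refine (haut mo (hNmem mo (zpowers_le.2 hgN (Element.pComplPart_mem_zpowers 2 g)))).resolve_right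
      fun e => hφne ?_
    obtain ⟨l, hl⟩ := hmo
    have hsq : Commute (mo ^ 2) φ := mul_inv_eq_iff_eq_mul.1 (by
      calc mo ^ 2 * φ * (mo ^ 2)⁻¹ = mo * (mo * φ * mo⁻¹) * mo⁻¹ := by rw [pow_two]; group
        _ = mo * φ⁻¹ * mo⁻¹ := by rw [e]
        _ = (mo * φ * mo⁻¹)⁻¹ := by group
        _ = φ := by rw [e, inv_inv])
    have h2 := pow_orderOf_eq_one mo
    rw [hl, pow_succ', pow_mul] at h2
    have hc : Commute mo φ := by
      rw [eq_inv_of_mul_eq_one_left h2]
      exact (hsq.pow_left l).inv_left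
    rw [← e, hc.eq, mul_inv_cancel_right]
  have hvinv : v * φ * v⁻¹ = φ⁻¹ := by
    calc v * φ * v⁻¹ = v * (mo * φ * mo⁻¹) * v⁻¹ := by rw [hmfix]
      _ = (v * mo) * φ * (v * mo)⁻¹ := by group
      _ = φ⁻¹ := by rw [Element.pPart_mul_pComplPart, hgi]
  obtain ⟨kv, hkv⟩ : ∃ k, v ^ (2 ^ k) = 1 :=
    ⟨_, by rw [← Element.orderOf_pPart_eq_pow Nat.prime_two g, pow_orderOf_eq_one]⟩
  have hvbar : π v * π φ * (π v)⁻¹ = (π φ)⁻¹ := by
    rw [← map_inv, ← map_inv, ← map_mul, ← map_mul, hvinv]
  have hvP := q.notMem_core_of_inverts hφbar hvbar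
  obtain ⟨k, hkC, hkS⟩ := exists_conj_le_sylow_of_le S h.S_le_centralizer
    (isPGroup_zpowers_of_pow (x := ((v : C) : G)) (k := kv) (by rw [← SubmonoidClass.coe_pow, hkv]; rfl))
    (zpowers_le.2 v.2)
  set s : (S : Subgroup G) := ⟨k * (v : G) * k⁻¹, hkS _ (mem_zpowers _)⟩ with hsdef
  have hιs : ι s = π ⟨k, hkC⟩ * π v * (π ⟨k, hkC⟩)⁻¹ := by
    rw [← map_inv, ← map_mul, ← map_mul]; rfl
  have hsP : ι s ∉ pCore 2 (C ⧸ O) := fun hm => hvP (by
    have := q.conj_mem_core (π ⟨k, hkC⟩)⁻¹ hm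
    rw [hιs] at this
    simpa [mul_assoc] using this)
  have hv4 : v ^ 4 = 1 := by
    have hc : v ^ 2 * φ = φ * v ^ 2 := mul_inv_eq_iff_eq_mul.1 (by
      calc v ^ 2 * φ * (v ^ 2)⁻¹ = v * (v * φ * v⁻¹) * v⁻¹ := by rw [pow_two]; group
        _ = v * φ⁻¹ * v⁻¹ := by rw [hvinv]
        _ = (v * φ * v⁻¹)⁻¹ := by group
        _ = φ := by rw [hvinv, inv_inv])
    apply Subtype.ext
    rw [show 4 = 2 * 2 from rfl, pow_mul, SubmonoidClass.coe_pow]
    rcases htwo (v ^ 2) kv (by rw [← pow_mul, mul_comm, pow_mul, hkv, one_pow]) hc with e | e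
    · rw [e, one_pow]; rfl
    · rw [e, pow_two, h.zz]; rfl
  have hss : s * s = 1 := q.sq_of_notMem_core hsP (Subtype.ext (by
    simp only [SubmonoidClass.coe_pow, coe_one, hsdef]
    rw [← MulAut.conj_apply, ← map_pow, ← SubmonoidClass.coe_pow, hv4]
    simp))
  have hsA : s ∉ zpowers a := fun hm => by
    rcases MC.eq_invol h.qd.toMaxClassData hm hss with e | e
    · exact hsP (by rw [e, map_one]; exact one_mem _)
    · exact hsP (by
        rw [e]
        exact (q.mem_core_iff _).2 (Or.inl ⟨4, by norm_num, by rw [hn]; norm_num [zpow_ofNat]⟩))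
  set w : G := ((v : C) : G) with hwdef
  have hww : w * w = 1 := by
    have := congrArg Subtype.val hss
    simp only [hsdef, coe_mul, coe_one] at this
    rwa [conj_mul, conj_eq_one_iff] at this
  have hinv : w * (φ : G) * w⁻¹ = (φ : G)⁻¹ := by simpa [hwdef] using congrArg Subtype.val hvinv
  have hwC : w ∈ C := v.2
  have hwz : w * MC.zG n a = MC.zG n a * w := mem_centralizer_singleton_iff.1 hwC
  have hw1 : w ≠ 1 := fun e => hφne (by
    apply Subtype.ext
    rw [Subgroup.coe_inv, ← hinv, e]; group)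
  have hwz' : w ≠ MC.zG n a := fun e => hφne (by
    apply Subtype.ext
    rw [Subgroup.coe_inv, ← hinv, e, ← mem_centralizer_singleton_iff.1 φ.2, mul_inv_cancel_right])
  obtain ⟨cb, hcbC, hcb⟩ : ∃ c ∈ C, c * (b : G) * c⁻¹ = w := by
    rcases h.inv_cases hss with e | e | ⟨-, i, e⟩
    · exact absurd (conj_eq_one_iff.1 e) hw1
    · exfalso
      refine hwz' ?_
      have hk' := mem_centralizer_singleton_iff.1 hkC
      rw [hsdef] at e
      simp only at e
      rw [mul_inv_eq_iff_eq_mul, ← hk'] at e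
      exact mul_left_cancel e
    · refine ⟨k⁻¹ * (a : G) ^ i, mul_mem (inv_mem hkC) (zpow_mem (h.S_le_centralizer a.2) i), ?_⟩
      rw [hsdef] at e
      simp only at e
      rw [show k⁻¹ * (a : G) ^ i * b * (k⁻¹ * (a : G) ^ i)⁻¹
        = k⁻¹ * ((a : G) ^ i * b * ((a : G) ^ i)⁻¹) * k by group, e, hwdef]
      group
  -- the configuration at `φ`
  obtain ⟨-, M, lam, -, key, -⟩ := exists_key_three h.cyc hu hww hinv
  set H := centralizer ({(φ : G)} : Set G) with hH
  have hzH : MC.zG n a ∈ H := mem_centralizer_singleton_iff.2 (mem_centralizer_singleton_iff.1 φ.2).symm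
  obtain ⟨T, hT⟩ := (IsPGroup.of_card (G := zpowers (⟨MC.zG n a, hzH⟩ : H)) (n := 1) (by
    rw [Nat.card_zpowers, orderOf_mk, h.orderOf_z, pow_one])).exists_le_sylow
  set zH : H := ⟨MC.zG n a, hzH⟩
  have hzH1 : zH ≠ 1 := fun e => h.z_ne_one (congrArg Subtype.val e)
  obtain ⟨kT, hkT⟩ := IsPGroup.iff_card.1 T.isPGroup'
  have hTC : ∀ t ∈ (T : Subgroup H), (t : G) ∈ C → t = 1 ∨ t = zH := by
    intro t ht htC
    have hp : t ^ (2 ^ kT) = 1 := by
      rw [← hkT]
      exact congrArg Subtype.val (pow_card_eq_one' (x := (⟨t, ht⟩ : (T : Subgroup H))))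
    exact (htwo ⟨t, htC⟩ kT (Subtype.ext (by
      rw [SubmonoidClass.coe_pow]; exact congrArg Subtype.val hp))
      (Subtype.ext (mem_centralizer_singleton_iff.1 t.2))).imp (fun e => Subtype.ext e)
      (fun e => Subtype.ext e)
  haveI : Nontrivial (T : Subgroup H) :=
    ⟨⟨zH, hT (mem_zpowers zH)⟩, 1, fun e => hzH1 (congrArg Subtype.val e)⟩
  haveI := T.isPGroup'.center_nontrivial
  obtain ⟨⟨⟨e0, he0T⟩, he0c⟩, he0⟩ := exists_ne (1 : center (T : Subgroup H))
  have hcomm : ∀ t ∈ (T : Subgroup H), t * e0 = e0 * t := fun t ht =>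
    congrArg Subtype.val (mem_center_iff.1 he0c ⟨t, ht⟩)
  have he0z : e0 = zH := by
    refine (hTC e0 he0T (mem_centralizer_singleton_iff.2 ?_)).resolve_left fun e => he0 ?_
    · exact congrArg Subtype.val (hcomm zH (hT (mem_zpowers zH))).symm
    · exact Subtype.ext (Subtype.ext e)
  have hT2 : Nat.card (T : Subgroup H) = 2 := by
    have hle : (T : Subgroup H) ≤ zpowers zH := fun t ht => by
      rcases hTC t ht (mem_centralizer_singleton_iff.2 (congrArg Subtype.val (he0z ▸ hcomm t ht)))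
        with rfl | rfl
      exacts [one_mem _, mem_zpowers _]
    rw [le_antisymm hle hT, Nat.card_zpowers, orderOf_mk, h.orderOf_z]
  have hmin : (Nat.card H).minFac = 2 := (Nat.minFac_eq_two_iff _).2 (hT2 ▸ card_subgroup_dvd_card _)
  have hTcyc : IsCyclic (T : Subgroup H) := isCyclic_of_prime_card hT2
  set K := (MonoidHom.transferSylow T (hTcyc.normalizer_le_centralizer hmin)).ker
  have hcompl : K.IsComplement' T := hTcyc.isComplement' hmin
  have hKidx : K.index = 2 := by rw [hcompl.symm.index_eq_card, hT2]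
  have hKodd : Odd (Nat.card K) := by
    refine Nat.odd_iff.2 ?_
    have := T.not_dvd_index
    rw [hcompl.index_eq_card] at this
    omega
  have hH2 : Nat.card H = 2 * Nat.card K := by rw [← hKidx, K.index_mul_card]
  set K' := K.map H.subtype with hK'
  have hK'card : Nat.card K' = Nat.card K := card_map_of_injective H.subtype_injective
  have hK'le : K' ≤ H := map_subtype_le K
  have hK'odd : Odd (Nat.card K') := hK'card ▸ hKodd
  have hKmem : ∀ g : G, g ∈ H → Odd (orderOf g) → g ∈ K' := fun g hg ho =>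
    ⟨⟨g, hg⟩, Element.mem_of_coprime_index (by rw [hKidx, orderOf_mk]; exact ho.coprime_two_right), rfl⟩
  have hKo : ∀ g ∈ K', Odd (orderOf g) := fun g hg => hK'odd.of_dvd_nat (K'.orderOf_dvd_natCard hg)
  have hnormK : ∀ g ∈ M, ∀ y ∈ K', g * y * g⁻¹ ∈ K' := fun g hg y hy =>
    hKmem _ (key.norm g hg y (hK'le hy)) (by
      rw [← MulAut.conj_apply, MulEquiv.orderOf_eq]; exact hKo y hy)
  have hMN : ∀ g ∈ M, g ∈ normalizer (K' : Set G) := fun g hg => by
    rw [← map_conj_eq_self_iff_mem_normalizer]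
    refine Subgroup.eq_of_le_of_card_ge ?_ (TwoFusion.card_map_conj _ _).ge
    rintro _ ⟨y, hy, rfl⟩
    exact hnormK g hg y hy
  -- involutions
  set z := MC.zG n a with hzdef
  set I := Nat.card (Invs H M)
  set k0 := Nat.card ↥(K' ⊓ centralizer ({z} : Set G)) with hk0
  set k1 := Nat.card ↥(K' ⊓ centralizer ({w} : Set G)) with hk1
  set k2 := Nat.card ↥(K' ⊓ centralizer ({z * w} : Set G)) with hk2
  have hzwzw : (z * w) * (z * w) = 1 := by
    rw [mul_assoc, ← mul_assoc w, hwz, mul_assoc z w, hww, mul_one, h.zz]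
  have hI : Nat.card K' * (k1 + k2) ≤ I * (k1 * k2) := by
    let A1 := {x : G // ∃ g ∈ K', g * w * g⁻¹ = x}
    let A2 := {x : G // ∃ g ∈ K', g * (z * w) * g⁻¹ = x}
    have hzwH : z * w ∉ H := fun e => key.w_out (by simpa using mul_mem (inv_mem hzH) e)
    have hinvs : ∀ (w' x : G), w' ∈ M → w' ∉ H → w' * w' = 1 → (∃ g ∈ K', g * w' * g⁻¹ = x) →
        x ∈ M ∧ x ∉ H ∧ x * x = 1 := by
      rintro w' x hwM hwH hw2 ⟨g, hg, rfl⟩
      have hgH := hK'le hg
      refine ⟨mul_mem (mul_mem (key.le hgH) hwM) (inv_mem (key.le hgH)), fun e => hwH ?_, ?_⟩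
      · simpa [mul_assoc] using mul_mem (mul_mem (inv_mem hgH) e) hgH
      · rw [conj_mul, hw2]; group
    let f : A1 ⊕ A2 → Invs H M := Sum.elim
      (fun x => ⟨x.1, hinvs w x.1 key.w_mem key.w_out hww x.2⟩)
      (fun x => ⟨x.1, hinvs (z * w) x.1 (mul_mem (key.le hzH) key.w_mem) hzwH hzwzw x.2⟩)
    have hdisj : ∀ (x1 : A1) (x2 : A2), x1.1 ≠ x2.1 := by
      rintro ⟨_, g, hg, rfl⟩ ⟨_, g', hg', rfl⟩ e
      simp only at e
      set d := g'⁻¹ * g
      have hd : d ∈ K' := mul_mem (inv_mem hg') hg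
      have e2 : d * w * d⁻¹ = z * w := by
        calc d * w * d⁻¹ = g'⁻¹ * (g * w * g⁻¹) * g' := by simp only [d]; group
          _ = z * w := by rw [e]; group
      have hzK : z ∈ K' := by
        have hz' : z = d * (w * d⁻¹ * w⁻¹) := by
          rw [show d * (w * d⁻¹ * w⁻¹) = d * w * d⁻¹ * w⁻¹ by group, e2, mul_inv_cancel_right]
        rw [hz']
        exact mul_mem hd (hnormK w key.w_mem _ (inv_mem hd))
      have := hKo z hzK
      rw [h.orderOf_z] at this
      exact absurd this (by decide)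
    have hfi : Function.Injective f := by
      rintro (x | x) (y | y) e <;> have e' : _ = _ := congrArg Subtype.val e <;> simp only [f, Sum.elim_inl, Sum.elim_inr] at e'
      · exact congrArg Sum.inl (Subtype.ext e')
      · exact absurd e' (hdisj x y)
      · exact absurd e'.symm (hdisj y x)
      · exact congrArg Sum.inr (Subtype.ext e')
    have hc := Nat.card_le_card_of_injective f hfi
    rw [Nat.card_sum] at hc
    have e1 : Nat.card A1 * k1 = Nat.card K' := card_orbit_mul K' w
    have e2 : Nat.card A2 * k2 = Nat.card K' := card_orbit_mul K' (z * w)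
    calc Nat.card K' * (k1 + k2) = (Nat.card A1 + Nat.card A2) * (k1 * k2) := by
          rw [mul_add]
          nth_rw 1 [← e2]
          nth_rw 1 [← e1]
          ring
      _ ≤ _ := Nat.mul_le_mul_right _ hc
  -- the fixed-point formula
  set x0 := Nat.card ↥(O.map C.subtype ⊓ centralizer ({(b : G)} : Set G)) with hx0
  set x0' := Nat.card ↥(K' ⊓ centralizer ({z, w} : Set G)) with hx0'
  have hfix : Nat.card K' * x0' ^ 2 = k0 * k1 * k2 :=
    card_four_fixed hK'odd (isSolvable_of_odd h.cyc hK'odd) h.zz hww h.z_ne_one hw1 hwz'.symm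
      hwz.symm (hMN z (key.le hzH)) (hMN w key.w_mem)
  have hx0le : x0' ≤ x0 := by
    have hmem : ∀ g ∈ K' ⊓ centralizer ({z, w} : Set G),
        cb⁻¹ * g * cb ∈ O.map C.subtype ⊓ centralizer ({(b : G)} : Set G) := by
      intro g hg
      obtain ⟨hgK, hgc⟩ := mem_inf.1 hg
      have hgw : w * g = g * w := mem_centralizer_iff.1 hgc w (by simp)
      have hgCC : g ∈ C := mem_centralizer_singleton_iff.2 (mem_centralizer_iff.1 hgc z (by simp)).symm
      set gC : C := ⟨g, hgCC⟩
      have hgO : gC ∈ O := by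
        have hcφ : π gC * π φ = π φ * π gC := by
          rw [← map_mul, ← map_mul]
          exact congrArg π (Subtype.ext (mem_centralizer_singleton_iff.1 (hK'le hgK)))
        have hgo : Odd (orderOf (π gC)) :=
          (hKo g hgK).of_dvd_nat (Subgroup.orderOf_coe gC ▸ orderOf_map_dvd π gC)
        refine (QuotientGroup.eq_one_iff gC).1 ?_
        show π gC = 1
        by_contra h1
        have h3 : orderOf (π gC) = 3 := by
          have h48 : orderOf (π gC) ∣ 16 * 3 := by
            have := hcardQ ▸ _root_.orderOf_dvd_natCard (π gC)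
            norm_num; exact this
          have h3' := (hgo.coprime_two_right.pow_right 4).dvd_of_dvd_mul_left h48
          rcases (Nat.dvd_prime Nat.prime_three).1 h3' with e | e
          · exact absurd (orderOf_eq_one_iff.1 e) h1
          · exact e
        obtain ⟨i, hi⟩ := mem_zpowers_of_prime Nat.prime_three (fun P hP => by
          obtain ⟨l, hl⟩ := IsPGroup.iff_card.1 hP
          have hd : 3 ^ l ∣ 16 * 3 := by
            have := hl ▸ hcardQ ▸ card_subgroup_dvd_card P
            norm_num; exact this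
          have h' := ((by norm_num : Nat.Coprime 3 16).pow_left l).dvd_of_dvd_mul_left hd
          rcases (Nat.dvd_prime Nat.prime_three).1 h' with e | e
          · haveI := Finite.card_le_one_iff_subsingleton.1 (hl.trans e).le
            exact isCyclic_of_subsingleton
          · exact isCyclic_of_prime_card (p := 3) (hl.trans e)) h3 hφbar hcφ
        have hcv : π v * π gC * (π v)⁻¹ = π gC := by
          rw [← map_inv, ← map_mul, ← map_mul]
          exact congrArg π (Subtype.ext (by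
            show w * g * w⁻¹ = g
            rw [hgw, mul_inv_cancel_right]))
        simp only at hi
        rw [← hi, ← conj_zpow, hvbar, inv_zpow] at hcv
        rw [hi] at hcv
        have := orderOf_dvd_of_pow_eq_one (n := 2) (x := π gC)
          (by rw [pow_two]; nth_rw 1 [← hcv]; exact inv_mul_cancel _)
        rw [h3] at this
        norm_num at this
      refine mem_inf.2 ⟨⟨⟨cb, hcbC⟩⁻¹ * gC * ⟨cb, hcbC⟩, ?_, rfl⟩, ?_⟩
      · simpa using hOn.conj_mem gC hgO (⟨cb, hcbC⟩ : C)⁻¹
      · rw [mem_centralizer_singleton_iff]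
        have hb : (b : G) = cb⁻¹ * w * cb := by rw [← hcb]; group
        rw [hb]
        calc cb⁻¹ * g * cb * (cb⁻¹ * w * cb) = cb⁻¹ * (g * w) * cb := by group
          _ = _ := by rw [← hgw]; group
    exact Nat.card_le_card_of_injective
      (fun g => (⟨cb⁻¹ * g.1 * cb, hmem g.1 g.2⟩ : ↥(O.map C.subtype ⊓ centralizer ({(b : G)} : Set G))))
      fun g g' e => Subtype.ext (mul_left_cancel (mul_right_cancel (congrArg Subtype.val e :)))
  -- the normal 3-complement of the odd core
  haveI : IsZGroup O := ⟨fun r hr P => by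
    by_cases h2 : r = 2
    · subst h2; exact sylow_two_cyclic_of_odd hxodd P
    · haveI := h.cyc r hr h2 _ ((P.isPGroup'.map O.subtype).map C.subtype)
      exact isCyclic_of_surjective _
        (((P : Subgroup O).equivMapOfInjective O.subtype O.subtype_injective).trans
          (((P : Subgroup O).map O.subtype).equivMapOfInjective C.subtype C.subtype_injective)).symm.surjective⟩
  obtain ⟨W, e, hWmem, hWcard, hW3⟩ := three_complement hxodd (fun P => IsZGroup.isZGroup 3 Nat.prime_three P)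
  set W' := W.map O.subtype with hW'
  have hW'card : Nat.card W' = Nat.card W := card_map_of_injective O.subtype_injective
  have hW'mem : ∀ g : C, g ∈ W' ↔ g ∈ O ∧ ¬ 3 ∣ orderOf g := by
    intro g
    constructor
    · rintro ⟨y, hy, rfl⟩
      exact ⟨y.2, by simpa using (hWmem y).1 hy⟩
    · rintro ⟨hg, h3⟩
      exact ⟨⟨g, hg⟩, (hWmem _).2 (by rwa [orderOf_mk]), rfl⟩
  haveI : W'.Normal := ⟨fun y hy g => (hW'mem _).2 ⟨hOn.conj_mem y ((hW'mem y).1 hy).1 g, by
    rw [← MulAut.conj_apply, MulEquiv.orderOf_eq]; exact ((hW'mem y).1 hy).2⟩⟩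
  haveI : IsZGroup W := IsZGroup.of_injective W.subtype_injective
  haveI : IsZGroup W' := IsZGroup.of_injective (f := (W.equivMapOfInjective O.subtype O.subtype_injective).symm.toMonoidHom)
    (MulEquiv.injective _)
  have hW'odd : Odd (Nat.card W') := hW'card ▸ hxodd.of_dvd_nat (card_subgroup_dvd_card W)
  have hφcomm : φ ∈ commutator C := by
    have h1 : v * φ * v⁻¹ * φ⁻¹ ∈ commutator C := by
      rw [_root_.commutator_def]; exact commutator_mem_commutator (mem_top v) (mem_top φ)
    rw [hvinv, ← pow_two, inv_pow] at h1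
    obtain ⟨i, hi⟩ := exists_pow_eq_self_of_coprime (x := φ) (n := 2)
      (hφo ▸ (Nat.Coprime.pow_right _ (by norm_num)))
    rw [← hi]
    exact pow_mem (inv_mem_iff.1 h1) i
  have hWφ : ∀ y ∈ W', φ * y = y * φ := fun y hy =>
    commute_of_mem_commutator hφcomm
      (by rw [hφo, hW'card]; exact (Nat.prime_three.coprime_iff_not_dvd.2 hW3).pow_left _) hy
  have hk0le : 3 * x ≤ k0 := by
    have hem : e + 1 ≤ j + 1 := h3m (e + 1) (by
      rw [mul_comm 48 x, pow_succ]
      exact mul_dvd_mul (Dvd.intro _ hWcard.symm) (by norm_num))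
    have hmemW : ∀ y ∈ W', (y : G) ∈ K' ⊓ centralizer ({z} : Set G) := fun y hy => mem_inf.2
      ⟨hKmem _ (mem_centralizer_singleton_iff.2 (congrArg Subtype.val (hWφ y hy)).symm)
        (by rw [Subgroup.orderOf_coe]; exact hW'odd.of_dvd_nat (W'.orderOf_dvd_natCard hy)), y.2⟩
    have hφK : (φ : G) ∈ K' ⊓ centralizer ({z} : Set G) := mem_inf.2
      ⟨hKmem _ (mem_centralizer_singleton_iff.2 rfl) (hu ▸ (by decide : Odd 3).pow), φ.2⟩
    have hcount : Nat.card W' * 3 ^ (j + 1) ≤ k0 := by
      rw [← hu, ← Nat.card_zpowers, ← Nat.card_prod]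
      refine Nat.card_le_card_of_injective (fun p => (⟨((p.1 : C) : G) * (p.2 : G),
        mul_mem (hmemW _ p.1.2) (zpowers_le.2 hφK p.2.2)⟩ : ↥(K' ⊓ centralizer ({z} : Set G)))) ?_
      rintro ⟨y1, r1⟩ ⟨y2, r2⟩ e
      have e' : ((y1 : C) : G) * (r1 : G) = ((y2 : C) : G) * (r2 : G) := congrArg Subtype.val e
      have e2 : (((y2⁻¹ * y1 : W') : C) : G) = ((r2 * r1⁻¹ : zpowers (φ : G)) : G) := by
        simp only [Subgroup.coe_mul, Subgroup.coe_inv]
        rw [eq_mul_inv_iff_mul_eq, mul_assoc, e', inv_mul_cancel_left]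
      have h1 := (Subgroup.orderOf_coe (y2⁻¹ * y1 : W')).symm.trans (Subgroup.orderOf_coe ((y2⁻¹ * y1 : W') : C)).symm
      rw [e2, Subgroup.orderOf_coe] at h1
      have hone : y2⁻¹ * y1 = 1 := orderOf_eq_one_iff.1 (Nat.eq_one_of_dvd_coprimes
        ((Nat.prime_three.coprime_iff_not_dvd.2 (hW'card ▸ hW3)).pow_left (j + 1))
        (h1 ▸ hu ▸ Nat.card_zpowers (φ : G) ▸ _root_.orderOf_dvd_natCard (r2 * r1⁻¹))
        (_root_.orderOf_dvd_natCard _))
      obtain rfl : y1 = y2 := (inv_mul_eq_one.1 hone).symm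
      obtain rfl : r1 = r2 := Subtype.ext (mul_left_cancel e')
      rfl
    calc 3 * x = Nat.card W * 3 ^ (e + 1) := by rw [hx, hWcard]; ring
      _ ≤ Nat.card W' * 3 ^ (j + 1) := by
          rw [hW'card]; exact Nat.mul_le_mul_left _ (Nat.pow_le_pow_right (by norm_num) hem)
      _ ≤ k0 := hcount
  -- `a²` centralizes the odd core
  have hbound : 2 * x0 ≤
      Nat.card ↥(centralizer ({(a : G) ^ 2} : Set G) ⊓ centralizer ({(b : G)} : Set G)) := by
    set aC : C := ⟨(a : G), h.S_le_centralizer a.2⟩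
    set bC : C := ⟨(b : G), h.S_le_centralizer b.2⟩
    have haO : ∀ y ∈ O, aC ^ 2 * y = y * aC ^ 2 := fun y hy => commute_of_mem_commutator (by
      have h1 : bC * aC * bC⁻¹ * aC⁻¹ ∈ commutator C := by
        rw [_root_.commutator_def]; exact commutator_mem_commutator (mem_top bC) (mem_top aC)
      have h2 : bC * aC * bC⁻¹ = aC ^ 3 := Subtype.ext (by
        have := congrArg Subtype.val h.qd.conj
        rw [hn] at this
        simpa [aC, bC] using this)
      rwa [h2, pow_succ, mul_inv_cancel_right] at h1) (by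
      refine Nat.Coprime.coprime_dvd_left ?_ (hxodd.coprime_two_right.pow_right n).symm
      rw [← h.orderOf_a, ← orderOf_mk (a : G) (h.S_le_centralizer a.2)]
      exact orderOf_pow_dvd 2) hy
    have ha2z : z * (a : G) ^ 2 = (a : G) ^ 2 * z := h.z_comm (pow_mem a.2 2)
    have hz2 : Nat.card (zpowers z) = 2 := by rw [Nat.card_zpowers, h.orderOf_z]
    refine le_of_eq_of_le (show 2 * x0 = Nat.card (↥(O.map C.subtype ⊓ centralizer ({(b : G)} : Set G)) ×
      ↥(zpowers z)) by rw [Nat.card_prod, hz2, mul_comm]) ?_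
    have hmem : ∀ y ∈ O.map C.subtype ⊓ centralizer ({(b : G)} : Set G),
        y ∈ centralizer ({(a : G) ^ 2} : Set G) ⊓ centralizer ({(b : G)} : Set G) := by
      intro y hy
      obtain ⟨⟨y', hy', rfl⟩, hyb⟩ := mem_inf.1 hy
      exact mem_inf.2 ⟨mem_centralizer_singleton_iff.2 (congrArg Subtype.val (haO y' hy')).symm, hyb⟩
    have hzm : z ∈ centralizer ({(a : G) ^ 2} : Set G) ⊓ centralizer ({(b : G)} : Set G) :=
      mem_inf.2 ⟨mem_centralizer_singleton_iff.2 ha2z, mem_centralizer_singleton_iff.2 (h.z_comm b.2)⟩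
    refine Nat.card_le_card_of_injective (fun p => (⟨(p.1 : G) * (p.2 : G),
      mul_mem (hmem _ p.1.2) (zpowers_le.2 hzm p.2.2)⟩ :
      ↥(centralizer ({(a : G) ^ 2} : Set G) ⊓ centralizer ({(b : G)} : Set G)))) ?_
    rintro ⟨y1, r1⟩ ⟨y2, r2⟩ e
    have e' : (y1 : G) * (r1 : G) = (y2 : G) * (r2 : G) := congrArg Subtype.val e
    have e2 : (((y2 : G))⁻¹ * (y1 : G)) = ((r2 * r1⁻¹ : zpowers z) : G) := by
      simp only [Subgroup.coe_mul, Subgroup.coe_inv]
      rw [eq_mul_inv_iff_mul_eq, mul_assoc, e', inv_mul_cancel_left]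
    have hO' : (y2 : G)⁻¹ * (y1 : G) ∈ O.map C.subtype :=
      mul_mem (inv_mem (mem_inf.1 y2.2).1) (mem_inf.1 y1.2).1
    have hone : (y2 : G)⁻¹ * (y1 : G) = 1 := Element.eq_one_of_mem_of_coprime hO' (by
      rw [e2, card_map_of_injective C.subtype_injective]
      refine Nat.Coprime.coprime_dvd_left ?_ hxodd.coprime_two_left
      rw [Subgroup.orderOf_coe, ← hz2]
      exact _root_.orderOf_dvd_natCard _)
    obtain rfl : y1 = y2 := Subtype.ext (inv_mul_eq_one.1 hone).symm
    obtain rfl : r1 = r2 := Subtype.ext (mul_left_cancel e')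
    rfl
  have hcent : Nat.card (centralizer ({(a : G) ^ 2} : Set G)) ≤ 8 * x := by
    set A := centralizer ({(a : G) ^ 2} : Set G)
    let f : A →* C ⧸ O := π.comp (Subgroup.inclusion h.centralizer_sq_le)
    rw [← f.ker.index_mul_card, index_ker]
    refine Nat.mul_le_mul ((Subgroup.card_le_of_le ?_).trans q.centralizer_sq_le) ?_
    · rintro _ ⟨y, rfl⟩
      rw [mem_centralizer_singleton_iff]
      show π _ * π _ = π _ * π _
      rw [← map_mul, ← map_mul]
      congr 1
      exact Subtype.ext (mem_centralizer_singleton_iff.1 y.2)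
    · exact Nat.card_le_card_of_injective
        (fun y => (⟨Subgroup.inclusion h.centralizer_sq_le y.1,
          (QuotientGroup.eq_one_iff _).1 y.2⟩ : O))
        fun y y' e => Subtype.ext (inclusion_injective _ (congrArg Subtype.val e :))
  refine h.false_of_bound key (fun y hy hy4 => ?_) hbound ?_
  · have h4 : 4 ∣ Nat.card H := hy4 ▸ Subgroup.orderOf_dvd_natCard H (mem_centralizer_singleton_iff.2 hy)
    rw [hH2] at h4
    obtain ⟨l, hl⟩ := hKodd
    omega
  · rw [hH2, ← hK'card]
    set N := Nat.card K'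
    have hN : 0 < N := Nat.card_pos
    have hx0p : 0 < x := Nat.card_pos
    have hk1p : 0 < k1 := Nat.card_pos
    have hk2p : 0 < k2 := Nat.card_pos
    refine Nat.lt_of_mul_lt_mul_right (a := N * (k1 * k2)) ?_
    calc 2 * (2 * N) * Nat.card (centralizer ({(a : G) ^ 2} : Set G)) * (N * (k1 * k2))
        ≤ 2 * (2 * N) * (8 * x) * (N * (k1 * k2)) := by gcongr
      _ = 32 * x * (N * N * (k1 * k2)) := by ring
      _ < 48 * x * (N * N * (k1 * k2)) := Nat.mul_lt_mul_of_pos_right (by omega) (by positivity)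
      _ = 4 * (4 * (3 * x)) * (N * N) * (k1 * k2) := by ring
      _ ≤ 4 * (4 * k0) * (N * N) * (k1 * k2) := by gcongr
      _ = 4 * k0 * (N ^ 2 * (4 * (k1 * k2))) := by ring
      _ ≤ 4 * k0 * (N ^ 2 * (k1 + k2) ^ 2) := by
          gcongr
          have := four_mul_le_pow_two_add k1 k2
          linarith
      _ = 4 * k0 * (N * (k1 + k2)) ^ 2 := by ring
      _ ≤ 4 * k0 * (I * (k1 * k2)) ^ 2 := by gcongr
      _ = 4 * I ^ 2 * (k0 * k1 * k2) * (k1 * k2) := by ring
      _ = 4 * I ^ 2 * (N * x0' ^ 2) * (k1 * k2) := by rw [hfix]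
      _ ≤ 4 * I ^ 2 * (N * x0 ^ 2) * (k1 * k2) := by gcongr
      _ = I ^ 2 * (2 * x0) ^ 2 * (N * (k1 * k2)) := by ring

end Hyp

end Cfsg.Agent.GW.SD
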