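import Cfsg.Agent.GW.SD.Four
import Cfsg.Agent.PSolv.HallHigman
import Cfsg.Agent.Cores.Basic

/-!
A solvable group without odd core in which a quasi-dihedral Sylow 2-subgroup is not normal.
-/

set_option autoImplicit false
set_option linter.unusedSectionVars false
set_option linter.style.haveILetI false

open Cfsg

namespace Cfsg.Agent.GW.SD

open Subgroup TwoGroups

universe u v

variable {Q : Type u} [Group Q] [Finite Q] {S : Type v} [Group S] [Finite S]

/-- A solvable group without odd core, with a quasi-dihedral Sylow subgroup `range ι` whose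
central involution is central and whose two classes of elements of order four are fused. -/
structure QuotHyp (ι : S →* Q) (n : ℕ) (a b : S) : Prop where
  qd : QDData n a b
  inj : Function.Injective ι
  index : ¬ 2 ∣ ι.range.index
  solv : Group.IsSolvable Q
  core : pPrimeCore 2 Q = ⊥
  central : ι (a ^ (2 ^ (n - 1))) ∈ center Q
  fused : IsConj (ι (a ^ (2 ^ (n - 2)))) (ι (a * b))

namespace QuotHyp

variable {ι : S →* Q} {n : ℕ} {a b : S} (h : QuotHyp ι n a b)
include h

theorem card_range : Nat.card ι.range = 2 ^ (n + 1) := by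
  rw [← h.qd.card]; exact Nat.card_congr (MonoidHom.ofInjective h.inj).symm.toEquiv

theorem isPGroup_range : IsPGroup 2 ι.range := IsPGroup.of_card h.card_range

theorem le_range {T : Subgroup Q} [T.Normal] (hT : IsPGroup 2 T) : T ≤ ι.range := by
  haveI : Fact (Nat.Prime 2) := ⟨Nat.prime_two⟩
  have h1 := (Cores.le_pCore (N := T) inferInstance hT).trans
    (Cores.pCore_le_sylow (h.isPGroup_range.toSylow h.index))
  simpa using h1

theorem core_le : pCore 2 Q ≤ ι.range := by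
  haveI : (pCore 2 Q).Normal := Subgroup.sSup_normal _ fun N hN => hN.1
  exact h.le_range Cores.pCore_isPGroup

theorem centralizer_core : centralizer (pCore 2 Q : Set Q) ≤ pCore 2 Q := by
  haveI : Fact (Nat.Prime 2) := ⟨Nat.prime_two⟩
  exact PSolv.centralizer_pCore_le (PSolv.isPSolvable_of_isSolvable h.solv) h.core

/-- An element of odd order outside the centralizer of the core. -/
theorem exists_odd : ∃ c : Q, Odd (orderOf c) ∧ c ∉ centralizer (pCore 2 Q : Set Q) := by
  haveI : Fact (Nat.Prime 2) := ⟨Nat.prime_two⟩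
  by_cases ht : ι.range = ⊤
  · exfalso
    obtain ⟨g, hg⟩ := isConj_iff.1 h.fused
    obtain ⟨s, rfl⟩ : g ∈ ι.range := ht ▸ mem_top g
    rw [← map_inv, ← map_mul, ← map_mul] at hg
    haveI := Subgroup.normal_of_index_eq_two h.qd.index_two
    refine h.qd.notMem ?_
    have hm : a * b ∈ zpowers a :=
      h.inj hg ▸ Subgroup.Normal.conj_mem inferInstance _ (Subgroup.npow_mem_zpowers a _) s
    simpa using mul_mem (inv_mem (mem_zpowers a)) hm
  · have h1 : ι.range.index ≠ 1 := fun e => ht (index_eq_one.1 e)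
    obtain ⟨r, hr, hrd⟩ := Nat.exists_prime_and_dvd h1
    haveI : Fact r.Prime := ⟨hr⟩
    obtain ⟨c, hc⟩ := exists_prime_orderOf_dvd_card' (G := Q) r
      (hrd.trans (Dvd.intro _ ι.range.index_mul_card))
    have hr2 : r ≠ 2 := by rintro rfl; exact h.index hrd
    refine ⟨c, hc ▸ hr.odd_of_ne_two hr2, fun hC => ?_⟩
    obtain ⟨k, hk⟩ := IsPGroup.iff_card.1 (Cores.pCore_isPGroup (p := 2) (G := Q))
    have := hk ▸ Subgroup.orderOf_dvd_natCard _ (h.centralizer_core hC)
    rw [hc] at this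
    exact hr2 ((Nat.prime_dvd_prime_iff_eq hr Nat.prime_two).1 (hr.dvd_of_dvd_pow this))

theorem core_normal : (pCore 2 Q).Normal := Subgroup.sSup_normal _ fun N hN => hN.1

theorem conj_mem_core (g : Q) {x : Q} (hx : x ∈ pCore 2 Q) : g * x * g⁻¹ ∈ pCore 2 Q :=
  h.core_normal.conj_mem x hx g

theorem orderOf_eq (s : S) : orderOf (ι s) = orderOf s := orderOf_injective ι h.inj s

/-- The core has order eight and is quaternion. -/
theorem core_shape : n = 3 ∧ ι (a ^ 2) ∈ pCore 2 Q ∧ ι (a * b) ∈ pCore 2 Q ∧ ι a ∉ pCore 2 Q := by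
  haveI : Fact (Nat.Prime 2) := ⟨Nat.prime_two⟩
  obtain ⟨c, hco, hc⟩ := h.exists_odd
  have h3 := h.qd.three_le
  haveI := Subgroup.normal_of_index_eq_two h.qd.index_two
  have hσ : ∀ s, ι s ∈ pCore 2 Q → ∃ t, ι t = c * ι s * c⁻¹ ∧ ι t ∈ pCore 2 Q ∧ orderOf t = orderOf s :=
    fun s hs => by
      obtain ⟨t, ht⟩ := h.core_le (h.conj_mem_core c hs)
      refine ⟨t, ht, by rw [ht]; exact h.conj_mem_core c hs, ?_⟩
      rw [← h.orderOf_eq, ht, ← MulAut.conj_apply, MulEquiv.orderOf_eq, h.orderOf_eq]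
  have htwo : ∀ s : S, ι s ^ (2 ^ (n + 1)) = 1 := fun s => by
    rw [← map_pow, ← h.qd.card, pow_card_eq_one', map_one]
  -- an element of the core inside the cyclic subgroup that is moved
  obtain ⟨i, hi, him⟩ : ∃ i : ℤ, ι (a ^ i) ∈ pCore 2 Q ∧ c * ι (a ^ i) * c⁻¹ ≠ ι (a ^ i) := by
    by_contra hcon
    push_neg at hcon
    refine hc (mem_centralizer_iff.2 fun y hy => ?_)
    obtain ⟨s, rfl⟩ := h.core_le hy
    rcases h.qd.exists_eq s with ⟨i, rfl⟩ | ⟨i, rfl⟩
    · exact (mul_inv_eq_iff_eq_mul.1 (hcon i hy)).symm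
    · obtain ⟨t, ht, htP, -⟩ := hσ _ hy
      rcases h.qd.exists_eq t with ⟨j, rfl⟩ | ⟨j, rfl⟩
      · exfalso
        refine h.qd.zpow_mul_notMem i ?_
        have h1 := hcon j htP
        rw [ht] at h1
        have h2 : c * ι (a ^ i * b) * c⁻¹ = ι (a ^ i * b) := mul_left_cancel (mul_right_cancel h1)
        rw [← ht] at h2
        rw [← h.inj h2]
        exact zpow_mem_zpowers a j
      · have he : ι (a ^ j * b) = ι (a ^ (j - i)) * ι (a ^ i * b) := by
          rw [← map_mul, ← mul_assoc, ← zpow_add, sub_add_cancel]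
        set X := ι (a ^ (j - i))
        set Y := ι (a ^ i * b)
        have hX : X ∈ pCore 2 Q := by
          have := mul_mem htP (inv_mem hy)
          rwa [he, mul_inv_cancel_right] at this
        have hXc : Commute c X := mul_inv_eq_iff_eq_mul.1 (hcon _ hX)
        have hm : ∀ m : ℕ, c ^ m * Y * (c ^ m)⁻¹ = X ^ m * Y := by
          intro m
          induction m with
          | zero => simp
          | succ m ih =>
            calc c ^ (m + 1) * Y * (c ^ (m + 1))⁻¹ = c * (c ^ m * Y * (c ^ m)⁻¹) * c⁻¹ := by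
                  rw [pow_succ']; group
              _ = (c * X ^ m) * Y * c⁻¹ := by rw [ih]; group
              _ = X ^ m * (c * Y * c⁻¹) := by rw [(hXc.pow_right m).eq]; group
              _ = X ^ m * (X * Y) := by rw [← ht, he]
              _ = X ^ (m + 1) * Y := by rw [← mul_assoc, ← pow_succ]
        have h1 := hm (orderOf c)
        rw [pow_orderOf_eq_one, one_mul, inv_one, mul_one] at h1
        have h2 : X ^ orderOf c = 1 := by
          have := congrArg (fun q => q * Y⁻¹) h1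
          simpa using this.symm
        have hX1 : X = 1 := orderOf_eq_one_iff.1 (Nat.eq_one_of_dvd_coprimes
          (hco.coprime_two_right.pow_right (n + 1)) (orderOf_dvd_of_pow_eq_one h2)
          (orderOf_dvd_of_pow_eq_one (htwo _)))
        rw [ht, hX1, one_mul] at he
        exact (mul_inv_eq_iff_eq_mul.1 he).symm
  obtain ⟨t, ht, htP, hto⟩ := hσ _ hi
  have hfix : ∀ m : ℤ, ι (a ^ m) ∈ pCore 2 Q →
      (∃ t ∈ zpowers a, ι t = c * ι (a ^ m) * c⁻¹) → c * ι (a ^ m) * c⁻¹ = ι (a ^ m) := by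
    rintro m hm ⟨t, ⟨j, rfl⟩, ht⟩
    refine TwoFusion.odd_fix_cyclic (n + 1) hco (htwo _) ?_
    simp only at ht
    rw [← ht]
    have hord : orderOf (a ^ j) = orderOf (a ^ m) := by
      rw [← h.orderOf_eq, ht, ← MulAut.conj_apply, MulEquiv.orderOf_eq, h.orderOf_eq]
    obtain ⟨l, hl⟩ := mem_zpowers_of_order_eq (zpow_mem_zpowers a j) (zpow_mem_zpowers a m) hord
    exact ⟨l, by simpa using congrArg ι hl⟩
  have htA : t ∉ zpowers a := fun hm => him (hfix i hi ⟨t, hm, ht⟩)
  obtain ⟨j, rfl⟩ := h.qd.exists_eq_of_notMem htA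
  have hsqz : ι (a ^ i) * ι (a ^ i) = 1 → False := by
    intro e
    have e' : a ^ i * a ^ i = 1 := h.inj (by rw [map_mul, map_one]; exact e)
    by_cases h1 : a ^ i = 1
    · exact him (by rw [h1]; simp)
    · have := h.qd.eq_invol_of_orderOf (orderOf_eq_prime (by rw [pow_two]; exact e') h1)
      rw [show (2 : ℤ) ^ (n - 1) = ((2 ^ (n - 1) : ℕ) : ℤ) by norm_num, zpow_natCast] at this
      apply him
      rw [this, mem_center_iff.1 h.central c, mul_inv_cancel_right]
  have hj : ¬ (2 : ℤ) ∣ j := fun hj => hsqz (by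
    rw [← map_mul, show a ^ i * a ^ i = 1 from ?_, map_one]
    rw [← pow_two, ← orderOf_dvd_iff_pow_eq_one, ← hto, h.qd.orderOf_zpow_mul_y_of_even hj])
  have hi4 : orderOf (a ^ i) = 4 := hto ▸ h.qd.orderOf_zpow_mul_y_of_odd hj
  -- the square of the generator lies in the core
  have ha2 : ∀ k : ℤ, 2 ∣ k → ι (a ^ k) ∈ pCore 2 Q := by
    intro k hk
    have h1 : ι (a * (a ^ j * b) * a⁻¹) * (ι (a ^ j * b))⁻¹ ∈ pCore 2 Q := by
      refine mul_mem ?_ (inv_mem htP)
      rw [map_mul, map_mul, map_inv]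
      exact h.conj_mem_core _ htP
    have e : a * (a ^ j * b) * a⁻¹ * (a ^ j * b)⁻¹ = a ^ (2 - (2 : ℤ) ^ (n - 1)) := by
      have e1 : (a ^ j * b) * a ^ (-1 : ℤ) * (a ^ j * b)⁻¹ = a ^ (((2 : ℤ) ^ (n - 1) - 1) * -1) :=
        h.qd.zpow_conj_zpow (-1) j
      calc a * (a ^ j * b) * a⁻¹ * (a ^ j * b)⁻¹
          = a * ((a ^ j * b) * a ^ (-1 : ℤ) * (a ^ j * b)⁻¹) := by rw [zpow_neg_one]; group
        _ = _ := by
            rw [e1]
            nth_rw 1 [← zpow_one a]
            rw [← zpow_add]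
            congr 1; ring
    rw [← map_inv, ← map_mul, e] at h1
    obtain ⟨l, rfl⟩ := hk
    have hodd : Odd (1 - (2 : ℤ) ^ (n - 2)) :=
      odd_one.sub_even ((Int.even_pow).2 ⟨even_two, by omega⟩)
    obtain ⟨p, q, hpq⟩ := isCoprime_two_pow_of_odd hodd n
    have : a ^ (2 * l) = (a ^ (2 - (2 : ℤ) ^ (n - 1))) ^ (q * l) := by
      rw [← zpow_mul, h.qd.zpow_eq]
      refine ⟨2 * p * l, ?_⟩
      rw [show (2 : ℤ) ^ (n - 1) = 2 * 2 ^ (n - 2) by rw [← pow_succ', show n - 2 + 1 = n - 1 by omega]]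
      linear_combination (-2 * l) * hpq
    rw [this, map_zpow]
    exact zpow_mem h1 _
  -- cyclic elements of order at least eight are fixed
  have hbig : ∀ m : ℤ, ι (a ^ m) ∈ pCore 2 Q → ¬ orderOf (a ^ m) ∣ 4 →
      c * ι (a ^ m) * c⁻¹ = ι (a ^ m) := by
    intro m hm h8
    obtain ⟨t, ht, htP, hto⟩ := hσ _ hm
    refine hfix m hm ⟨t, ?_, ht⟩
    by_contra htn
    obtain ⟨l, rfl⟩ := h.qd.exists_eq_of_notMem htn
    apply h8
    rw [← hto]
    by_cases h2 : (2 : ℤ) ∣ l
    · rw [h.qd.orderOf_zpow_mul_y_of_even h2]; norm_num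
    · rw [h.qd.orderOf_zpow_mul_y_of_odd h2]
  -- fixing `a ^ m` fixes the element `a ^ i` of order four
  have hfour : ∀ m : ℤ, ι (a ^ m) ∈ pCore 2 Q → ¬ orderOf (a ^ m) ∣ 4 → False := by
    intro m hm h8
    have h1 : Commute c (ι (a ^ m)) := mul_inv_eq_iff_eq_mul.1 (hbig m hm h8)
    have hmem : a ^ i ∈ zpowers (a ^ m) := by
      obtain ⟨e, he⟩ : 4 ∣ orderOf (a ^ m) := by
        obtain ⟨e, he, hee⟩ := (Nat.dvd_prime_pow Nat.prime_two).1
          (h.qd.card ▸ _root_.orderOf_dvd_natCard (a ^ m))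
        rw [hee]
        rcases Nat.lt_or_ge e 3 with h' | h'
        · exact absurd (hee ▸ show 2 ^ e ∣ 2 ^ 2 from pow_dvd_pow 2 (by omega)) h8
        · exact show 2 ^ 2 ∣ 2 ^ e from pow_dvd_pow 2 (by omega)
      have hpos : 0 < orderOf (a ^ m) := orderOf_pos _
      have := mem_zpowers_of_order_eq (zpow_mem_zpowers a i)
        (pow_mem (zpow_mem_zpowers a m) e) (b := (a ^ m) ^ e) (hi4.trans (by
          rw [orderOf_pow_of_dvd (by omega) ⟨4, by rw [he]; ring⟩, he,
            Nat.mul_div_cancel _ (by omega)]))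
      obtain ⟨l, hl⟩ := this
      exact hl ▸ zpow_mem (pow_mem (mem_zpowers _) e) l
    obtain ⟨l, hl⟩ := hmem
    apply him
    simp only at hl
    rw [← hl, map_zpow, (h1.zpow_right l).eq, mul_inv_cancel_right]
  have hn : n = 3 := by
    by_contra hn
    refine hfour 2 (ha2 2 dvd_rfl) fun hd => ?_
    rw [zpow_ofNat, orderOf_pow' _ two_ne_zero, h.qd.order,
      Nat.gcd_eq_right (dvd_pow_self 2 (by omega : n ≠ 0))] at hd
    conv at hd => lhs; rw [show n = n - 1 + 1 by omega, pow_succ, Nat.mul_div_cancel _ two_pos]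
    have := (Nat.pow_dvd_pow_iff_le_right one_lt_two).1 (hd.trans (show 4 ∣ 2 ^ 2 by norm_num))
    omega
  refine ⟨hn, by simpa using ha2 2 dvd_rfl, ?_, fun ha => ?_⟩
  · have e : a * b = a ^ (1 - j) * (a ^ j * b) := by
      rw [← mul_assoc, ← zpow_add, sub_add_cancel, zpow_one]
    rw [e, map_mul]
    exact mul_mem (ha2 _ (by omega)) htP
  · refine hfour 1 (by rwa [zpow_one]) ?_
    rw [zpow_one, h.qd.order, hn]
    norm_num

theorem n_eq : n = 3 := h.core_shape.1

theorem mem_core_iff (s : S) :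
    ι s ∈ pCore 2 Q ↔
      (∃ i : ℤ, 2 ∣ i ∧ a ^ i = s) ∨ (∃ i : ℤ, ¬ 2 ∣ i ∧ a ^ i * b = s) := by
  obtain ⟨-, h2, hab, ha⟩ := h.core_shape
  have heven : ∀ i : ℤ, 2 ∣ i → ι (a ^ i) ∈ pCore 2 Q := by
    rintro i ⟨l, rfl⟩
    rw [zpow_mul, map_zpow, zpow_ofNat]
    exact zpow_mem h2 l
  have hout : ∀ i : ℤ, ¬ 2 ∣ i → ι (a ^ i * b) ∈ pCore 2 Q := fun i hi => by
    rw [show a ^ i * b = a ^ (i - 1) * (a * b) by
      rw [← mul_assoc]; congr 1; rw [← zpow_add_one, sub_add_cancel], map_mul]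
    exact mul_mem (heven _ (by omega)) hab
  have hodd : ∀ i : ℤ, ¬ 2 ∣ i → ι (a ^ i) ∉ pCore 2 Q := fun i hi hm => ha (by
    have := mul_mem (heven (1 - i) (by omega)) hm
    rwa [← map_mul, ← zpow_add, sub_add_cancel, zpow_one] at this)
  constructor
  · intro hs
    rcases h.qd.exists_eq s with ⟨i, rfl⟩ | ⟨i, rfl⟩
    · by_cases hi : (2 : ℤ) ∣ i
      · exact Or.inl ⟨i, hi, rfl⟩
      · exact absurd hs (hodd i hi)
    · by_cases hi : (2 : ℤ) ∣ i
      · exfalso
        refine hodd (i + -1) (by omega) ?_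
        have := mul_mem hs (inv_mem hab)
        rwa [← map_inv, ← map_mul, show a ^ i * b * (a * b)⁻¹ = a ^ (i + -1) by
          rw [zpow_add, zpow_neg_one]; group] at this
      · exact Or.inr ⟨i, hi, rfl⟩
  · rintro (⟨i, hi, rfl⟩ | ⟨i, hi, rfl⟩)
    exacts [heven i hi, hout i hi]

theorem zpow_eq_pow (i : ℤ) : ∃ k < 8, a ^ i = a ^ k := by
  refine ⟨(i % 8).toNat, by omega, ?_⟩
  rw [← zpow_natCast, h.qd.zpow_eq, h.n_eq]
  norm_num
  omega

/-- A nontrivial element of the core that is not the central involution has order four. -/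
theorem core_cases {x : Q} (hx : x ∈ pCore 2 Q) (h1 : x ≠ 1)
    (hz : x ≠ ι (a ^ (2 ^ (n - 1)))) :
    x ∈ ({ι (a ^ 2), ι (a ^ 6), ι (a * b), ι (a ^ 3 * b), ι (a ^ 5 * b), ι (a ^ 7 * b)} : Set Q) := by
  obtain ⟨s, rfl⟩ := h.core_le hx
  rcases (h.mem_core_iff s).1 hx with ⟨i, hi, rfl⟩ | ⟨i, hi, rfl⟩ <;>
    obtain ⟨k, hk, e⟩ := h.zpow_eq_pow i <;> rw [e] at hx h1 hz ⊢ <;>
    have h2 := (h.qd.zpow_eq i (k : ℤ)).1 (e.trans (zpow_natCast a k).symm) <;>
    rw [h.n_eq] at h2 <;> norm_num at h2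
  · have hk2 : k % 2 = 0 := by omega
    obtain rfl | rfl | rfl | rfl : k = 0 ∨ k = 2 ∨ k = 4 ∨ k = 6 := by omega
    · exact absurd (by rw [pow_zero, map_one]) h1
    · simp
    · exact absurd (by rw [h.n_eq]; norm_num) hz
    · simp
  · have hk2 : k % 2 = 1 := by omega
    obtain rfl | rfl | rfl | rfl : k = 1 ∨ k = 3 ∨ k = 5 ∨ k = 7 := by omega
    all_goals simp

/-- The six elements of order four of the core. -/
theorem card_six_le :
    Nat.card ({ι (a ^ 2), ι (a ^ 6), ι (a * b), ι (a ^ 3 * b), ι (a ^ 5 * b), ι (a ^ 7 * b)} : Set Q) ≤ 6 := by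
  classical
  rw [Nat.card_coe_set_eq]
  simp only [← Finset.coe_singleton, ← Finset.coe_insert, Set.ncard_coe_finset]
  exact Finset.card_le_six

theorem centralizer_pair_le :
    Nat.card ↥(centralizer ({ι (a ^ 2)} : Set Q) ⊓ centralizer ({ι (a * b)} : Set Q)) ≤ 2 := by
  classical
  obtain ⟨-, h2, hab, -⟩ := h.core_shape
  set D := centralizer ({ι (a ^ 2)} : Set Q) ⊓ centralizer ({ι (a * b)} : Set Q)
  have hD : (D : Set Q) ⊆ {1, ι (a ^ 4)} := by
    intro x hx
    obtain ⟨hx1, hx2⟩ := mem_inf.1 hx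
    rw [mem_centralizer_singleton_iff] at hx1 hx2
    have hC : x ∈ centralizer (pCore 2 Q : Set Q) := mem_centralizer_iff.2 fun y hy => by
      obtain ⟨s, rfl⟩ := h.core_le hy
      have hp : ∀ i : ℤ, 2 ∣ i → Commute x (ι (a ^ i)) := by
        rintro i ⟨l, rfl⟩
        rw [zpow_mul, map_zpow, zpow_ofNat]
        exact Commute.zpow_right hx1 l
      rcases (h.mem_core_iff s).1 hy with ⟨i, hi, rfl⟩ | ⟨i, hi, rfl⟩
      · exact (hp i hi).eq.symm
      · rw [show a ^ i * b = a ^ (i - 1) * (a * b) by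
          rw [← mul_assoc]; congr 1; rw [← zpow_add_one, sub_add_cancel], map_mul]
        exact ((hp (i - 1) (by omega)).mul_right hx2).eq.symm
    have hxP := h.centralizer_core hC
    obtain ⟨s, rfl⟩ := h.core_le hxP
    have e1 : a * b = a ^ (1 : ℤ) * b := by rw [zpow_one]
    rcases (h.mem_core_iff s).1 hxP with ⟨i, hi, rfl⟩ | ⟨i, hi, rfl⟩
    · have hc : Commute (a ^ i) (a ^ (1 : ℤ) * b) :=
        h.inj (by rw [← e1, map_mul, map_mul]; simpa only [map_mul] using hx2)
      have h4 := (h.qd.commute_zpow_zpow_mul i 1).1 hc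
      rw [h.n_eq] at h4
      norm_num at h4
      obtain ⟨k, hk, e⟩ := h.zpow_eq_pow i
      have h2' := (h.qd.zpow_eq i (k : ℤ)).1 (e.trans (zpow_natCast a k).symm)
      rw [h.n_eq] at h2'
      norm_num at h2'
      rw [e]
      obtain rfl | rfl : k = 0 ∨ k = 4 := by omega
      · simp
      · simp
    · exfalso
      have hc : Commute (a ^ (2 : ℤ)) (a ^ i * b) :=
        h.inj (by rw [zpow_ofNat]; simpa only [map_mul] using hx1.symm)
      have h4 := (h.qd.commute_zpow_zpow_mul 2 i).1 hc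
      rw [h.n_eq] at h4
      norm_num at h4
  calc Nat.card D ≤ Nat.card ({1, ι (a ^ 4)} : Set Q) := by
        exact Nat.card_mono (Set.toFinite _) hD
    _ ≤ 2 := by
        rw [Nat.card_coe_set_eq]
        exact (Set.ncard_insert_le _ _).trans (by simp)

/-- The centralizer of the element of order four in the cyclic part. -/
theorem centralizer_sq_le : Nat.card (centralizer ({ι (a ^ 2)} : Set Q)) ≤ 8 := by
  classical
  obtain ⟨-, h2, hab, -⟩ := h.core_shape
  set D := centralizer ({ι (a ^ 2)} : Set Q)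
  rw [← card_orbit_mul D (ι (a * b))]
  refine (Nat.mul_le_mul ?_ h.centralizer_pair_le).trans (by norm_num : 4 * 2 ≤ 8)
  let T : Finset Q := {ι (a * b), ι (a ^ 3 * b), ι (a ^ 5 * b), ι (a ^ 7 * b)}
  have hT : ∀ x : {x : Q // ∃ g ∈ D, g * ι (a * b) * g⁻¹ = x}, x.1 ∈ T := by
    rintro ⟨_, g, hg, rfl⟩
    have hne : ∀ i : ℤ, g * ι (a * b) * g⁻¹ ≠ ι ((a ^ 2) ^ i) := by
      intro i e
      have hgc : Commute g (ι ((a ^ 2) ^ i)) := by
        rw [map_zpow]; exact Commute.zpow_right (mem_centralizer_singleton_iff.1 hg) i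
      rw [← mul_inv_eq_iff_eq_mul.2 hgc.eq] at e
      have e' := h.inj (mul_left_cancel (mul_right_cancel e))
      exact h.qd.zpow_mul_notMem 1 (by
        rw [zpow_one, e']
        exact zpow_mem (Subgroup.npow_mem_zpowers a 2) i)
    have := h.core_cases (h.conj_mem_core g hab) (by simpa using hne 0)
      (by rw [show a ^ (2 ^ (n - 1)) = (a ^ 2) ^ (2 : ℤ) by
            rw [h.n_eq, zpow_ofNat, ← pow_mul]; norm_num]
          exact hne 2)
    simp only [Set.mem_insert_iff, Set.mem_singleton_iff] at this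
    rcases this with e | e | e | e | e | e
    · exact absurd (e.trans (by simp)) (hne 1)
    · exact absurd (e.trans (by rw [zpow_ofNat, ← pow_mul])) (hne 3)
    all_goals simp only [T, Finset.mem_insert, Finset.mem_singleton, e, true_or, or_true]
  calc Nat.card {x : Q // ∃ g ∈ D, g * ι (a * b) * g⁻¹ = x}
      ≤ Nat.card T := Nat.card_le_card_of_injective (fun x => (⟨x.1, hT x⟩ : T))
          fun x y e => Subtype.ext (congrArg Subtype.val e :)
    _ ≤ 4 := by
        rw [Nat.card_eq_fintype_card, Fintype.card_coe]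
        exact Finset.card_le_four

theorem z_ne_sq : ι (a ^ 2) ≠ 1 ∧ ι (a ^ 2) ≠ ι (a ^ (2 ^ (n - 1))) := by
  have key : ∀ k l : ℕ, k < 8 → l < 8 → ι (a ^ k) = ι (a ^ l) → k = l := fun k l hk hl e => by
    refine pow_injOn_Iio_orderOf ?_ ?_ (h.inj e) <;> simpa [h.qd.order, h.n_eq]
  refine ⟨fun e => ?_, fun e => ?_⟩
  · exact absurd (key 2 0 (by norm_num) (by norm_num) (by simpa using e)) (by norm_num)
  · rw [h.n_eq] at e
    exact absurd (key 2 4 (by norm_num) (by norm_num) e) (by norm_num)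

theorem conj_sq_mem (g : Q) : g * ι (a ^ 2) * g⁻¹ ∈
    ({ι (a ^ 2), ι (a ^ 6), ι (a * b), ι (a ^ 3 * b), ι (a ^ 5 * b), ι (a ^ 7 * b)} : Set Q) := by
  obtain ⟨-, h2, -, -⟩ := h.core_shape
  refine h.core_cases (h.conj_mem_core g h2) (by simpa using h.z_ne_sq.1) fun e => h.z_ne_sq.2 ?_
  rw [← mul_inv_eq_iff_eq_mul.2 (mem_center_iff.1 h.central g)] at e
  exact mul_left_cancel (mul_right_cancel e)

/-- The order of the group is 48 and the six elements of order four are conjugate. -/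
theorem card_eq : Nat.card Q = 48 ∧ ∀ x ∈ pCore 2 Q, x ≠ 1 → x ≠ ι (a ^ (2 ^ (n - 1))) →
    IsConj (ι (a ^ 2)) x := by
  classical
  haveI : Fact (Nat.Prime 2) := ⟨Nat.prime_two⟩
  set T : Set Q :=
    {ι (a ^ 2), ι (a ^ 6), ι (a * b), ι (a ^ 3 * b), ι (a ^ 5 * b), ι (a ^ 7 * b)} with hT
  set O := {x : Q // ∃ g ∈ (⊤ : Subgroup Q), g * ι (a ^ 2) * g⁻¹ = x}
  let f : O → T := fun x => ⟨x.1, by obtain ⟨g, -, hg⟩ := x.2; rw [← hg]; exact h.conj_sq_mem g⟩
  have hf : Function.Injective f := fun x y e => Subtype.ext (congrArg Subtype.val e :)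
  have hT6 : Nat.card T ≤ 6 := h.card_six_le
  have hOT : Nat.card O ≤ Nat.card T := Nat.card_le_card_of_injective f hf
  have hmul := card_orbit_mul (⊤ : Subgroup Q) (ι (a ^ 2))
  rw [top_inf_eq, Subgroup.card_top] at hmul
  set k := Nat.card (centralizer ({ι (a ^ 2)} : Set Q))
  have hk : k ≤ 8 := h.centralizer_sq_le
  have hdvd : Nat.card Q = ι.range.index * 16 := by
    rw [← ι.range.index_mul_card, h.card_range, h.n_eq]; norm_num
  have hne1 : ι.range.index ≠ 1 := fun e => by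
    obtain ⟨c, hc, hcn⟩ := h.exists_odd
    have h16 : orderOf c ∣ 2 ^ 4 := by
      have := _root_.orderOf_dvd_natCard c
      rw [hdvd, e, one_mul] at this
      exact this
    have := Nat.eq_one_of_dvd_coprimes (hc.coprime_two_right.pow_right 4) dvd_rfl h16
    exact hcn (by rw [orderOf_eq_one_iff.1 this]; exact one_mem _)
  have hidx := h.index
  have h48 : Nat.card Q = 48 := by
    have : Nat.card Q ≤ 48 := hmul ▸ Nat.mul_le_mul (hOT.trans hT6) hk
    have hpos : 0 < ι.range.index := Nat.pos_of_ne_zero index_ne_zero_of_finite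
    omega
  refine ⟨h48, fun x hx h1 hz => ?_⟩
  have hO6 : Nat.card O = Nat.card T := by
    refine le_antisymm hOT ?_
    by_contra hlt
    have : Nat.card Q < 48 := by
      rw [← hmul]
      calc Nat.card O * k ≤ 5 * 8 := Nat.mul_le_mul (by omega) hk
        _ < 48 := by norm_num
    omega
  obtain ⟨y, hy⟩ := ((Nat.bijective_iff_injective_and_card f).2 ⟨hf, hO6⟩).2 ⟨x, h.core_cases hx h1 hz⟩
  obtain ⟨g, -, hg⟩ := y.2
  exact isConj_iff.2 ⟨g, hg.trans (congrArg Subtype.val hy)⟩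

theorem card_core : Nat.card (pCore 2 Q) = 8 ∧ pCore 2 Q < ι.range := by
  haveI : Fact (Nat.Prime 2) := ⟨Nat.prime_two⟩
  obtain ⟨hn, h2, hab, ha⟩ := h.core_shape
  have hlt : pCore 2 Q < ι.range := lt_of_le_of_ne h.core_le fun e => ha (e ▸ ⟨a, rfl⟩)
  refine ⟨?_, hlt⟩
  obtain ⟨k, hk, hkk⟩ := (Nat.dvd_prime_pow Nat.prime_two).1
    (h.card_range ▸ card_dvd_of_le h.core_le)
  have hlt' : Nat.card (pCore 2 Q) < Nat.card ι.range := by
    by_contra hge
    exact hlt.ne (Subgroup.eq_of_le_of_card_ge h.core_le (by omega))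
  have hge : 4 < Nat.card (pCore 2 Q) := by
    have hsub : zpowers (ι (a ^ 2)) < pCore 2 Q := by
      refine lt_of_le_of_ne (zpowers_le.2 h2) fun e => ?_
      obtain ⟨i, hi⟩ := (e ▸ hab : ι (a * b) ∈ zpowers (ι (a ^ 2)))
      simp only [← map_zpow] at hi
      exact h.qd.zpow_mul_notMem 1 (by
        rw [zpow_one, ← h.inj hi]
        exact zpow_mem (Subgroup.npow_mem_zpowers a 2) i)
    have h4 : Nat.card (zpowers (ι (a ^ 2))) = 4 := by
      rw [Nat.card_zpowers, h.orderOf_eq, orderOf_pow' _ two_ne_zero, h.qd.order, hn]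
      norm_num
    by_contra hle
    exact hsub.ne (Subgroup.eq_of_le_of_card_ge hsub.le (by omega))
  rw [h.card_range, hn] at hlt'
  rw [hkk] at hlt' hge ⊢
  have : k < 4 := (Nat.pow_lt_pow_iff_right one_lt_two).1 hlt'
  interval_cases k <;> simp_all

/-- The 2-elements centralizing an element of order three. -/
theorem eq_one_or_z {φ t : Q} (hφ : orderOf φ = 3) {k : ℕ} (ht : t ^ (2 ^ k) = 1)
    (hc : t * φ = φ * t) : t = 1 ∨ t = ι (a ^ (2 ^ (n - 1))) := by
  haveI : Fact (Nat.Prime 2) := ⟨Nat.prime_two⟩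
  haveI := h.core_normal
  obtain ⟨h48, hconj⟩ := h.card_eq
  by_cases htP : t ∈ pCore 2 Q
  · by_contra hcon
    push_neg at hcon
    obtain ⟨g, hg⟩ := isConj_iff.1 (hconj t htP hcon.1 hcon.2)
    have h8 : Nat.card (centralizer ({ι (a ^ 2)} : Set Q)) = 8 := by
      have hle := h.centralizer_sq_le
      have hd : zpowers (ι a) ≤ centralizer ({ι (a ^ 2)} : Set Q) := zpowers_le.2
        (mem_centralizer_singleton_iff.2 (by rw [map_pow]; exact (Commute.self_pow _ _).eq))
      have := Subgroup.card_le_of_le hd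
      rw [Nat.card_zpowers, h.orderOf_eq, h.qd.order, h.n_eq] at this
      omega
    have hm : g⁻¹ * φ * g ∈ centralizer ({ι (a ^ 2)} : Set Q) := by
      rw [mem_centralizer_singleton_iff]
      calc g⁻¹ * φ * g * ι (a ^ 2) = g⁻¹ * (φ * (g * ι (a ^ 2) * g⁻¹)) * g := by group
        _ = g⁻¹ * ((g * ι (a ^ 2) * g⁻¹) * φ) * g := by rw [hg, hc]
        _ = _ := by group
    have := Subgroup.orderOf_dvd_natCard _ hm
    rw [h8, show g⁻¹ * φ * g = MulAut.conj g⁻¹ φ by simp, MulEquiv.orderOf_eq, hφ] at this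
    norm_num at this
  · exfalso
    obtain ⟨hP8, -⟩ := h.card_core
    set T := zpowers t ⊔ pCore 2 Q with hTdef
    have hT : IsPGroup 2 T :=
      (isPGroup_zpowers_of_pow ht).to_sup_of_normal_right' Cores.pCore_isPGroup
        (by rw [normalizer_eq_top]; exact le_top)
    have hPT : pCore 2 Q < T := lt_of_le_of_ne le_sup_right fun e =>
      htP (e ▸ mem_sup_left (mem_zpowers t))
    have hTn : T.Normal := by
      rw [← normalizer_eq_top_iff]
      have hφN : φ ∈ normalizer (T : Set Q) := by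
        rw [← TwoFusion.map_conj_eq_self_iff_mem_normalizer]
        refine Subgroup.eq_of_le_of_card_ge ?_ (TwoFusion.card_map_conj _ _).ge
        rw [hTdef, Subgroup.map_sup, MonoidHom.map_zpowers]
        refine sup_le_sup (zpowers_le.2 ?_) ?_
        · simp [← hc]
        · rintro _ ⟨x, hx, rfl⟩
          exact h.conj_mem_core φ hx
      refine eq_top_of_card_eq _ (Nat.dvd_antisymm (card_subgroup_dvd_card _) ?_)
      rw [h48, show (48 : ℕ) = 16 * 3 by norm_num]
      refine Nat.Coprime.mul_dvd_of_dvd_of_dvd (by norm_num) ?_ ?_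
      · refine dvd_trans ?_ (card_dvd_of_le le_normalizer)
        obtain ⟨j, hj⟩ := IsPGroup.iff_card.1 hT
        have hlt : 8 < Nat.card T := by
          by_contra hle
          exact hPT.ne (Subgroup.eq_of_le_of_card_ge hPT.le (by omega))
        have hd : 2 ^ j ∣ 48 := h48 ▸ hj ▸ card_subgroup_dvd_card T
        rw [hj] at hlt ⊢
        rw [show (16 : ℕ) = 2 ^ 4 by norm_num]
        refine pow_dvd_pow 2 ?_
        by_contra hj4
        interval_cases j <;> simp_all
      · exact hφ ▸ Subgroup.orderOf_dvd_natCard _ hφN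
    exact hPT.not_ge (Cores.le_pCore hTn hT)

/-- An element inverting an element of order three is outside the core. -/
theorem notMem_core_of_inverts {φ v : Q} (hφ : orderOf φ = 3) (hv : v * φ * v⁻¹ = φ⁻¹) :
    v ∉ pCore 2 Q := fun hvP => by
  have h1 : v * φ * v⁻¹ * φ⁻¹ ∈ pCore 2 Q := by
    rw [show v * φ * v⁻¹ * φ⁻¹ = v * (φ * v⁻¹ * φ⁻¹) by group]
    exact mul_mem hvP (h.conj_mem_core φ (inv_mem hvP))
  have h2 := Subgroup.orderOf_dvd_natCard _ h1
  rw [hv, h.card_core.1, ← pow_two, inv_pow, orderOf_inv, orderOf_pow' _ two_ne_zero, hφ] at h2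
  norm_num at h2

/-- Elements of small order outside the core are involutions. -/
theorem sq_of_notMem_core {s : S} (hs : ι s ∉ pCore 2 Q) (h4 : s ^ 4 = 1) : s * s = 1 := by
  rcases h.qd.exists_eq s with ⟨i, rfl⟩ | ⟨i, rfl⟩
  · exfalso
    apply hs
    rw [← zpow_natCast, ← zpow_mul, h.qd.zpow_eq_one, h.n_eq] at h4
    norm_num at h4
    exact (h.mem_core_iff _).2 (Or.inl ⟨i, by omega, rfl⟩)
  · refine (h.qd.zpow_mul_y_sq_eq_one_iff i).2 ?_
    by_contra hi
    exact hs ((h.mem_core_iff _).2 (Or.inr ⟨i, hi, rfl⟩))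

end QuotHyp

end Cfsg.Agent.GW.SD
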