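import Cfsg.Agent.GW.SD.Basic
import Cfsg.Agent.FGSev.CyclicSylow
import Mathlib.Analysis.Complex.Basic

/-!
The exceptional character of the centralizer of `a²`, and the resulting criterion for a
contradiction.
-/

set_option autoImplicit false
set_option linter.unusedSectionVars false
set_option linter.style.haveILetI false

open Cfsg

namespace Cfsg.Agent.GW.SD

open Subgroup TwoGroups TwoFusion

universe u

variable {G : Type u} [Group G] [Finite G]

/-- The orbit of an element under conjugation by a subgroup. -/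
theorem card_orbit_mul (H : Subgroup G) (s : G) :
    Nat.card {x : G // ∃ h ∈ H, h * s * h⁻¹ = x} * Nat.card ↥(H ⊓ centralizer ({s} : Set G)) =
      Nat.card H := by
  set K := (centralizer ({s} : Set G)).subgroupOf H
  have hK : Nat.card K = Nat.card ↥(H ⊓ centralizer ({s} : Set G)) := by
    rw [← card_map_of_injective H.subtype_injective, subgroupOf_map_subtype, inf_comm]
  have hmem : ∀ x y : H, x⁻¹ * y ∈ K ↔ (x : G) * s * (x : G)⁻¹ = (y : G) * s * (y : G)⁻¹ := by
    intro x y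
    simp only [K, mem_subgroupOf, coe_mul, coe_inv, mem_centralizer_singleton_iff]
    constructor
    · intro e
      calc (x : G) * s * (x : G)⁻¹
          = (x : G) * (s * ((x : G)⁻¹ * y)) * ((x : G)⁻¹ * y)⁻¹ * (x : G)⁻¹ := by group
        _ = (x : G) * ((x : G)⁻¹ * y * s) * ((x : G)⁻¹ * y)⁻¹ * (x : G)⁻¹ := by rw [e]
        _ = _ := by group
    · intro e
      calc (x : G)⁻¹ * y * s = (x : G)⁻¹ * ((y : G) * s * (y : G)⁻¹) * y := by group
        _ = (x : G)⁻¹ * ((x : G) * s * (x : G)⁻¹) * y := by rw [e]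
        _ = _ := by group
  rw [← hK, ← K.index_mul_card, Subgroup.index]
  congr 1
  refine Nat.card_congr (Equiv.ofBijective
    (fun q : H ⧸ K => (⟨(q.out : G) * s * (q.out : G)⁻¹, q.out, q.out.2, rfl⟩ :
      {x : G // ∃ h ∈ H, h * s * h⁻¹ = x})) ⟨?_, ?_⟩).symm
  · intro q q' e
    have := (hmem _ _).2 (congrArg Subtype.val e)
    rw [← QuotientGroup.eq, QuotientGroup.out_eq', QuotientGroup.out_eq'] at this
    exact this
  · rintro ⟨x, g, hg, rfl⟩
    refine ⟨((⟨g, hg⟩ : H) : H ⧸ K), Subtype.ext ?_⟩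
    exact (hmem (((⟨g, hg⟩ : H) : H ⧸ K)).out ⟨g, hg⟩).1
      (by rw [← QuotientGroup.eq, QuotientGroup.out_eq'])

/-- Lower bound for the number of involutions from one class. -/
theorem Key.card_le_invs {H M : Subgroup G} {lam : H →* ℂˣ} {u w : G} (k : Key H M lam u w) :
    Nat.card H ≤ Nat.card (Invs H M) * Nat.card ↥(H ⊓ centralizer ({w} : Set G)) := by
  rw [← card_orbit_mul H w]
  refine Nat.mul_le_mul_right _ (Nat.card_le_card_of_injective
    (fun x => (⟨x.1, ?_, ?_, ?_⟩ : Invs H M)) fun x y e => Subtype.ext (congrArg Subtype.val e :))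
  · obtain ⟨g, hg, e⟩ := x.2
    exact e ▸ mul_mem (mul_mem (k.le hg) k.w_mem) (inv_mem (k.le hg))
  · obtain ⟨g, hg, e⟩ := x.2
    rw [← e]
    intro hc
    exact k.w_out (by simpa [mul_assoc] using mul_mem (mul_mem (inv_mem hg) hc) hg)
  · obtain ⟨g, hg, e⟩ := x.2
    rw [← e, conj_mul, k.ww]; group

namespace Hyp

variable {S : Sylow 2 G} {n : ℕ} {a b : (S : Subgroup G)} (h : Hyp S n a b)
include h

/-- A 2-group centralizing `a²` and containing `a` lies in `⟨a⟩`. -/
theorem two_group_le {R : Subgroup G} (hR : IsPGroup 2 R) (haR : (a : G) ∈ R)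
    (hle : R ≤ centralizer ({(a : G) ^ 2} : Set G)) : R ≤ zpowers (a : G) := by
  have h3 := h.qd.three_le
  obtain ⟨g, hg⟩ := exists_conj_le_sylow S hR
  set a' : (S : Subgroup G) := ⟨g * a * g⁻¹, hg _ haR⟩ with ha'
  have ho : orderOf a' = 2 ^ n := by
    rw [ha', orderOf_mk, ← MulAut.conj_apply, MulEquiv.orderOf_eq, h.orderOf_a]
  have ha'A : a' ∈ zpowers a := by
    by_contra hn
    obtain ⟨i, hi⟩ := h.qd.exists_eq_of_notMem hn
    have h4 : orderOf a' ∣ 4 := by
      rw [hi]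
      by_cases h2 : 2 ∣ i
      · rw [h.qd.orderOf_zpow_mul_y_of_even h2]; norm_num
      · rw [h.qd.orderOf_zpow_mul_y_of_odd h2]
    rw [ho, show (4 : ℕ) = 2 ^ 2 by norm_num] at h4
    have := (Nat.pow_dvd_pow_iff_le_right one_lt_two).1 h4
    omega
  have hgen : zpowers a' = zpowers a :=
    Subgroup.eq_of_le_of_card_ge (zpowers_le.2 ha'A) (by rw [Nat.card_zpowers, Nat.card_zpowers, ho, h.qd.order])
  intro y hy
  set y' : (S : Subgroup G) := ⟨g * y * g⁻¹, hg _ hy⟩ with hy'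
  have hy'A : y' ∈ zpowers a := by
    by_contra hn
    obtain ⟨i, hi⟩ := h.qd.exists_eq_of_notMem hn
    obtain ⟨j, hj⟩ := hgen ▸ (ha'A : a' ∈ zpowers a)
    obtain ⟨k, hk⟩ := ha'A
    simp only at hk
    have hc : Commute (a ^ (k * 2)) (a ^ i * b) := by
      rw [← hi, zpow_mul, hk]
      show a' ^ (2 : ℤ) * y' = y' * a' ^ (2 : ℤ)
      refine Subtype.ext ?_
      simp only [ha', hy', coe_mul, zpow_two]
      rw [conj_mul, conj_mul, conj_mul, ← pow_two,
        ← mem_centralizer_singleton_iff.1 (hle hy)]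
    have h2 := (h.qd.commute_zpow_zpow_mul (k * 2) i).1 hc
    have hodd : ¬ (2 : ℤ) ∣ k := by
      rintro ⟨c, rfl⟩
      have : a' ^ (2 ^ (n - 1) : ℤ) = 1 := by
        rw [← hk, ← zpow_mul, h.qd.zpow_eq_one]
        exact ⟨c, by
          rw [show (2 : ℤ) ^ n = 2 ^ (n - 1) * 2 by rw [← pow_succ, show n - 1 + 1 = n by omega]]
          ring⟩
      rw [show (2 ^ (n - 1) : ℤ) = ((2 ^ (n - 1) : ℕ) : ℤ) by push_cast; rfl, zpow_natCast] at this
      have := orderOf_dvd_of_pow_eq_one this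
      rw [ho, Nat.pow_dvd_pow_iff_le_right one_lt_two] at this
      omega
    rw [show (2 : ℤ) ^ (n - 1) = 2 ^ (n - 2) * 2 by rw [← pow_succ, show n - 2 + 1 = n - 1 by omega],
      mul_dvd_mul_iff_right two_ne_zero] at h2
    exact hodd ((dvd_pow_self 2 (by omega : n - 2 ≠ 0)).trans h2)
  rw [← hgen] at hy'A
  obtain ⟨j, hj⟩ := hy'A
  have := congrArg Subtype.val hj
  simp only [ha', hy', SubgroupClass.coe_zpow, conj_zpow] at this
  exact ⟨j, mul_left_cancel (mul_right_cancel this)⟩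

/-- The configuration attached to `a²`. -/
theorem exists_key_four :
    ∃ (M : Subgroup G) (lam : centralizer ({(a : G) ^ 2} : Set G) →* ℂˣ),
      Key (centralizer ({(a : G) ^ 2} : Set G)) M lam ((a : G) ^ 2) (b : G) ∧
      Nat.card (Invs (centralizer ({(a : G) ^ 2} : Set G)) M) *
          Nat.card ↥(centralizer ({(a : G) ^ 2} : Set G) ⊓ centralizer ({(b : G)} : Set G)) ≤
        Nat.card (centralizer ({(a : G) ^ 2} : Set G)) := by
  classical
  haveI : Fact (Nat.Prime 2) := ⟨Nat.prime_two⟩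
  have h3 := h.qd.three_le
  set H := centralizer ({(a : G) ^ 2} : Set G) with hH
  have haH : (a : G) ∈ H := mem_centralizer_singleton_iff.2 (Commute.self_pow (a : G) 2)
  have hzH : MC.zG n a ∈ H := mem_centralizer_singleton_iff.2
    (h.z_comm (pow_mem a.2 2))
  -- the Sylow 2-subgroup
  have hp : IsPGroup 2 ((zpowers (a : G)).subgroupOf H) :=
    (IsPGroup.of_card (G := zpowers (a : G)) (n := n) (by rw [Nat.card_zpowers, h.orderOf_a])).comap_subtype
  obtain ⟨P, hP⟩ := hp.exists_le_sylow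
  have hPeq : (P : Subgroup H) = (zpowers (a : G)).subgroupOf H := by
    refine le_antisymm (fun y hy => mem_subgroupOf.2 (h.two_group_le (P.isPGroup'.map H.subtype)
      ⟨⟨(a : G), haH⟩, hP (mem_subgroupOf.2 (mem_zpowers _)), rfl⟩ ?_ ⟨y, hy, rfl⟩)) hP
    rintro _ ⟨y, -, rfl⟩
    exact y.2
  have hPc : IsCyclic (P : Subgroup H) := by
    rw [hPeq]
    exact isCyclic_of_surjective _ (subgroupOfEquivOfLe (zpowers_le.2 haH)).symm.surjective
  obtain ⟨R, N, hN, hRN⟩ := FGSev.hasNormalPComplement_of_cyclic_sylow_central P hPc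
    (x := ⟨MC.zG n a, hzH⟩) (by
      rw [hPeq, mem_subgroupOf]
      simp)
    (fun e => h.z_ne_one (congrArg Subtype.val e))
    (mem_center_iff.2 fun g => Subtype.ext (mem_centralizer_singleton_iff.1 (h.centralizer_sq_le g.2)))
  haveI := hN
  have hcardR : Nat.card (R : Subgroup H) = 2 ^ n := by
    rw [Nat.card_congr (Sylow.equiv R P).toEquiv, hPeq,
      Nat.card_congr (subgroupOfEquivOfLe (zpowers_le.2 haH)).toEquiv, Nat.card_zpowers, h.orderOf_a]
  have hQcard : Nat.card (H ⧸ N) = 2 ^ n := by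
    rw [← index_eq_card, hRN.symm.index_eq_card, hcardR]
  have hNo : Odd (Nat.card N) := by
    rw [Nat.odd_iff]
    have := R.not_dvd_index
    rw [hRN.index_eq_card] at this
    omega
  set a₀ : H := ⟨(a : G), haH⟩
  have hoa : orderOf (a₀ : H ⧸ N) = 2 ^ n := by
    refine Nat.dvd_antisymm (hQcard ▸ _root_.orderOf_dvd_natCard _) ?_
    have h1 : a₀ ^ orderOf (a₀ : H ⧸ N) ∈ N := by
      rw [← QuotientGroup.eq_one_iff, QuotientGroup.mk_pow, pow_orderOf_eq_one]
    have h2 : orderOf (a₀ ^ orderOf (a₀ : H ⧸ N)) = 1 := by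
      refine Nat.eq_one_of_dvd_coprimes (Nat.Coprime.pow_left n hNo.coprime_two_left) ?_
        (orderOf_mk _ h1 ▸ _root_.orderOf_dvd_natCard (⟨_, h1⟩ : N))
      rw [← h.orderOf_a, show orderOf (a : G) = orderOf a₀ from (orderOf_mk _ haH).symm]
      exact orderOf_pow_dvd _
    rw [← h.orderOf_a, show orderOf (a : G) = orderOf a₀ from (orderOf_mk _ haH).symm]
    exact orderOf_dvd_of_pow_eq_one (orderOf_eq_one_iff.1 h2)
  have hgen : ∀ x : H ⧸ N, x ∈ zpowers (a₀ : H ⧸ N) := fun x => by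
    rw [(Subgroup.card_eq_iff_eq_top _).1 ((Nat.card_zpowers _).trans (hoa.trans hQcard.symm))]
    exact mem_top x
  set ζ : ℂˣ := Units.mk0 Complex.I Complex.I_ne_zero
  have hζ : orderOf ζ ∣ orderOf (a₀ : H ⧸ N) := by
    rw [hoa]
    refine (orderOf_dvd_of_pow_eq_one (n := 4) (Units.ext ?_)).trans ?_
    · simp [ζ, Complex.I_pow_four]
    · rw [show (4 : ℕ) = 2 ^ 2 by norm_num]; exact pow_dvd_pow 2 (by omega)
  set lam : H →* ℂˣ := (monoidHomOfForallMemZpowers hgen hζ).comp (QuotientGroup.mk' N)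
  have hla : lam a₀ = ζ := monoidHomOfForallMemZpowers_apply_gen hgen hζ
  have hζsq : ζ * ζ ≠ 1 := fun e => by
    have := congrArg Units.val e
    simp [ζ] at this
    norm_num at this
  have hodd : ∀ x : H, Odd (orderOf x) → lam x = 1 := by
    intro x hx
    have h1 : (x : H ⧸ N) = 1 := orderOf_eq_one_iff.1 (Nat.eq_one_of_dvd_coprimes
      (Nat.Coprime.pow_left n hx.coprime_two_left) (hQcard ▸ _root_.orderOf_dvd_natCard _)
      (orderOf_map_dvd (QuotientGroup.mk' N) x))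
    show monoidHomOfForallMemZpowers hgen hζ (x : H ⧸ N) = 1
    rw [h1, map_one]
  -- the normalizer
  set M := normalizer ((zpowers ((a : G) ^ 2) : Subgroup G) : Set G) with hM
  have hnorm : ∀ g ∈ M, ∃ i : ℤ, g * (a : G) ^ 2 * g⁻¹ = ((a : G) ^ 2) ^ i := fun g hg => by
    obtain ⟨i, hi⟩ := Subgroup.mem_zpowers_iff.1
      ((Subgroup.mem_normalizer_iff.1 hg ((a : G) ^ 2)).1 (mem_zpowers _))
    exact ⟨i, hi.symm⟩
  have hti : ∀ g : G, g * (a : G) ^ 2 * g⁻¹ ∈ zpowers ((a : G) ^ 2) → g ∈ M := fun g hg => by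
    rw [hM, ← map_conj_eq_self_iff_mem_normalizer]
    refine Subgroup.eq_of_le_of_card_ge ?_ (TwoFusion.card_map_conj _ _).ge
    rw [MonoidHom.map_zpowers, zpowers_le]
    exact hg
  have hinvS : ∀ s : (S : Subgroup G), s ∉ zpowers a →
      (s : G) * (a : G) ^ 2 * (s : G)⁻¹ = ((a : G) ^ 2)⁻¹ := by
    intro s hs
    obtain ⟨i, rfl⟩ := h.qd.exists_eq_of_notMem hs
    have e : (a ^ i * b) * a ^ (2 : ℤ) * (a ^ i * b)⁻¹ = (a ^ (2 : ℤ))⁻¹ := by
      rw [h.qd.zpow_conj_zpow, ← zpow_neg, h.qd.zpow_eq]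
      rw [show ((2 : ℤ) ^ (n - 1) - 1) * 2 - -2 = (2 ^ (n - 1) - 1 + 1) * 2 by ring]
      exact h.qd.dvd_r_add_one_mul (dvd_refl 2)
    simpa [zpow_two, pow_two] using congrArg Subtype.val e
  have hSM : (S : Subgroup G) ≤ M := fun x hx => hti x (by
    by_cases hxa : (⟨x, hx⟩ : (S : Subgroup G)) ∈ zpowers a
    · obtain ⟨i, hi⟩ := hxa
      have : x = (a : G) ^ i := by simpa using (congrArg Subtype.val hi).symm
      rw [this, (Commute.zpow_self (a : G) i).pow_right 2 |>.eq, mul_inv_cancel_right]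
      exact mem_zpowers _
    · rw [hinvS ⟨x, hx⟩ hxa]; exact inv_mem (mem_zpowers _))
  have hbH : (b : G) ∉ H := fun e => by
    have h1 := hinvS b h.qd.notMem
    rw [mem_centralizer_singleton_iff.1 e, mul_inv_cancel_right] at h1
    have h2 := orderOf_dvd_of_pow_eq_one (n := 2) (x := (a : G) ^ 2)
      (by rw [pow_two]; nth_rw 1 [h1]; exact inv_mul_cancel _)
    rw [h.orderOf_a_sq] at h2
    have := Nat.le_of_dvd two_pos h2
    have : 2 ^ 2 ≤ 2 ^ (n - 1) := Nat.pow_le_pow_right two_pos (by omega)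
    omega
  have hinvM : ∀ g ∈ M, g ∉ H → g * (a : G) ^ 2 * g⁻¹ = ((a : G) ^ 2)⁻¹ := by
    intro g hg hgH
    set v := Element.pPart 2 g with hv
    set m := Element.pComplPart 2 g with hm
    have hvM : v ∈ M := zpowers_le.2 hg (Element.pPart_mem_zpowers 2 g)
    have hmM : m ∈ M := zpowers_le.2 hg (Element.pComplPart_mem_zpowers 2 g)
    have hmfix : m * (a : G) ^ 2 * m⁻¹ = (a : G) ^ 2 := by
      obtain ⟨i, hi⟩ := hnorm m hmM
      refine TwoFusion.odd_fix_cyclic n (Nat.coprime_two_right.1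
        (Element.coprime_orderOf_pComplPart Nat.prime_two g)) ?_ (hi ▸ zpow_mem (mem_zpowers _) i)
      rw [← pow_mul, mul_comm, pow_mul, ← h.orderOf_a, pow_orderOf_eq_one, one_pow]
    have hgv : g * (a : G) ^ 2 * g⁻¹ = v * (a : G) ^ 2 * v⁻¹ := by
      calc g * (a : G) ^ 2 * g⁻¹ = v * (m * (a : G) ^ 2 * m⁻¹) * v⁻¹ := by
            conv_lhs => rw [show g = v * m from (Element.pPart_mul_pComplPart 2 g).symm]
            group
        _ = _ := by rw [hmfix]
    obtain ⟨k, hk, hkS⟩ := exists_conj_le_sylow_of_le S hSM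
      (IsPGroup.of_card (G := zpowers v) (n := (orderOf g).factorization 2) (by
        rw [Nat.card_zpowers]; exact Element.orderOf_pPart_eq_pow Nat.prime_two g))
      (zpowers_le.2 hvM)
    set s : (S : Subgroup G) := ⟨k * v * k⁻¹, hkS v (mem_zpowers v)⟩ with hs
    obtain ⟨e, he⟩ := hnorm k hk
    have hsA : s ∉ zpowers a := by
      rintro ⟨i, hi⟩
      have hi' : (a : G) ^ i = k * v * k⁻¹ := by simpa [hs] using congrArg Subtype.val hi
      refine hgH (mem_centralizer_singleton_iff.2 (mul_inv_eq_iff_eq_mul.1 ?_))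
      rw [hgv]
      have hc : k * v * k⁻¹ * ((a : G) ^ 2) ^ e = ((a : G) ^ 2) ^ e * (k * v * k⁻¹) := by
        rw [← hi']; exact (((Commute.refl (a : G)).pow_right 2).zpow_zpow i e).eq
      rw [← he, conj_mul, conj_mul, mul_left_inj, mul_right_inj] at hc
      rw [hc, mul_inv_cancel_right]
    have h1 : k * v * k⁻¹ * ((a : G) ^ 2) ^ e * (k * v * k⁻¹)⁻¹ = (((a : G) ^ 2) ^ e)⁻¹ := by
      rw [← conj_zpow, hinvS s hsA, inv_zpow]
    rw [← he] at h1
    rw [hgv]
    calc v * (a : G) ^ 2 * v⁻¹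
        = k⁻¹ * (k * v * k⁻¹ * (k * (a : G) ^ 2 * k⁻¹) * (k * v * k⁻¹)⁻¹) * k := by group
      _ = ((a : G) ^ 2)⁻¹ := by rw [h1]; group
  have hHM : H ≤ M := fun g hg => hti g (by
    rw [mem_centralizer_singleton_iff.1 hg, mul_inv_cancel_right]; exact mem_zpowers _)
  have hnormH : ∀ g ∈ M, ∀ x ∈ H, g * x * g⁻¹ ∈ H := by
    intro g hg x hx
    obtain ⟨i, hi⟩ := hnorm g⁻¹ (inv_mem hg)
    rw [inv_inv] at hi
    refine mem_centralizer_singleton_iff.2 ?_
    have h1 : Commute x (g⁻¹ * (a : G) ^ 2 * g) := by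
      rw [hi]; exact Commute.zpow_right (mem_centralizer_singleton_iff.1 hx) i
    calc g * x * g⁻¹ * (a : G) ^ 2 = g * (x * (g⁻¹ * (a : G) ^ 2 * g)) * g⁻¹ := by group
      _ = g * ((g⁻¹ * (a : G) ^ 2 * g) * x) * g⁻¹ := by rw [h1.eq]
      _ = (a : G) ^ 2 * (g * x * g⁻¹) := by group
  have hbM : (b : G) ∈ M := hSM b.2
  have htwo : ∀ g ∈ M, g ∉ H → g * (b : G) ∈ H := by
    intro g hg hgH
    refine mem_centralizer_singleton_iff.2 (mul_inv_eq_iff_eq_mul.1 ?_)
    calc g * (b : G) * (a : G) ^ 2 * (g * (b : G))⁻¹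
        = g * ((b : G) * (a : G) ^ 2 * (b : G)⁻¹) * g⁻¹ := by group
      _ = (g * (a : G) ^ 2 * g⁻¹)⁻¹ := by rw [hinvS b h.qd.notMem]; group
      _ = _ := by rw [hinvM g hg hgH, inv_inv]
  refine ⟨M, lam, ⟨hHM, hnormH, mem_centralizer_singleton_iff.2 rfl,
    fun g hg => mem_centralizer_singleton_iff.1 hg, hbM, hbH, h.bb, htwo, ?_, ⟨a₀, ?_⟩, ?_, hti, ?_⟩, ?_⟩
  · -- inversion
    intro x hx
    let c : H →* H :=
      { toFun := fun y => ⟨(b : G) * y * (b : G)⁻¹, hnormH _ hbM y y.2⟩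
        map_one' := Subtype.ext (by simp)
        map_mul' := fun y y' => Subtype.ext (by simp [conj_mul]) }
    show lam (c x) = (lam x)⁻¹
    obtain ⟨i, hi⟩ := Subgroup.mem_zpowers_iff.1 (hgen (x : H ⧸ N))
    have hx1 : a₀ ^ (-i) * x ∈ N := by
      rw [← QuotientGroup.eq_one_iff, QuotientGroup.mk_mul, QuotientGroup.mk_zpow, ← hi, ← zpow_add,
        neg_add_cancel, zpow_zero]
    set m : H := a₀ ^ (-i) * x
    have hmo : Odd (orderOf m) :=
      hNo.of_dvd_nat (orderOf_mk m hx1 ▸ _root_.orderOf_dvd_natCard (⟨m, hx1⟩ : N))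
    have hca : lam (c a₀) = ζ⁻¹ := by
      have : c a₀ = a₀ ^ ((2 : ℤ) ^ (n - 1) - 1) := Subtype.ext (by
        simp only [c, MonoidHom.coe_mk, OneHom.coe_mk, SubgroupClass.coe_zpow]
        simpa [a₀] using congrArg Subtype.val h.qd.conj)
      rw [this, map_zpow, hla, zpow_sub_one]
      have : ζ ^ ((2 : ℤ) ^ (n - 1)) = 1 := by
        rw [← orderOf_dvd_iff_zpow_eq_one]
        have h4 : orderOf ζ ∣ 2 ^ (n - 1) := by
          refine (orderOf_dvd_of_pow_eq_one (n := 4) (Units.ext ?_)).trans ?_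
          · simp [ζ, Complex.I_pow_four]
          · rw [show (4 : ℕ) = 2 ^ 2 by norm_num]; exact pow_dvd_pow 2 (by omega)
        exact_mod_cast h4
      rw [this, one_mul]
    rw [show x = a₀ ^ i * m from by rw [← mul_assoc, ← zpow_add, add_neg_cancel, zpow_zero, one_mul],
      map_mul c, map_mul lam, map_mul lam, map_zpow c, map_zpow, map_zpow, hla, hca, hodd m hmo,
      hodd (c m) (hmo.of_dvd_nat (orderOf_map_dvd c m)), mul_one, mul_one, inv_zpow]
  · rw [hla]; exact hζsq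
  · -- detection
    intro x hx
    have hsplit := Element.pPart_mul_pComplPart 2 x
    set v := Element.pPart 2 x with hv
    have hlv : lam v ≠ 1 := fun e => hx (by
      rw [← hsplit, map_mul, e, hodd _ (Nat.coprime_two_right.1
        (Element.coprime_orderOf_pComplPart Nat.prime_two x)), one_mul])
    obtain ⟨Q, hQ⟩ := (IsPGroup.of_card (G := zpowers v) (n := (orderOf x).factorization 2)
      (by rw [Nat.card_zpowers]; exact Element.orderOf_pPart_eq_pow Nat.prime_two x)).exists_le_sylow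
    obtain ⟨g, hg⟩ := MulAction.exists_smul_eq H Q P
    have hgv : g * v * g⁻¹ ∈ (P : Subgroup H) := by
      rw [← hg, Sylow.coe_subgroup_smul]
      exact smul_mem_pointwise_smul _ (MulAut.conj g) _ (hQ (mem_zpowers v))
    rw [hPeq, mem_subgroupOf] at hgv
    obtain ⟨i, hi⟩ := Subgroup.mem_zpowers_iff.1 hgv
    have hgv' : g * v * g⁻¹ = a₀ ^ i := Subtype.ext (by simpa [a₀] using hi.symm)
    have hlam : lam v = ζ ^ i := by
      rw [← hla, ← map_zpow, ← hgv', map_mul, map_mul, map_inv, mul_inv_cancel_comm]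
    have h4 : ¬ (4 : ℤ) ∣ i := by
      rintro ⟨c, rfl⟩
      apply hlv
      rw [hlam, zpow_mul, show ζ ^ (4 : ℤ) = 1 from Units.ext (by simp [ζ, Complex.I_pow_four]), one_zpow]
    obtain ⟨j, hj⟩ : ∃ j : ℤ, (2 : ℤ) ^ n ∣ i * j - 2 := by
      by_cases h2 : (2 : ℤ) ∣ i
      · obtain ⟨u, rfl⟩ := h2
        have hu : Odd u := Int.not_even_iff_odd.1 fun ⟨w, hw⟩ => h4 ⟨w, by rw [hw]; ring⟩
        obtain ⟨p, q, hpq⟩ := isCoprime_two_pow_of_odd hu n
        exact ⟨q, -2 * p, by linear_combination 2 * hpq⟩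
      · have hu : Odd i := Int.not_even_iff_odd.1 fun ⟨w, hw⟩ => h2 ⟨w, by rw [hw]; ring⟩
        obtain ⟨p, q, hpq⟩ := isCoprime_two_pow_of_odd hu n
        exact ⟨2 * q, -2 * p, by linear_combination 2 * hpq⟩
    have hvj : ((v : H) : G) ^ j = (a : G) ^ 2 := by
      have h1 : ((g : G) * (v : G) * (g : G)⁻¹) ^ j = (a : G) ^ 2 := by
        rw [show (g : G) * (v : G) * (g : G)⁻¹ = (a : G) ^ i from hi.symm, ← zpow_mul,
          show (a : G) ^ 2 = (a : G) ^ (2 : ℤ) from (zpow_ofNat _ 2).symm,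
          TwoGroups.zpow_eq_zpow_iff, h.orderOf_a]
        exact_mod_cast hj
      rw [conj_zpow, mul_inv_eq_iff_eq_mul,
        ← mem_centralizer_singleton_iff.1 g.2] at h1
      exact mul_left_cancel h1
    obtain ⟨k, hk⟩ := Subgroup.mem_zpowers_iff.1 (Element.pPart_mem_zpowers 2 x)
    refine ⟨k * j, ?_⟩
    simp only
    rw [zpow_mul, ← SubgroupClass.coe_zpow, hk]
    exact hvj
  · rw [h.orderOf_a_sq]
    have : 2 ^ 2 ≤ 2 ^ (n - 1) := Nat.pow_le_pow_right two_pos (by omega)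
    omega
  · -- the number of involutions
    rw [← card_orbit_mul H (b : G)]
    refine Nat.mul_le_mul_right _ (Nat.card_le_card_of_injective (fun s =>
      (⟨s.1, ?_⟩ : {x : G // ∃ g ∈ H, g * b * g⁻¹ = x})) fun x y e => Subtype.ext (congrArg Subtype.val e :))
    obtain ⟨k, hk, hkS⟩ := exists_conj_le_sylow_of_le S hSM
      (IsPGroup.of_card (G := zpowers s.1) (n := 1) (by
        rw [Nat.card_zpowers, pow_one]
        exact orderOf_eq_prime (by rw [pow_two, s.2.2.2]) fun e => s.2.2.1 (by rw [e]; exact one_mem H)))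
      (zpowers_le.2 s.2.1)
    set s' : (S : Subgroup G) := ⟨k * s.1 * k⁻¹, hkS _ (mem_zpowers _)⟩ with hs'
    have hs'H : k * s.1 * k⁻¹ ∉ H := fun e => s.2.2.1 (by
      simpa [mul_assoc] using hnormH k⁻¹ (inv_mem hk) _ e)
    rcases h.inv_cases (s := s') (Subtype.ext (by simp [hs', conj_mul, s.2.2.2])) with e | e | ⟨-, j, e⟩
    · exact absurd (by rw [show k * s.1 * k⁻¹ = 1 from e]; exact one_mem H) hs'H
    · exact absurd (by rw [show k * s.1 * k⁻¹ = _ from e]; exact hzH) hs'H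
    · have e' : (k⁻¹ * (a : G) ^ j) * b * (k⁻¹ * (a : G) ^ j)⁻¹ = s.1 := by
        rw [show k⁻¹ * (a : G) ^ j * b * (k⁻¹ * (a : G) ^ j)⁻¹
          = k⁻¹ * ((a : G) ^ j * b * ((a : G) ^ j)⁻¹) * k by group, e]
        simp [hs', mul_assoc]
      have hgM : k⁻¹ * (a : G) ^ j ∈ M := mul_mem (inv_mem hk) (zpow_mem (hSM a.2) j)
      by_cases hgH : k⁻¹ * (a : G) ^ j ∈ H
      · exact ⟨_, hgH, e'⟩
      · exact ⟨_, htwo _ hgM hgH, by
          rw [← e']; simp [mul_assoc, inv_eq_of_mul_eq_one_right h.bb, h.bb]⟩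

/-- The criterion: a configuration with no element of order four centralizing `u` and enough
involutions is impossible. -/
theorem false_of_bound {H M : Subgroup G} {lam : H →* ℂˣ} {u w : G} (k : Key H M lam u w)
    (hu : ∀ y : G, y * u = u * y → orderOf y ≠ 4) {c : ℕ}
    (hc : c ≤ Nat.card ↥(centralizer ({(a : G) ^ 2} : Set G) ⊓ centralizer ({(b : G)} : Set G)))
    (hlt : 2 * Nat.card H * Nat.card (centralizer ({(a : G) ^ 2} : Set G)) <
      Nat.card (Invs H M) ^ 2 * c ^ 2) : False := by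
  classical
  haveI := h.simple
  haveI := Fintype.ofFinite G
  obtain ⟨M', lam', k', hI⟩ := h.exists_key_four
  set A := Nat.card (centralizer ({(a : G) ^ 2} : Set G))
  refine false_of_ratio h.not_comm h.orderOf_z h.all_conj k k' (fun x hx _ g hg => ?_) ?_
  · obtain ⟨i, hi⟩ := h.q_mem_zpowers_sq
    simp only at hi
    have h1 : Commute (g * u * g⁻¹) (MC.qG n a) := by
      obtain ⟨j, hj⟩ := hg
      simp only at hj
      rw [← hj, ← hi]
      exact Commute.zpow_zpow (mem_centralizer_singleton_iff.1 hx) j i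
    refine hu (g⁻¹ * MC.qG n a * g) ?_ ?_
    · calc g⁻¹ * MC.qG n a * g * u = g⁻¹ * (MC.qG n a * (g * u * g⁻¹)) * g := by group
        _ = g⁻¹ * (g * u * g⁻¹ * MC.qG n a) * g := by rw [h1.eq]
        _ = u * (g⁻¹ * MC.qG n a * g) := by group
    · rw [show g⁻¹ * MC.qG n a * g = MulAut.conj g⁻¹ (MC.qG n a) by simp, MulEquiv.orderOf_eq,
        h.orderOf_q]
  · set J := Nat.card (Invs (centralizer ({(a : G) ^ 2} : Set G)) M')
    have hJ : J * c ≤ A := (Nat.mul_le_mul_left J hc).trans hI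
    have hc0 : 0 < c ^ 2 := by
      rcases Nat.eq_zero_or_pos c with e | e
      · rw [e] at hlt; simp at hlt
      · positivity
    have hA : 0 < A := Nat.card_pos
    refine Nat.lt_of_mul_lt_mul_right (a := c ^ 2) ?_
    calc 2 * (J ^ 2 * Nat.card H) * c ^ 2 = 2 * Nat.card H * (J * c) ^ 2 := by ring
      _ ≤ 2 * Nat.card H * A ^ 2 := by gcongr
      _ = (2 * Nat.card H * A) * A := by ring
      _ < (Nat.card (Invs H M) ^ 2 * c ^ 2) * A := Nat.mul_lt_mul_of_pos_right hlt hA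
      _ = _ := by ring

end Hyp

end Cfsg.Agent.GW.SD
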