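import Cfsg.Agent.GW.SD.CaseB
import Cfsg.Agent.GW.Almost

/-!
No simple group with cyclic odd Sylow subgroups has quasi-dihedral Sylow 2-subgroups.
-/

set_option autoImplicit false
set_option linter.unusedSectionVars false
set_option linter.style.haveILetI false

open Cfsg

namespace Cfsg.Agent.GW

open Subgroup TwoGroups TwoFusion SD

universe u

/-- Simple groups with cyclic odd Sylow subgroups whose non-solvable proper subgroups are almost
`PSL₂(p)` do not have quasi-dihedral Sylow 2-subgroups. -/
theorem no_semidihedral {T : Type u} [Group T] [Finite T] [hT : IsSimpleGroup T] (hodd : OddCyclic T)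
    (S : Sylow 2 T) (hS : Cfsg.IsQuasiDihedral (S : Subgroup T))
    (hIH : ∀ H : Subgroup T, H ≠ ⊤ → ¬ Group.IsSolvable H → AlmostPSL H) : False := by
  classical
  haveI : Fact (Nat.Prime 2) := ⟨Nat.prime_two⟩
  obtain ⟨n, a, b, hqd⟩ := QDData.of_isQuasiDihedral hS
  have h : Hyp S n a b := ⟨hqd, hT, hodd⟩
  set C := centralizer ({MC.zG n a} : Set T) with hC
  by_cases hsol : Group.IsSolvable C
  · exact h.false_of_solvable hsol
  obtain ⟨p, hp, h5, X, L, hXn, hLn, hXL, hidx, hXodd, hcop, hiso⟩ :=
    hIH C h.centralizer_z_ne_top hsol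
  set X' := X.map C.subtype with hX'
  set L' := L.map C.subtype with hL'
  have hXcard : Nat.card X' = Nat.card X := card_map_of_injective C.subtype_injective
  have hLcard : Nat.card L' = Nat.card L := card_map_of_injective C.subtype_injective
  rcases hiso with ⟨⟨e⟩⟩ | ⟨⟨e⟩⟩
  · obtain ⟨hs, hns⟩ := not_solvable_psl (p := p) h5
    -- `L` has even order and so contains the central involution
    have heven : 2 ∣ Nat.card L := by
      by_contra hd
      refine hns ?_
      haveI : Group.IsSolvable L' := isSolvable_of_odd hodd (by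
        rw [hLcard]; exact Nat.not_even_iff_odd.1 (fun he => hd (even_iff_two_dvd.1 he)))
      exact Group.isSolvable_of_surjective
        (f := (e.toMonoidHom.comp (L.equivMapOfInjective C.subtype C.subtype_injective).symm.toMonoidHom))
        (e.surjective.comp (MulEquiv.surjective _))
    obtain ⟨i, hi⟩ := exists_prime_orderOf_dvd_card' (G := L) 2 heven
    obtain ⟨k, hkC, hkS⟩ := exists_conj_le_sylow_of_le S h.S_le_centralizer
      (isPGroup_zpowers_of_pow (x := ((i : C) : T)) (k := 1) (by
        rw [pow_one, ← hi, ← Subgroup.orderOf_coe, ← Subgroup.orderOf_coe]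
        exact pow_orderOf_eq_one _))
      (zpowers_le.2 (i : C).2)
    set s : (S : Subgroup T) := ⟨k * ((i : C) : T) * k⁻¹, hkS _ (mem_zpowers _)⟩ with hs'
    have hii : ((i : C) : T) * ((i : C) : T) = 1 := by
      rw [← pow_two, ← hi, ← Subgroup.orderOf_coe, ← Subgroup.orderOf_coe]
      exact pow_orderOf_eq_one _
    have hi1 : ((i : C) : T) ≠ 1 := fun e => by
      rw [← orderOf_eq_one_iff, Subgroup.orderOf_coe, Subgroup.orderOf_coe, hi] at e
      omega
    have hsL : (⟨(s : T), h.S_le_centralizer s.2⟩ : C) ∈ L := by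
      have := hLn.conj_mem (i : C) i.2 ⟨k, hkC⟩
      exact this
    have hzC : MC.zG n a ∈ C := h.S_le_centralizer h.z_mem
    have hzL : (⟨MC.zG n a, hzC⟩ : C) ∈ L := by
      rcases h.inv_cases (s := s) (Subtype.ext (by simp [hs', conj_mul, hii])) with e' | e' | ⟨hsA, -⟩
      · exact absurd (conj_eq_one_iff.1 e') hi1
      · convert hsL using 2
        exact e'.symm
      · have hinvq : (s : T) * MC.qG n a * (s : T)⁻¹ = (MC.qG n a)⁻¹ :=
          congrArg Subtype.val (MC.inverts_quarter h.qd.toMaxClassData hsA)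
        have hq : MC.qG n a ∈ C := mem_centralizer_singleton_iff.2 (by
          rw [← h.q_sq, mul_assoc])
        set sC : C := ⟨(s : T), h.S_le_centralizer s.2⟩
        set qC : C := ⟨MC.qG n a, hq⟩
        have h1 : sC * (qC * sC⁻¹ * qC⁻¹) ∈ L := mul_mem hsL (hLn.conj_mem _ (inv_mem hsL) qC)
        have h2 : (sC * (qC * sC⁻¹ * qC⁻¹))⁻¹ ∈ L := inv_mem h1
        convert h2 using 1
        apply Subtype.ext
        show MC.zG n a = ((s : T) * (MC.qG n a * (s : T)⁻¹ * (MC.qG n a)⁻¹))⁻¹
        rw [show (s : T) * (MC.qG n a * (s : T)⁻¹ * (MC.qG n a)⁻¹)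
          = (s : T) * MC.qG n a * (s : T)⁻¹ * (MC.qG n a)⁻¹ by group, hinvq, ← h.q_sq]
        simp
    -- a simple group has trivial centre
    haveI := hs
    set zL : L := ⟨⟨MC.zG n a, hzC⟩, hzL⟩
    have hzc : e zL ∈ center (Matrix.ProjectiveSpecialLinearGroup (Fin 2) (ZMod p)) :=
      mem_center_iff.2 fun y => by
        obtain ⟨l, rfl⟩ := e.surjective y
        rw [← map_mul, ← map_mul]
        congr 1
        exact Subtype.ext (Subtype.ext (mem_centralizer_singleton_iff.1 (l : C).2))
    rcases (inferInstance : (center (Matrix.ProjectiveSpecialLinearGroup (Fin 2) (ZMod p))).Normal).eq_bot_or_eq_top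
      with e' | e'
    · rw [e', mem_bot, ← map_one e] at hzc
      exact h.z_ne_one (congrArg (fun x : L => ((x : C) : T)) (e.injective hzc))
    · exact hns (Group.isSolvable_of_comm fun x y => (mem_center_iff.1 (e' ▸ mem_top x) y).symm)
  · have hle : X' ⊔ L' ≤ C := sup_le (map_subtype_le X) (map_subtype_le L)
    have hnorm : ∀ (Y : Subgroup C), Y.Normal → ∀ g ∈ C, ∀ x ∈ Y.map C.subtype,
        g * x * g⁻¹ ∈ Y.map C.subtype := by
      rintro Y hY g hg _ ⟨y, hy, rfl⟩
      exact ⟨⟨g, hg⟩ * y * ⟨g, hg⟩⁻¹, hY.conj_mem y hy ⟨g, hg⟩, rfl⟩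
    have d : AData h p X' L' :=
      { five := h5
        le := hle
        normX := hnorm X hXn
        normL := hnorm L hLn
        disj := by rw [hX', hL', ← map_inf_eq X L C.subtype C.subtype_injective, hXL, Subgroup.map_bot]
        index := by
          rw [hX', hL', ← Subgroup.map_sup, relIndex, subgroupOf]
          erw [comap_map_eq_self_of_injective C.subtype_injective]
          exact hidx
        odd := hXcard ▸ hXodd
        cop := by rw [hXcard, hLcard]; exact hcop
        iso := ⟨(L.equivMapOfInjective C.subtype C.subtype_injective).symm.trans e⟩ }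
    exact d.false_case

end Cfsg.Agent.GW
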