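import Cfsg.Agent.GW.SD.Degree
import Cfsg.Agent.OddChar.FixedPoint
import Cfsg.Agent.FGSev.ZGroupAction
import Cfsg.Agent.GW.Def
import Cfsg.Agent.GW.CycMain

/-!
Tools for the quasi-dihedral case: the fixed-point formula for a four-group, action of commutators
on groups with cyclic Sylow subgroups, and the numerical contradiction.
-/

set_option autoImplicit false
set_option linter.unusedSectionVars false
set_option linter.style.haveILetI false

open Cfsg

namespace Cfsg.Agent.GW.SD

open Subgroup

universe u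

variable {G : Type u} [Group G] [Finite G]

/-- The fixed-point formula for commuting involutions acting on a subgroup of odd order. -/
theorem card_four_fixed {K : Subgroup G} (hK : Odd (Nat.card K)) (hsolv : Group.IsSolvable K)
    {e f : G} (he : e * e = 1) (hf : f * f = 1) (he1 : e ≠ 1) (hf1 : f ≠ 1) (hef : e ≠ f)
    (hc : e * f = f * e) (heK : e ∈ normalizer (K : Set G)) (hfK : f ∈ normalizer (K : Set G)) :
    Nat.card K * Nat.card ↥(K ⊓ centralizer ({e, f} : Set G)) ^ 2 =
      Nat.card ↥(K ⊓ centralizer ({e} : Set G)) * Nat.card ↥(K ⊓ centralizer ({f} : Set G)) *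
        Nat.card ↥(K ⊓ centralizer ({e * f} : Set G)) := by
  classical
  obtain ⟨U, hU, heU, hfU, hUmem⟩ := four_of_commuting he hf he1 hf1 hef hc
  set M := normalizer (K : Set G)
  have hKM : K ≤ M := le_normalizer
  have hUM : U ≤ M := fun x hx => by
    rcases (hUmem x).1 hx with rfl | rfl | rfl | rfl
    exacts [one_mem M, heK, hfK, mul_mem heK hfK]
  have hef1 : e * f ≠ 1 := fun h => hef (by
    rw [mul_eq_one_iff_eq_inv, inv_eq_of_mul_eq_one_right hf] at h; exact h)
  have hne1 : e * f ≠ e := fun h => hf1 (mul_left_cancel (h.trans (mul_one e).symm))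
  have hne2 : e * f ≠ f := fun h => he1 (mul_right_cancel (h.trans (one_mul f).symm))
  have hz : ∀ {x : G}, x * x = 1 → ∀ g, g ∈ zpowers x ↔ g = 1 ∨ g = x := fun {x} hx g => by
    refine ⟨?_, fun h => by rcases h with rfl | rfl <;> simp⟩
    rintro ⟨i, rfl⟩
    rcases Int.even_or_odd i with ⟨j, rfl⟩ | ⟨j, rfl⟩
    · left; simp [zpow_add, ← (Commute.refl x).mul_zpow, hx]
    · right; simp [zpow_add, two_mul, ← (Commute.refl x).mul_zpow, hx]
  have heef : (e * f) * (e * f) = 1 := by
    rw [mul_assoc, ← mul_assoc f, ← hc, mul_assoc, hf, mul_one, he]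
  let A : Fin 5 → Subgroup G := ![U, ⊥, zpowers e, zpowers f, zpowers (e * f)]
  have hA : ∀ i, A i ≤ U := fun i => by
    fin_cases i <;> simp [A, zpowers_le, heU, hfU, mul_mem heU hfU]
  let m : Fin 5 → ℕ := ![1, 2, 0, 0, 0]
  let n : Fin 5 → ℕ := ![0, 0, 1, 1, 1]
  haveI : (K.subgroupOf M).Normal := normal_in_normalizer
  have hs : Group.IsSolvable (K.subgroupOf M) :=
    Group.isSolvable_of_isSolvable_injective (f := (subgroupOfEquivOfLe hKM).toMonoidHom)
      (subgroupOfEquivOfLe hKM).injective
  have key := OddChar.FixedPoint.card_fixed_prod (S := U.subgroupOf M) (H := K.subgroupOf M) hs (by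
      rw [Nat.card_congr (subgroupOfEquivOfLe hKM).toEquiv,
        Nat.card_congr (subgroupOfEquivOfLe hUM).toEquiv, hU.1, show (4 : ℕ) = 2 ^ 2 by norm_num]
      exact hK.coprime_two_right.pow_right 2)
    (fun i => (A i).subgroupOf M) (fun i => comap_mono (hA i)) m n (by
      intro g hg
      rw [mem_subgroupOf, hUmem] at hg
      have d2 : (1 : G) ≠ e := he1.symm
      have d3 : (1 : G) ≠ f := hf1.symm
      have d4 : (1 : G) ≠ e * f := hef1.symm
      simp only [mem_subgroupOf, Fin.sum_univ_five, A, m, n, Matrix.cons_val_zero, Matrix.cons_val_one,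
        Matrix.cons_val, mem_bot, hz he, hz hf, hz heef, hUmem]
      rcases hg with q | q | q | q <;>
        simp [q, he1, hf1, hef, hef.symm, hef1, hne1, hne2, hne1.symm, hne2.symm])
  have hcard : ∀ i, Nat.card ↥((A i).subgroupOf M) = Nat.card (A i) := fun i =>
    Nat.card_congr (subgroupOfEquivOfLe ((hA i).trans hUM)).toEquiv
  simp only [OddChar.FixedPoint.card_inf_centralizer_subgroupOf ((hA _).trans hUM) hKM, hcard] at key
  have ho : ∀ {x : G}, x * x = 1 → x ≠ 1 → orderOf x = 2 := fun {x} hx hx1 =>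
    orderOf_eq_prime (by rw [pow_two, hx]) hx1
  have hcz : ∀ x : G, centralizer ((zpowers x : Subgroup G) : Set G) = centralizer ({x} : Set G) :=
    fun x => by rw [zpowers_eq_closure, centralizer_closure]
  have hcU : centralizer (U : Set G) = centralizer ({e, f} : Set G) := by
    refine le_antisymm (centralizer_le ?_) fun x hx => mem_centralizer_iff.2 fun g hg => ?_
    · rintro x (rfl | rfl)
      exacts [heU, hfU]
    · have h1 := mem_centralizer_iff.1 hx e (by simp)
      have h2 := mem_centralizer_iff.1 hx f (by simp)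
      rcases (hUmem g).1 hg with rfl | rfl | rfl | rfl
      · simp
      · exact h1
      · exact h2
      · rw [mul_assoc, h2, ← mul_assoc, h1, mul_assoc]
  have hbot : K ⊓ centralizer (((⊥ : Subgroup G) : Set G)) = K := inf_eq_left.2 fun x _ =>
    mem_centralizer_iff.2 fun y hy => by rw [mem_bot.1 hy, one_mul, mul_one]
  simp only [Fin.prod_univ_five, A, m, n, Matrix.cons_val_zero, Matrix.cons_val_one, Matrix.cons_val,
    one_mul, zero_mul, pow_zero, mul_one, hU.1, Subgroup.card_bot, hbot, hcU, hcz, Nat.card_zpowers,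
    ho he he1, ho hf hf1, ho heef hef1] at key
  refine Nat.pow_left_injective two_ne_zero ?_
  simp only [mul_pow] at key ⊢
  linarith [key]

/-- A commutator element of order prime to that of a normal subgroup with cyclic Sylow subgroups
centralises it. -/
theorem commute_of_mem_commutator {W : Subgroup G} [W.Normal] [IsZGroup W] {g : G}
    (hg : g ∈ commutator G) (hcop : (orderOf g).Coprime (Nat.card W)) {w : G} (hw : w ∈ W) :
    g * w = w * g := by
  classical
  haveI := IsZGroup.isCyclic_commutator (G := W)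
  let φ : G →* MulAut W := MulAut.conjNormal
  have hmap : ∀ (σ : MulAut W) (x : W), x ∈ commutator W → σ x ∈ commutator W := fun σ x hx =>
    (Subgroup.characteristic_iff_map_le.1 (inferInstance : (commutator W).Characteristic) σ)
      ⟨x, hx, rfl⟩
  have hcomm : ∀ {A : Type u} [CommGroup A] [IsCyclic A] (σ τ : A →* A) (x : A),
      σ (τ x) = τ (σ x) := by
    intro A _ _ σ τ x
    obtain ⟨i, hi⟩ := MonoidHom.map_cyclic σ
    obtain ⟨j, hj⟩ := MonoidHom.map_cyclic τ
    rw [hj, hi, hi, hj, ← _root_.zpow_mul, ← _root_.zpow_mul, mul_comm]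
  -- commutators fix the derived group and act trivially on the quotient by it
  let L : Subgroup G :=
    { carrier := {a | (∀ x ∈ commutator W, φ a x = x) ∧
        ∀ x, Abelianization.of (φ a x) = Abelianization.of x}
      one_mem' := by simp
      mul_mem' := fun {a b} ha hb => ⟨fun x hx => by rw [map_mul, MulAut.mul_apply, hb.1 x hx, ha.1 x hx],
        fun x => by rw [map_mul, MulAut.mul_apply, ha.2, hb.2]⟩
      inv_mem' := fun {a} ha => ⟨fun x hx => by
          rw [map_inv, MulAut.inv_def, MulEquiv.symm_apply_eq, ha.1 x hx],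
        fun x => by
          have := ha.2 ((φ a⁻¹) x)
          rw [map_inv, MulAut.inv_def, MulEquiv.apply_symm_apply] at this
          rw [map_inv, MulAut.inv_def]
          exact this.symm⟩ }
  have hL : commutator G ≤ L := by
    rw [commutator_def, commutator_le]
    intro a _ b _
    refine ⟨fun x hx => ?_, fun x => ?_⟩
    · letI : CommGroup (commutator W) := IsCyclic.commGroup
      let res : MulAut W → (commutator W →* commutator W) := fun σ =>
        { toFun := fun x => ⟨σ x, hmap σ x x.2⟩
          map_one' := Subtype.ext (map_one σ)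
          map_mul' := fun _ _ => Subtype.ext (map_mul σ _ _) }
      have key : ∀ y ∈ commutator W, φ a (φ b y) = φ b (φ a y) := fun y hy =>
        congrArg Subtype.val (hcomm (res (φ a)) (res (φ b)) ⟨y, hy⟩)
      rw [commutatorElement_def, map_mul, map_mul, map_mul, map_inv, map_inv, MulAut.mul_apply,
        MulAut.mul_apply, MulAut.mul_apply]
      have h2 : (φ a)⁻¹ ((φ b)⁻¹ x) ∈ commutator W := hmap _ _ (hmap _ _ hx)
      rw [key _ h2, MulAut.inv_def, MulEquiv.apply_symm_apply, MulAut.inv_def,
        MulEquiv.apply_symm_apply]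
    · let res : MulAut W → (Abelianization W →* Abelianization W) := fun σ =>
        Abelianization.map σ.toMonoidHom
      have key : ∀ y, Abelianization.of (φ a (φ b y)) = Abelianization.of (φ b (φ a y)) := fun y =>
        hcomm (res (φ a)) (res (φ b)) (Abelianization.of y)
      rw [commutatorElement_def, map_mul, map_mul, map_mul, map_inv, map_inv, MulAut.mul_apply,
        MulAut.mul_apply, MulAut.mul_apply, key, MulAut.inv_def, MulEquiv.apply_symm_apply,
        MulAut.inv_def, MulEquiv.apply_symm_apply]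
  obtain ⟨h1, h2⟩ := hL hg
  obtain ⟨v, hv, hgw⟩ : ∃ v ∈ commutator W, φ g ⟨w, hw⟩ = ⟨w, hw⟩ * v :=
    ⟨_, (QuotientGroup.eq).1 (h2 ⟨w, hw⟩).symm, (mul_inv_cancel_left _ _).symm⟩
  have hk : ∀ k : ℕ, φ (g ^ k) ⟨w, hw⟩ = ⟨w, hw⟩ * v ^ k := by
    intro k
    induction k with
    | zero => simp
    | succ k ih =>
      rw [pow_succ', map_mul, MulAut.mul_apply, ih, map_mul, hgw, map_pow, h1 v hv, mul_assoc,
        ← pow_succ']
  have h3 := hk (orderOf g)
  rw [pow_orderOf_eq_one, map_one, MulAut.one_apply, left_eq_mul] at h3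
  have hv1 : v = 1 := orderOf_eq_one_iff.1 (Nat.eq_one_of_dvd_coprimes hcop
    (orderOf_dvd_of_pow_eq_one h3) (_root_.orderOf_dvd_natCard v))
  rw [hv1, mul_one] at hgw
  have := congrArg Subtype.val hgw
  rw [MulAut.conjNormal_apply] at this
  exact mul_inv_eq_iff_eq_mul.1 this

/-- The two equations are incompatible when the first weight exceeds twice the second. -/
theorem false_of_ratio [Fintype G] [IsSimpleGroup G] (hna : ¬ IsMulCommutative G)
    {t : G} (ht : orderOf t = 2)
    (hconj : ∀ x y : G, orderOf x = 2 → orderOf y = 2 → IsConj x y)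
    {H M : Subgroup G} {lam : H →* ℂˣ} {u w : G} (k : Key H M lam u w)
    {H' M' : Subgroup G} {lam' : H' →* ℂˣ} {u' w' : G} (k' : Key H' M' lam' u' w')
    (hne : ∀ h ∈ H', u' ∈ zpowers h → ∀ g, g * u * g⁻¹ ∉ zpowers h)
    (hlt : 2 * (Nat.card (Invs H' M') ^ 2 * Nat.card H) < Nat.card (Invs H M) ^ 2 * Nat.card H') :
    False := by
  obtain ⟨F, y, hF, hy, -, e1, e2⟩ := exists_degree hna ht hconj k k' hne
  set c : ℤ := (Nat.card (centralizer ({t} : Set G)) : ℤ) ^ 2
  set P : ℤ := (Nat.card (Invs H M) : ℤ) ^ 2 * Nat.card H'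
  set Q : ℤ := (Nat.card (Invs H' M') : ℤ) ^ 2 * Nat.card H
  have hc : c ≠ 0 := pow_ne_zero _ (by exact_mod_cast (Nat.card_pos).ne')
  have hF0 : F ≠ 0 := by intro h; rw [h] at hF; norm_num at hF
  have e3 : c * (F * (P * (F + 1) - Q * (F - 1))) = 0 := by
    simp only [P, Q]
    linear_combination (Nat.card H : ℤ) * e2 - (Nat.card H' : ℤ) * e1
  have e4 : P * (F + 1) = Q * (F - 1) := sub_eq_zero.1
    ((mul_eq_zero.1 ((mul_eq_zero.1 e3).resolve_left hc)).resolve_left hF0)
  have hPQ : 2 * Q < P := by simp only [P, Q]; exact_mod_cast hlt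
  have hQ : 0 ≤ Q := by positivity
  rcases le_abs.1 hF with h | h <;> nlinarith

end Cfsg.Agent.GW.SD
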